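import Mathlib

/-!
# Glueing of morphisms and of schemes

* `hom_ext_of_open` : equality of morphisms tested on jointly surjective open immersions;
* `glue_of_opens` : glueing of morphisms determined by a local condition with uniqueness;
* `GDat`, `exists_glue` : glueing of schemes over `S` along opens, the glueing given by pairs of maps.
-/

set_option autoImplicit false
set_option linter.unusedVariables false
set_option backward.isDefEq.respectTransparency false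
set_option backward.isDefEq.respectTransparency.types false

universe u

open CategoryTheory CategoryTheory.Limits AlgebraicGeometry TopologicalSpace

namespace K864.SchGlue

theorem hom_ext_of_open {X Y : Scheme.{u}} (a b : X ⟶ Y)
    (h : ∀ x : X, ∃ (T : Scheme.{u}) (j : T ⟶ X) (_ : IsOpenImmersion j), x ∈ Set.range j ∧ j ≫ a = j ≫ b) : a = b := by
  refine Scheme.hom_ext_of_forall a b fun x => ?_
  obtain ⟨T, j, hj, hx, hab⟩ := h x
  refine ⟨j.opensRange, hx, ?_⟩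
  have hr : Set.range j.opensRange.ι ⊆ Set.range j := by
    rw [Scheme.Opens.range_ι]
    rfl
  have e : IsOpenImmersion.lift j j.opensRange.ι hr ≫ j = j.opensRange.ι := IsOpenImmersion.lift_fac _ _ _
  rw [← e, Category.assoc, Category.assoc, hab]

theorem glue_of_opens {X Y : Scheme.{u}} (P : ∀ U : X.Opens, ((U : Scheme.{u}) ⟶ Y) → Prop)
    (hres : ∀ (U V : X.Opens) (h : V ≤ U) (g : (U : Scheme.{u}) ⟶ Y), P U g → P V (X.homOfLE h ≫ g))
    (huniq : ∀ (U : X.Opens) (g g' : (U : Scheme.{u}) ⟶ Y), P U g → P U g' → g = g')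
    (hloc : ∀ x : X, ∃ U : X.Opens, x ∈ U ∧ ∃ g : (U : Scheme.{u}) ⟶ Y, P U g) :
    ∃ g : X ⟶ Y, ∀ (U : X.Opens) (g' : (U : Scheme.{u}) ⟶ Y), P U g' → U.ι ≫ g = g' := by
  choose U hU g hg using hloc
  let 𝒰 : X.OpenCover := X.openCoverOfIsOpenCover U (.mk (by
    rw [eq_top_iff]
    intro x _
    exact Opens.mem_iSup.2 ⟨x, hU x⟩))
  have comp : ∀ x y : X, pullback.fst (U x).ι (U y).ι ≫ g x = pullback.snd (U x).ι (U y).ι ≫ g y := by
    intro x y
    have hr : Set.range (pullback.fst (U x).ι (U y).ι ≫ (U x).ι) ⊆ Set.range (U x ⊓ U y).ι := by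
      rw [Scheme.Opens.range_ι]
      rintro _ ⟨z, rfl⟩
      refine ⟨(pullback.fst (U x).ι (U y).ι z).2, ?_⟩
      rw [pullback.condition]
      exact (pullback.snd (U x).ι (U y).ι z).2
    let l := IsOpenImmersion.lift (U x ⊓ U y).ι (pullback.fst (U x).ι (U y).ι ≫ (U x).ι) hr
    have hl : l ≫ (U x ⊓ U y).ι = pullback.fst (U x).ι (U y).ι ≫ (U x).ι := IsOpenImmersion.lift_fac _ _ _
    have h1 : l ≫ X.homOfLE inf_le_left = pullback.fst (U x).ι (U y).ι := by
      rw [← cancel_mono (U x).ι, Category.assoc, Scheme.homOfLE_ι, hl]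
    have h2 : l ≫ X.homOfLE inf_le_right = pullback.snd (U x).ι (U y).ι := by
      rw [← cancel_mono (U y).ι, Category.assoc, Scheme.homOfLE_ι, hl, pullback.condition]
    rw [← h1, ← h2, Category.assoc, Category.assoc]
    congr 1
    exact huniq _ _ _ (hres _ _ _ _ (hg x)) (hres _ _ _ _ (hg y))
  let G : X ⟶ Y := 𝒰.glueMorphisms (fun x => g x) comp
  have hG : ∀ x, (U x).ι ≫ G = g x := fun x => 𝒰.ι_glueMorphisms (fun x => g x) comp x
  refine ⟨G, fun V g' hg' => hom_ext_of_open _ _ fun x => ?_⟩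
  let x' : X := V.ι x
  let W : X.Opens := V ⊓ U x'
  refine ⟨W, X.homOfLE inf_le_left, inferInstance, ?_, ?_⟩
  · refine ⟨⟨x', x.2, hU x'⟩, ?_⟩
    apply V.ι.isOpenEmbedding.injective
    have e := congrArg (fun k : (W : Scheme.{u}) ⟶ X => k ⟨x', x.2, hU x'⟩)
      (Scheme.homOfLE_ι X (inf_le_left : W ≤ V))
    exact e
  · rw [Scheme.homOfLE_ι_assoc, ← Scheme.homOfLE_ι_assoc X (inf_le_right : W ≤ U x'), hG]
    exact huniq _ _ _ (hres _ _ _ _ (hg x')) (hres _ _ _ _ hg')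

/-- Glueing data: schemes `U i`, opens `V i j` of `U i` with maps `g i j : V i j ⟶ U j`. -/
structure GDat where
  /-- index type -/
  J : Type u
  /-- charts -/
  U : J → Scheme.{u}
  /-- overlaps -/
  P : J → J → Scheme.{u}
  /-- first inclusion -/
  p₁ : ∀ i j, P i j ⟶ U i
  /-- second inclusion -/
  p₂ : ∀ i j, P i j ⟶ U j
  opn : ∀ i j, IsOpenImmersion (p₁ i j)
  dia : ∀ i, p₁ i i = p₂ i i
  refl : ∀ i, ∃ l : U i ⟶ P i i, l ≫ p₁ i i = 𝟙 _
  symm : ∀ i j, ∃ l : P i j ⟶ P j i, l ≫ p₁ j i = p₂ i j ∧ l ≫ p₂ j i = p₁ i j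
  trans : ∀ i j k, ∃ l : pullback (p₁ i j) (p₁ i k) ⟶ P j k,
    l ≫ p₁ j k = pullback.fst _ _ ≫ p₂ i j ∧ l ≫ p₂ j k = pullback.snd _ _ ≫ p₂ i k

namespace GDat

variable (D : GDat.{u})

instance (i j : D.J) : IsOpenImmersion (D.p₁ i j) := D.opn i j

/-- transition -/
noncomputable def tr (i j : D.J) : D.P i j ⟶ D.P j i := (D.symm i j).choose

@[reassoc (attr := simp)]
theorem tr_p₁ (i j : D.J) : D.tr i j ≫ D.p₁ j i = D.p₂ i j := (D.symm i j).choose_spec.1

@[reassoc (attr := simp)]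
theorem tr_p₂ (i j : D.J) : D.tr i j ≫ D.p₂ j i = D.p₁ i j := (D.symm i j).choose_spec.2

@[reassoc (attr := simp)]
theorem tr_tr (i j : D.J) : D.tr i j ≫ D.tr j i = 𝟙 _ := by
  rw [← cancel_mono (D.p₁ i j), Category.assoc, tr_p₁, tr_p₂, Category.id_comp]

instance (i j : D.J) : IsIso (D.tr i j) := ⟨D.tr j i, by simp, by simp⟩

instance (i j : D.J) : IsOpenImmersion (D.p₂ i j) := by
  rw [← tr_p₁]
  infer_instance

/-- transition on triple intersections -/
noncomputable def tr₃ (i j k : D.J) : pullback (D.p₁ i j) (D.p₁ i k) ⟶ pullback (D.p₁ j k) (D.p₁ j i) :=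
  pullback.lift (D.trans i j k).choose (pullback.fst _ _ ≫ D.tr i j) (by
    rw [(D.trans i j k).choose_spec.1, Category.assoc, tr_p₁])

@[reassoc]
theorem tr₃_snd (i j k : D.J) : D.tr₃ i j k ≫ pullback.snd _ _ = pullback.fst _ _ ≫ D.tr i j := pullback.lift_snd _ _ _

@[reassoc]
theorem tr₃_fst_p₂ (i j k : D.J) : D.tr₃ i j k ≫ pullback.fst _ _ ≫ D.p₂ j k = pullback.snd _ _ ≫ D.p₂ i k := by
  rw [tr₃, pullback.lift_fst_assoc]
  exact (D.trans i j k).choose_spec.2

@[reassoc]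
theorem tr₃_fst_p₁ (i j k : D.J) : D.tr₃ i j k ≫ pullback.fst _ _ ≫ D.p₁ j k = pullback.fst _ _ ≫ D.p₂ i j := by
  rw [tr₃, pullback.lift_fst_assoc]
  exact (D.trans i j k).choose_spec.1

theorem hom_ext₃ {i j k : D.J} {T : Scheme.{u}} {a b : T ⟶ pullback (D.p₁ i j) (D.p₁ i k)}
    (h : a ≫ pullback.fst _ _ ≫ D.p₁ i j = b ≫ pullback.fst _ _ ≫ D.p₁ i j) : a = b := by
  apply pullback.hom_ext
  · rw [← cancel_mono (D.p₁ i j)]
    simpa using h
  · rw [← cancel_mono (D.p₁ i k)]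
    simpa [pullback.condition] using h

theorem tr₃_cocycle (i j k : D.J) : D.tr₃ i j k ≫ D.tr₃ j k i ≫ D.tr₃ k i j = 𝟙 _ := by
  apply D.hom_ext₃
  simp only [Category.assoc, Category.id_comp]
  rw [tr₃_fst_p₁, tr₃_fst_p₂, tr₃_snd_assoc, tr_p₂]

/-- The gluing datum. -/
noncomputable def glueData : Scheme.GlueData.{u} where
  J := D.J
  U := D.U
  V ij := D.P ij.1 ij.2
  f i j := D.p₁ i j
  f_id i := by
    obtain ⟨l, hl⟩ := D.refl i
    exact ⟨l, by rw [← cancel_mono (D.p₁ i i), Category.assoc, hl, Category.comp_id, Category.id_comp], hl⟩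
  t i j := D.tr i j
  t_id i := by
    change D.tr i i = 𝟙 _
    rw [← cancel_mono (D.p₁ i i), tr_p₁, Category.id_comp, D.dia]
  t' i j k := D.tr₃ i j k
  t_fac i j k := D.tr₃_snd i j k
  cocycle i j k := D.tr₃_cocycle i j k
  f_open i j := D.opn i j

end GDat

/-- Glueing of schemes. -/
theorem exists_glue (D : GDat.{u}) {S : Scheme.{u}} (h : ∀ i, D.U i ⟶ S)
    (hh : ∀ i j, D.p₁ i j ≫ h i = D.p₂ i j ≫ h j) :
    ∃ (Y : Scheme.{u}) (s : Y ⟶ S) (e : ∀ i, D.U i ⟶ Y), (∀ i, e i ≫ s = h i) ∧ (∀ i, IsOpenImmersion (e i)) ∧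
      (∀ y : Y, ∃ (i : D.J) (x : D.U i), e i x = y) ∧ (∀ i j, D.p₁ i j ≫ e i = D.p₂ i j ≫ e j) ∧
      (∀ (i j : D.J) (T : Scheme.{u}) (a : T ⟶ D.U i) (b : T ⟶ D.U j), a ≫ e i = b ≫ e j →
        ∃ l : T ⟶ D.P i j, l ≫ D.p₁ i j = a ∧ l ≫ D.p₂ i j = b) := by
  have hc : ∀ i j, D.p₁ i j ≫ D.glueData.ι i = D.p₂ i j ≫ D.glueData.ι j := by
    intro i j
    have h1 : D.tr i j ≫ D.p₁ j i ≫ D.glueData.ι j = D.p₁ i j ≫ D.glueData.ι i := D.glueData.glue_condition i j
    refine h1.symm.trans ?_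
    exact D.tr_p₁_assoc i j (D.glueData.ι j)
  have hl : ∀ (i j : D.J) (T : Scheme.{u}) (a : T ⟶ D.U i) (b : T ⟶ D.U j),
      a ≫ D.glueData.ι i = b ≫ D.glueData.ι j → ∃ l : T ⟶ D.P i j, l ≫ D.p₁ i j = a ∧ l ≫ D.p₂ i j = b := by
    intro i j T a b h
    refine ⟨(D.glueData.vPullbackConeIsLimit i j).lift (PullbackCone.mk a b h),
      (D.glueData.vPullbackConeIsLimit i j).fac (PullbackCone.mk a b h) WalkingCospan.left, ?_⟩
    rw [← GDat.tr_p₁]
    exact (D.glueData.vPullbackConeIsLimit i j).fac (PullbackCone.mk a b h) WalkingCospan.right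
  have hb : ∀ i j : D.J, pullback.fst (D.glueData.ι i) (D.glueData.ι j) ≫ h i =
      pullback.snd (D.glueData.ι i) (D.glueData.ι j) ≫ h j := by
    intro i j
    obtain ⟨l, h1, h2⟩ := hl i j _ (pullback.fst (D.glueData.ι i) (D.glueData.ι j))
      (pullback.snd (D.glueData.ι i) (D.glueData.ι j)) pullback.condition
    rw [← h1, ← h2]
    exact (Category.assoc _ _ _).trans ((congrArg (l ≫ ·) (hh i j)).trans (Category.assoc _ _ _).symm)
  exact ⟨D.glueData.glued, D.glueData.openCover.glueMorphisms h hb, fun i => D.glueData.ι i,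
    fun i => D.glueData.openCover.ι_glueMorphisms h hb i, fun i => inferInstance,
    fun y => D.glueData.ι_jointly_surjective y, hc, hl⟩

end K864.SchGlue
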