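import Groth.Agent.StMod.K864.AtClosed

/-!
# Good moduli spaces are universal for morphisms to algebraic spaces

`existsUnique_factor` : `π : 𝒳 ⥤ᵇ ofSp M` with `Loc π`, `UnitIsIso π`, `M` and `N` algebraic spaces: every `ψ : 𝒳 ⥤ᵇ ofSp N` factors
uniquely through `π`.
-/

set_option autoImplicit false
set_option linter.unusedVariables false
set_option linter.style.haveILetI false
set_option backward.isDefEq.respectTransparency false
set_option backward.isDefEq.respectTransparency.types false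

universe w v u

open CategoryTheory CategoryTheory.Limits AlgebraicGeometry Opposite StMod AlgSt AlgSp TopologicalSpace

namespace K864.UnivSp

open K906 K907.Free K907.Atl K907.Pt K907.Van K907.Closed K907.GM K864.Sep K864.SpFac K864.Fam

variable {S : Scheme.{u}} {𝒳 : BasedCategory.{v, w} (Over S)} {M N : Sp S}
  (h𝒳 : FibCat.IsFibGrpd 𝒳.p) {π : 𝒳 ⥤ᵇ ofSp M} (ψ : 𝒳 ⥤ᵇ ofSp N) (hL : Loc π) (hu : UnitIsIso π) (hN : IsAlgSpace N)

include h𝒳 hL hu hN in
/-- Factorization near any point of an affine étale object. -/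
theorem exists_at (E : EtOver M) (hE : IsAffine E.obj.left.left) (y : ↥(etaOf E).base.left) :
    ∃ (E₂ : EtOver M) (_ : IsAffine E₂.obj.left.left) (ω : etaOf E₂ ⟶ etaOf E) (_ : Etale ω.hom.left)
      (_ : y ∈ Set.range ω.hom.left), ∃ g : (yon S).obj (etaOf E₂).base ⟶ N, FacS π ψ (etaOf E₂) g := by
  let O : Set ↥(etaOf E).base.left := {y | ∃ (E₂ : EtOver M) (_ : IsAffine E₂.obj.left.left) (ω : etaOf E₂ ⟶ etaOf E)
    (_ : Etale ω.hom.left) (_ : y ∈ Set.range ω.hom.left), ∃ g : (yon S).obj (etaOf E₂).base ⟶ N, FacS π ψ (etaOf E₂) g}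
  have hO : IsOpen O := by
    rw [isOpen_iff_forall_mem_open]
    rintro y ⟨E₂, hE₂, ω, hω, hy, g, hg⟩
    haveI := hω
    exact ⟨Set.range ω.hom.left, fun z hz => ⟨E₂, hE₂, ω, hω, hz, g, hg⟩, ω.hom.left.isOpenMap.isOpen_range, hy⟩
  by_contra hcon
  have hy : y ∈ Oᶜ := hcon
  have hE' : IsAffine (etaOf E).base.left := hE
  obtain ⟨z, hz, hzc⟩ := hO.isClosed_compl.exists_closed_singleton ⟨y, hy⟩
  exact hz (K864.AtClosed.exists_at_closed h𝒳 hL hu hN ψ E hE z hzc)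

include h𝒳 hL hu hN in
/-- Étale neighbourhoods over which `ψ` factors. -/
theorem exists_piece (hM : IsAlgSpace M) (m : (ofSp M).obj) (t : ↥m.base.left) :
    ∃ (n : (ofSp M).obj) (a : n ⟶ m) (q : (ofSp M).obj) (b : n ⟶ q) (g : (yon S).obj q.base ⟶ N), SpGeo.IsEt q ∧
      FacS π ψ q g ∧ Etale a.hom.left ∧ t ∈ Set.range a.hom.left := by
  obtain ⟨E, hE, m', a, b, hm', ha, t', ht'⟩ := K907.EtNhd.exists_etale_nhd hM m t
  obtain ⟨E₂, hE₂, ω, hω, ⟨z, hz⟩, g, hg⟩ := exists_at h𝒳 ψ hL hu hN E hE (b.hom.left t')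
  haveI := hω
  haveI := ha
  let X₁ : Scheme.{u} := m'.base.left
  let X₂ : Scheme.{u} := (etaOf E₂).base.left
  let X₀ : Scheme.{u} := (etaOf E).base.left
  let f₁ : X₁ ⟶ X₀ := b.hom.left
  let f₂ : X₂ ⟶ X₀ := ω.hom.left
  haveI : Etale f₂ := hω
  let n : (ofSp M).obj := ⟨Over.mk (pullback.fst f₁ f₂ ≫ m'.base.hom),
    M.obj.map (Over.homMk (pullback.fst f₁ f₂) : Over.mk (pullback.fst f₁ f₂ ≫ m'.base.hom) ⟶ m'.base).op m'.sec⟩
  let a' : n ⟶ m' := ⟨Over.homMk (pullback.fst f₁ f₂), rfl⟩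
  have ha' : a'.hom.left = pullback.fst f₁ f₂ := rfl
  obtain ⟨b', hb', -⟩ := K862.Lev.exists_ofSp_hom ω (a' ≫ b) (pullback.snd f₁ f₂) pullback.condition.symm
  obtain ⟨s, hs, -⟩ := Scheme.Pullback.exists_preimage_pullback (f := f₁) (g := f₂) t' z hz.symm
  refine ⟨n, a' ≫ a, etaOf E₂, b', g, SpGeo.isEt_etaOf E₂, hg, ?_, ⟨s, ?_⟩⟩
  · change Etale (pullback.fst f₁ f₂ ≫ a.hom.left)
    infer_instance
  · change (pullback.fst f₁ f₂ ≫ a.hom.left) s = t
    rw [Scheme.Hom.comp_apply, hs]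
    exact ht'

/-- A factorization over an étale object. -/
structure Piece (π : 𝒳 ⥤ᵇ ofSp M) (ψ : 𝒳 ⥤ᵇ ofSp N) where
  /-- the object -/
  q : (ofSp M).obj
  /-- the morphism -/
  g : (yon S).obj q.base ⟶ N
  et : SpGeo.IsEt q
  fac : FacS π ψ q g

include h𝒳 hL hu hN in
theorem jsurj (hM : IsAlgSpace M) :
    K615.Pt.JSurj (X := M) (fun i : Piece π ψ => (yon S).obj i.q.base) (fun i => SpGeo.toMap i.q) := by
  intro T x
  let R : Sieve T :=
    { arrows := fun T' g => ∃ (i : Piece π ψ) (y : (yon S).obj T' ⟶ (yon S).obj i.q.base),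
        y ≫ SpGeo.toMap i.q = (yon S).map g ≫ x
      downward_closed := by
        rintro T' T'' g ⟨i, y, h⟩ k
        exact ⟨i, (yon S).map k ≫ y, by rw [Category.assoc, h, Functor.map_comp, Category.assoc]⟩ }
  refine ⟨R, K615.Cov.sieve_mem R fun t => ?_, fun T' g hg => hg⟩
  let m : (ofSp M).obj := ⟨T, (J S).uliftYonedaEquiv x⟩
  have hm : SpGeo.toMap m = x := SpGeo.toMap_mk x
  obtain ⟨n, a, q, b, g, h1, h2, h3, h4⟩ := exists_piece h𝒳 ψ hL hu hN hM m t
  refine ⟨n.base, a.hom, ⟨⟨q, g, h1, h2⟩, (yon S).map b.hom, ?_⟩, inferInstance, inferInstance, h4⟩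
  rw [← hm, SpGeo.toMap_comp, SpGeo.toMap_comp]

include h𝒳 hL hu hN in
theorem fac_unique {m : (ofSp M).obj} (hm : SpGeo.IsEt m) {g g' : (yon S).obj m.base ⟶ N} (h : FacS π ψ m g)
    (h' : FacS π ψ m g') : g = g' :=
  point_unique h𝒳 hL hu hN hm fun ξ α => (h ξ α).trans (h' ξ α).symm

include h𝒳 hL hu hN in
/-- A good moduli space is universal for morphisms to algebraic spaces. -/
theorem existsUnique_factor (hM : IsAlgSpace M) : ∃! g : M ⟶ N, BasedFunctor.comp π (ofSpMap g) = ψ := by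
  have hJ := jsurj h𝒳 ψ hL hu hN hM
  obtain ⟨G, hG⟩ := hJ.exists_desc (fun i => i.g) (by
    intro T i j y y' h
    obtain ⟨R, hR, H⟩ := K615.Cov.charts_refine (SpGeo.toMap i.q) (SpGeo.toMap j.q) i.et j.et T y y' h
    apply K615.Pt.pt_ext R hR
    intro T' k hk
    obtain ⟨W, e, e', t, hW, he, he', h1, h2, h3⟩ := H T' k hk
    let mW : (ofSp M).obj := ⟨W, (J S).uliftYonedaEquiv ((yon S).map e ≫ SpGeo.toMap i.q)⟩
    have hmW : SpGeo.toMap mW = (yon S).map e ≫ SpGeo.toMap i.q := SpGeo.toMap_mk _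
    let ei : mW ⟶ i.q := SpGeo.homMk e hmW.symm
    let ej : mW ⟶ j.q := SpGeo.homMk e' (by rw [hmW, h1])
    have hWe : SpGeo.IsEt mW := SpGeo.isEt_of_hom i.et ei he
    have h4 : (yon S).map e ≫ i.g = (yon S).map e' ≫ j.g :=
      fac_unique h𝒳 ψ hL hu hN hWe (i.fac.comp ei) (j.fac.comp ej)
    rw [← Category.assoc, ← Category.assoc, ← h2, ← h3, Category.assoc, Category.assoc, h4])
  have hGG : BasedFunctor.comp π (ofSpMap G) = ψ := by
    refine SpFac.functor_ext fun ξ => ?_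
    let R : Sieve (𝒳.p.obj ξ) :=
      { arrows := fun T' k => (yon S).map k ≫ zs (BasedFunctor.comp π (ofSpMap G)) ξ = (yon S).map k ≫ zs ψ ξ
        downward_closed := by
          intro T' T'' k h l
          rw [Functor.map_comp, Category.assoc, Category.assoc, h] }
    refine K615.Pt.pt_ext R (K615.Cov.sieve_mem R fun t => ?_) _ _ (fun T' k hk => hk)
    have I := K907.Disj.baseOver_isIso π (𝟙 (π.obj ξ))
    obtain ⟨n, a, q, b, g, h1, h3, h4, t', ht'⟩ := exists_piece h𝒳 ψ hL hu hN hM (π.obj ξ)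
      ((baseOver π ξ (𝟙 (π.obj ξ))).left t)
    obtain ⟨ξ', φ, i, hi, hφ⟩ := K907.Disj.exists_lift_fun h𝒳 (inferInstance : FibCat.IsFibGrpd (ofSp M).p) π a
    have I' := K907.Disj.baseOver_isIso π i
    have e1 : bmap 𝒳 φ ≫ (baseOver π ξ (𝟙 (π.obj ξ))).left = (baseOver π ξ' i).left ≫ a.hom.left := by
      rw [bmap_comp_baseOver_left, Category.comp_id, ← hφ, baseOver_comp, Over.comp_left]
      rfl
    have e2 : bmap 𝒳 φ = ((baseOver π ξ' i).left ≫ a.hom.left) ≫ inv (baseOver π ξ (𝟙 (π.obj ξ))).left := by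
      rw [← e1, Category.assoc, IsIso.hom_inv_id, Category.comp_id]
    have het : Etale (bmap 𝒳 φ) := by
      rw [e2]
      infer_instance
    have het' : Etale (𝒳.p.map φ).left := het
    refine ⟨𝒳.p.obj ξ', 𝒳.p.map φ, ?_, inferInstance, inferInstance, ?_⟩
    · change (yon S).map (𝒳.p.map φ) ≫ _ = (yon S).map (𝒳.p.map φ) ≫ _
      rw [map_zs, map_zs, ← h3 ξ' (i ≫ b), ← baseOver_zs π G (i ≫ b)]
      exact congrArg _ (hG ⟨q, g, h1, h3⟩)
    · obtain ⟨s, hs⟩ := (Scheme.homeoOfIso (asIso (baseOver π ξ' i).left)).surjective t'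
      refine ⟨s, ?_⟩
      apply (Scheme.homeoOfIso (asIso (baseOver π ξ (𝟙 (π.obj ξ))).left)).injective
      have e3 := congrArg (fun k : (𝒳.p.obj ξ').left ⟶ _ => k s) e1
      refine Eq.trans e3 ?_
      change a.hom.left ((baseOver π ξ' i).left s) = _
      rw [show (baseOver π ξ' i).left s = t' from hs, ht']
      rfl
  refine ⟨G, hGG, ?_⟩
  intro g' hg'
  refine (K615.Cov.charts_jsurj hM).ext fun c => ?_
  let m : (ofSp M).obj := ⟨c.U, (J S).uliftYonedaEquiv c.a⟩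
  have hm : SpGeo.toMap m = c.a := SpGeo.toMap_mk c.a
  have hme : SpGeo.IsEt m := by
    unfold SpGeo.IsEt
    rw [hm]
    exact c.etale
  have h1 : SpGeo.toMap m ≫ g' = SpGeo.toMap m ≫ G := fac_unique h𝒳 ψ hL hu hN hme
    (fun ξ α => by rw [baseOver_zs, hg']) (fun ξ α => by rw [baseOver_zs, hGG])
  rw [← hm, h1]

end K864.UnivSp
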