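import Groth.Agent.StMod.K864.Uniq
import Groth.Agent.AlgSp.K615.Cov
import Groth.Agent.StMod.K907.EtNhd

/-!
# Good moduli spaces are universal for morphisms to schemes

* `zW ψ V` : the closed set of points of `𝒳` not mapped into the open `V ⊆ Z`;
* `exists_local` : locally on affine étale objects `ψ` factors;
* `existsUnique_factor`.
-/

set_option autoImplicit false
set_option linter.unusedVariables false
set_option linter.style.haveILetI false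
set_option backward.isDefEq.respectTransparency false
set_option backward.isDefEq.respectTransparency.types false

universe w v u

open CategoryTheory CategoryTheory.Limits AlgebraicGeometry Opposite StMod AlgSt AlgSp TopologicalSpace

namespace K864.Univ

open K906 K907.Free K907.Atl K907.Pt K907.Van K907.Closed K907.GM K864.Sep K864.Zm

variable {S : Scheme.{u}} {𝒳 : BasedCategory.{v, w} (Over S)} {M : Sp S} {Z : Over S}
  (h𝒳 : FibCat.IsFibGrpd 𝒳.p) {π : 𝒳 ⥤ᵇ ofSp M} (ψ : 𝒳 ⥤ᵇ ofSch Z)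

include h𝒳 in
theorem zm_pt {ξ ξ' : 𝒳.obj} {t : ↥(sch 𝒳 ξ)} {t' : ↥(sch 𝒳 ξ')} (h : pt h𝒳 ξ t = pt h𝒳 ξ' t') :
    (zm ψ ξ).left t = (zm ψ ξ').left t' := by
  obtain ⟨r, a, b, -⟩ := (K735.Pts.mk_eq_mk_iff h𝒳).1 h
  have key : ∀ {η : 𝒳.obj} {s : ↥(sch 𝒳 η)} (c : r.obj ⟶ (fpt h𝒳 η s).obj),
      (zm ψ η).left s = (zm ψ r.obj).left (ptt r) := by
    intro η s c
    have h1 : bmap 𝒳 (c ≫ fptArr h𝒳 η s) (ptt r) = s := by
      rw [bmap_comp]
      change bmap 𝒳 (fptArr h𝒳 η s) (bmap 𝒳 c (ptt r)) = s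
      rw [eq_ptt (fpt h𝒳 η s) (bmap 𝒳 c (ptt r)), bmap_fptArr_ptt]
    have h2 := congrArg (fun k : 𝒳.p.obj r.obj ⟶ Z => k.left (ptt r)) (map_zm ψ (c ≫ fptArr h𝒳 η s))
    change (zm ψ η).left (bmap 𝒳 (c ≫ fptArr h𝒳 η s) (ptt r)) = _ at h2
    rw [h1] at h2
    exact h2
  exact (key a).trans (key b).symm

/-- The points of `𝒳` not mapped into `V`. -/
def zW (V : Z.left.Opens) : Set (Points 𝒳) := {x | ∃ (ξ : 𝒳.obj) (t : ↥(sch 𝒳 ξ)), pt h𝒳 ξ t = x ∧ (zm ψ ξ).left t ∉ V}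

theorem mem_zW {V : Z.left.Opens} {ξ : 𝒳.obj} {t : ↥(sch 𝒳 ξ)} : pt h𝒳 ξ t ∈ zW h𝒳 ψ V ↔ (zm ψ ξ).left t ∉ V := by
  constructor
  · rintro ⟨ξ', t', h, h'⟩
    rwa [zm_pt h𝒳 ψ h] at h'
  · intro h
    exact ⟨ξ, t, rfl, h⟩

theorem isCl_zW (V : Z.left.Opens) : IsCl h𝒳 (zW h𝒳 ψ V) := by
  intro ξ hξ
  have : prei h𝒳 (zW h𝒳 ψ V) ξ = (zm ψ ξ).left ⁻¹' (V : Set Z.left)ᶜ := by
    ext t
    rw [mem_prei, mem_zW]
    rfl
  rw [this]
  exact V.isOpen.isClosed_compl.preimage (zm ψ ξ).left.continuous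

variable (hL : Loc π) (hu : UnitIsIso π)

include h𝒳 hL hu in
/-- Local existence. -/
theorem exists_local {m : (ofSp M).obj} (hm : SpGeo.IsEt m) (ha : IsAffine m.base.left) (y : ↥m.base.left) :
    ∃ (m' : (ofSp M).obj) (k : m' ⟶ m), IsOpenImmersion k.hom.left ∧ IsAffine m'.base.left ∧
      y ∈ Set.range k.hom.left ∧ ∃ g : m'.base ⟶ Z, Fac π ψ m' g := by
  obtain ⟨E, hE⟩ := SpGeo.exists_etaOf hm
  subst hE
  obtain ⟨-, ⟨P⟩⟩ := hL E ha
  haveI hζa : IsAffine (sch 𝒳 (FObj.pt P.ζ)) := P.affζ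
  let φ : sch 𝒳 (FObj.pt P.ζ) ⟶ Z.left := (zm ψ (FObj.pt P.ζ)).left
  have hV : ∀ z : Z.left, ∃ V : Z.left.Opens, IsAffineOpen V ∧ z ∈ V := by
    intro z
    obtain ⟨_, ⟨V₀, hV₀, rfl⟩, hzV, -⟩ := Z.left.isBasis_affineOpens.exists_subset_of_mem_open
      (Set.mem_univ z) isOpen_univ
    exact ⟨V₀, hV₀, hzV⟩
  choose V hVa hVm using hV
  obtain ⟨s, hs⟩ := (isCompact_univ (X := ↥(sch 𝒳 (FObj.pt P.ζ)))).elim_nhds_subcover'
    (fun t _ => (φ ⁻¹ᵁ V (φ t) : (sch 𝒳 (FObj.pt P.ζ)).Opens))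
    (fun t _ => (φ ⁻¹ᵁ V (φ t)).isOpen.mem_nhds (hVm (φ t)))
  let e := s.equivFin
  obtain ⟨m', k, i, h1, h2, h3, h4⟩ := exists_nbhd h𝒳 hL hu s.card
    (fun i => zW h𝒳 ψ (V (φ (e.symm i).1.1))) (fun i => isCl_zW h𝒳 ψ _) (etaOf E) hm ha y (fun ξ α t hξ => by
      let a : FObj π (etaOf E) := ⟨ξ, α⟩
      obtain ⟨z', f, d, hz', hf1, hf2⟩ := P.cov a hξ
      obtain ⟨t', ht'⟩ := (show Surjective (bmap 𝒳 f.hom) from hf2).surj t
      have hmem := hs (Set.mem_univ (bmap 𝒳 d.hom t'))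
      simp only [Set.mem_iUnion] at hmem
      obtain ⟨x, hx, hmem⟩ := hmem
      refine ⟨e ⟨x, hx⟩, ?_⟩
      rw [mem_zW, not_not, Equiv.symm_apply_apply]
      have h5 := congrArg (fun k : 𝒳.p.obj z'.pt ⟶ Z => k.left t') (map_zm ψ f.hom)
      have h6 := congrArg (fun k : 𝒳.p.obj z'.pt ⟶ Z => k.left t') (map_zm ψ d.hom)
      change (zm ψ a.pt).left (bmap 𝒳 f.hom t') = _ at h5
      change (zm ψ (FObj.pt P.ζ)).left (bmap 𝒳 d.hom t') = _ at h6
      rw [ht'] at h5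
      change (zm ψ ξ).left t = _ at h5
      rw [h5]
      rw [← h6]
      exact hmem)
  let V' : Z.left.Opens := V (φ (e.symm i).1.1)
  haveI hV' : IsAffine V' := hVa _
  have h5 : ∀ (ξ : 𝒳.obj) (α : π.obj ξ ⟶ m') (t : ↥(sch 𝒳 ξ)), (zm ψ ξ).left t ∈ V' := by
    intro ξ α t
    have h6 : pt h𝒳 ξ t ∉ zW h𝒳 ψ V' := by
      have h7 : pt h𝒳 ξ t = pt h𝒳 (fpt h𝒳 ξ t).obj (ptt (fpt h𝒳 ξ t)) := by
        rw [← pt_map h𝒳 (fptArr h𝒳 ξ t), bmap_fptArr_ptt]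
      rw [h7]
      refine h4 (fpt h𝒳 ξ t).obj (π.map (fptArr h𝒳 ξ t) ≫ α) _ ?_
      change IsAffine (𝒳.p.obj (fpt h𝒳 ξ t).obj).left
      rw [(fpt h𝒳 ξ t).lies]
      change IsAffine (Spec (CommRingCat.of (fpt h𝒳 ξ t).K))
      infer_instance
    rw [mem_zW, not_not] at h6
    exact h6
  have hrange : ∀ (ξ : 𝒳.obj) (α : π.obj ξ ⟶ m'), Set.range (zm ψ ξ).left ⊆ Set.range V'.ι := by
    rintro ξ α _ ⟨t, rfl⟩
    rw [Scheme.Opens.range_ι]
    exact h5 ξ α t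
  have hm' : SpGeo.IsEt m' := SpGeo.isEt_of_hom hm k inferInstance
  obtain ⟨g, hg⟩ := exists_hom_affine hu hm' (V := V')
    (fun ξ α => IsOpenImmersion.lift V'.ι (zm ψ ξ).left (hrange ξ α)) (fun {ξ' ξ} φ α => by
      rw [← cancel_mono V'.ι, Category.assoc, IsOpenImmersion.lift_fac, IsOpenImmersion.lift_fac]
      exact congrArg (fun k : 𝒳.p.obj ξ' ⟶ Z => k.left) (map_zm ψ φ))
  have hg' : ∀ (ξ : 𝒳.obj) (α : π.obj ξ ⟶ m'), (baseOver π ξ α).left ≫ g ≫ V'.ι = (zm ψ ξ).left := by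
    intro ξ α
    rw [← Category.assoc, hg, IsOpenImmersion.lift_fac]
  refine ⟨m', k, h1, h2, h3, Over.homMk (g ≫ V'.ι) ?_, ?_⟩
  · refine hom_ext h𝒳 hL hu hm' fun ξ α => ?_
    rw [← Category.assoc, hg']
    exact (Over.w (zm ψ ξ)).trans (Over.w (baseOver π ξ α)).symm
  · intro ξ α
    apply Over.OverMorphism.ext
    exact hg' ξ α

include h𝒳 hL hu in
theorem fac_unique {m : (ofSp M).obj} (hm : SpGeo.IsEt m) {g g' : m.base ⟶ Z} (h : Fac π ψ m g) (h' : Fac π ψ m g') :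
    g = g' := by
  apply Over.OverMorphism.ext
  refine hom_ext h𝒳 hL hu hm fun ξ α => ?_
  exact congrArg (fun k : 𝒳.p.obj ξ ⟶ Z => k.left) ((h ξ α).trans (h' ξ α).symm)

include h𝒳 hL hu in
/-- Étale neighbourhoods over which `ψ` factors. -/
theorem exists_piece (hM : IsAlgSpace M) (m : (ofSp M).obj) (t : ↥m.base.left) :
    ∃ (n : (ofSp M).obj) (a : n ⟶ m) (q : (ofSp M).obj) (b : n ⟶ q) (g : q.base ⟶ Z), SpGeo.IsEt q ∧
      IsAffine q.base.left ∧ Fac π ψ q g ∧ Etale a.hom.left ∧ t ∈ Set.range a.hom.left := by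
  obtain ⟨E, hE, m', a, b, hm', ha, t', ht'⟩ := K907.EtNhd.exists_etale_nhd hM m t
  obtain ⟨q, k, h1, h2, ⟨z, hz⟩, g, hg⟩ := exists_local h𝒳 ψ hL hu (SpGeo.isEt_etaOf E) hE (b.hom.left t')
  let U : m'.base.left.Opens := b.hom.left ⁻¹ᵁ k.hom.left.opensRange
  have hUt : t' ∈ U := ⟨z, hz⟩
  have hrange : Set.range (U.ι ≫ b.hom.left) ⊆ Set.range k.hom.left := by
    rintro _ ⟨x, rfl⟩
    exact x.2
  let l : (mo m' U).base.left ⟶ q.base.left := IsOpenImmersion.lift k.hom.left (U.ι ≫ b.hom.left) hrange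
  have hl : l ≫ k.hom.left = U.ι ≫ b.hom.left := IsOpenImmersion.lift_fac _ _ _
  let l' : (mo m' U).base ⟶ q.base := Over.homMk l (by
    have e1 : k.hom.left ≫ (etaOf E).base.hom = q.base.hom := Over.w k.hom
    have e2 : b.hom.left ≫ (etaOf E).base.hom = m'.base.hom := Over.w b.hom
    rw [← e1, reassoc_of% hl, e2]
    rfl)
  have hl' : l' ≫ k.hom = (moι m' U).hom ≫ b.hom := Over.OverMorphism.ext hl
  refine ⟨mo m' U, moι m' U ≫ a, q, SpGeo.homMk l' ?_, g, SpGeo.isEt_of_hom (SpGeo.isEt_etaOf E) k inferInstance, h2, hg,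
    ?_, ⟨⟨t', hUt⟩, ?_⟩⟩
  · rw [← SpGeo.toMap_comp k, ← Category.assoc, ← Functor.map_comp, hl', Functor.map_comp, Category.assoc,
      SpGeo.toMap_comp, SpGeo.toMap_comp]
  · change Etale ((moι m' U).hom.left ≫ a.hom.left)
    infer_instance
  · change a.hom.left (U.ι ⟨t', hUt⟩) = t
    exact ht'

/-- A factorization over an affine étale object. -/
structure Piece (π : 𝒳 ⥤ᵇ ofSp M) (ψ : 𝒳 ⥤ᵇ ofSch Z) where
  /-- the object -/
  q : (ofSp M).obj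
  /-- the morphism -/
  g : q.base ⟶ Z
  et : SpGeo.IsEt q
  aff : IsAffine q.base.left
  fac : Fac π ψ q g

include h𝒳 hL hu in
theorem jsurj (hM : IsAlgSpace M) :
    K615.Pt.JSurj (X := M) (fun i : Piece π ψ => (yon S).obj i.q.base) (fun i => SpGeo.toMap i.q) := by
  intro T x
  let R : Sieve T :=
    { arrows := fun T' g => ∃ (i : Piece π ψ) (y : (yon S).obj T' ⟶ (yon S).obj i.q.base),
        y ≫ SpGeo.toMap i.q = (yon S).map g ≫ x
      downward_closed := by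
        rintro T' T'' g ⟨i, y, h⟩ k
        exact ⟨i, (yon S).map k ≫ y, by rw [Category.assoc, h, Functor.map_comp, Category.assoc]⟩ }
  refine ⟨R, K615.Cov.sieve_mem R fun t => ?_, fun T' g hg => hg⟩
  let m : (ofSp M).obj := ⟨T, (J S).uliftYonedaEquiv x⟩
  have hm : SpGeo.toMap m = x := SpGeo.toMap_mk x
  obtain ⟨n, a, q, b, g, h1, h2, h3, h4, h5⟩ := exists_piece h𝒳 ψ hL hu hM m t
  refine ⟨n.base, a.hom, ⟨⟨q, g, h1, h2, h3⟩, (yon S).map b.hom, ?_⟩, inferInstance, inferInstance, h5⟩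
  rw [← hm, SpGeo.toMap_comp, SpGeo.toMap_comp]

include h𝒳 hL hu in
/-- A good moduli space is universal for morphisms to schemes. -/
theorem existsUnique_factor (hM : IsAlgSpace M) :
    ∃! g : M ⟶ (yon S).obj Z, BasedFunctor.comp π (ofSpMap g) = ψ := by
  have hJ := jsurj h𝒳 ψ hL hu hM
  obtain ⟨G, hG⟩ := hJ.exists_desc (fun i => (yon S).map i.g) (by
    intro T i j y y' h
    obtain ⟨R, hR, H⟩ := K615.Cov.charts_refine (SpGeo.toMap i.q) (SpGeo.toMap j.q) i.et j.et T y y' h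
    apply K615.Pt.pt_ext R hR
    intro T' k hk
    obtain ⟨W, e, e', t, hW, he, he', h1, h2, h3⟩ := H T' k hk
    let mW : (ofSp M).obj := ⟨W, (J S).uliftYonedaEquiv ((yon S).map e ≫ SpGeo.toMap i.q)⟩
    have hmW : SpGeo.toMap mW = (yon S).map e ≫ SpGeo.toMap i.q := SpGeo.toMap_mk _
    let ei : mW ⟶ i.q := SpGeo.homMk e hmW.symm
    let ej : mW ⟶ j.q := SpGeo.homMk e' (by rw [hmW, h1])
    have hWe : SpGeo.IsEt mW := SpGeo.isEt_of_hom i.et ei he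
    have h4 : e ≫ i.g = e' ≫ j.g := fac_unique h𝒳 ψ hL hu hWe (i.fac.comp ei) (j.fac.comp ej)
    have h5 : (yon S).map e ≫ (yon S).map i.g = (yon S).map e' ≫ (yon S).map j.g := by
      rw [← Functor.map_comp, ← Functor.map_comp, h4]
    rw [← Category.assoc, ← Category.assoc, ← h2, ← h3, Category.assoc, Category.assoc, h5])
  have hGz : ∀ i : Piece π ψ, zg G i.q = i.g := fun i => (yon S).map_injective (by rw [yon_zg, hG])
  have hGG : BasedFunctor.comp π (ofSpMap G) = ψ := by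
    refine functor_ext fun ξ => ?_
    apply (yon S).map_injective
    let R : Sieve (𝒳.p.obj ξ) :=
      { arrows := fun T' k => k ≫ zm (BasedFunctor.comp π (ofSpMap G)) ξ = k ≫ zm ψ ξ
        downward_closed := by
          intro T' T'' k h l
          rw [Category.assoc, Category.assoc, h] }
    refine K615.Pt.pt_ext R (K615.Cov.sieve_mem R fun t => ?_) _ _ (fun T' k hk => by
      rw [← Functor.map_comp, ← Functor.map_comp]
      exact congrArg _ hk)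
    have I := K907.Disj.baseOver_isIso π (𝟙 (π.obj ξ))
    obtain ⟨n, a, q, b, g, h1, h2, h3, h4, t', ht'⟩ := exists_piece h𝒳 ψ hL hu hM (π.obj ξ)
      ((baseOver π ξ (𝟙 (π.obj ξ))).left t)
    obtain ⟨ξ', φ, i, hi, hφ⟩ := K907.Disj.exists_lift_fun h𝒳 (inferInstance : FibCat.IsFibGrpd (ofSp M).p) π a
    have I' := K907.Disj.baseOver_isIso π i
    have e1 : bmap 𝒳 φ ≫ (baseOver π ξ (𝟙 (π.obj ξ))).left = (baseOver π ξ' i).left ≫ a.hom.left := by
      rw [bmap_comp_baseOver_left, Category.comp_id, ← hφ, baseOver_comp, Over.comp_left]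
      rfl
    have e2 : bmap 𝒳 φ = ((baseOver π ξ' i).left ≫ a.hom.left) ≫ inv (baseOver π ξ (𝟙 (π.obj ξ))).left := by
      rw [← e1, Category.assoc, IsIso.hom_inv_id, Category.comp_id]
    have het : Etale (bmap 𝒳 φ) := by
      rw [e2]
      infer_instance
    have het' : Etale (𝒳.p.map φ).left := het
    refine ⟨𝒳.p.obj ξ', 𝒳.p.map φ, ?_, inferInstance, inferInstance, ?_⟩
    · change 𝒳.p.map φ ≫ _ = 𝒳.p.map φ ≫ _
      rw [map_zm, map_zm, ← h3 ξ' (i ≫ b), ← baseOver_zg π G (i ≫ b)]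
      exact congrArg _ (hGz ⟨q, g, h1, h2, h3⟩)
    · obtain ⟨s, hs⟩ := (Scheme.homeoOfIso (asIso (baseOver π ξ' i).left)).surjective t'
      refine ⟨s, ?_⟩
      apply (Scheme.homeoOfIso (asIso (baseOver π ξ (𝟙 (π.obj ξ))).left)).injective
      have e3 := congrArg (fun k : (𝒳.p.obj ξ').left ⟶ _ => k s) e1
      refine Eq.trans e3 ?_
      change a.hom.left ((baseOver π ξ' i).left s) = _
      rw [show (baseOver π ξ' i).left s = t' from hs, ht']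
      rfl
  refine ⟨G, hGG, ?_⟩
  · intro g' hg'
    refine (K615.Cov.charts_jsurj hM).ext fun c => ?_
    let m : (ofSp M).obj := ⟨c.U, (J S).uliftYonedaEquiv c.a⟩
    have hm : SpGeo.toMap m = c.a := SpGeo.toMap_mk c.a
    have hme : SpGeo.IsEt m := by
      unfold SpGeo.IsEt
      rw [hm]
      exact c.etale
    have h1 : zg g' m = zg G m := fac_unique h𝒳 ψ hL hu hme
      (fun ξ α => by rw [baseOver_zg, hg']) (fun ξ α => by rw [baseOver_zg, hGG])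
    rw [← hm, ← yon_zg, ← yon_zg, h1]

end K864.Univ
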