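import Groth.Agent.StMod.K864.GluGM
import Groth.Agent.StMod.K907.GoodE
import Groth.Agent.AlgSt.K738.Unr3

/-!
# Points of stacks over schemes

* `map_eq_iff` : the images in `|ofSch Z|` of the points of objects agree iff the images in `Z` do;
* `preimage_eq` : the preimage of `|Y i|` under the glued map is the open substack `i`.
-/

set_option autoImplicit false
set_option linter.unusedVariables false
set_option linter.style.haveILetI false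
set_option backward.isDefEq.respectTransparency false
set_option backward.isDefEq.respectTransparency.types false

universe w v u

open CategoryTheory CategoryTheory.Limits AlgebraicGeometry Opposite StMod AlgSt AlgSp TopologicalSpace

namespace K864.Glu

open K906 K907.Free K907.Atl K907.Pt K907.Closed K899.OpenCrit K864.Zm K864.Sep K864.Locus K864.SchGlue K734.Fib

variable {S : Scheme.{u}}

section Pts

variable {𝒳 : BasedCategory.{v, w} (Over S)} {𝒳' : BasedCategory.{v, w} (Over S)} (h : FibCat.IsFibGrpd 𝒳.p)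
  (h' : FibCat.IsFibGrpd 𝒳'.p)

theorem map_eq_iff {Z : Over S} (ψ : 𝒳 ⥤ᵇ ofSch Z) (ψ' : 𝒳' ⥤ᵇ ofSch Z) {ξ : 𝒳.obj} {ξ' : 𝒳'.obj}
    {t : ↥(sch 𝒳 ξ)} {t' : ↥(sch 𝒳' ξ')} :
    Points.map ψ (pt h ξ t) = Points.map ψ' (pt h' ξ' t') ↔ (zm ψ ξ).left t = (zm ψ' ξ').left t' := by
  have hf : FibCat.IsFibGrpd (ofSch Z).p := Stk.isFibGrpd_ofPsh _
  rw [map_pt h hf ψ (𝟙 (ψ.obj ξ)) t, map_pt h' hf ψ' (𝟙 (ψ'.obj ξ')) t', pt_ofSch_eq_iff]
  have key : ∀ {𝒳 : BasedCategory.{v, w} (Over S)} (ψ : 𝒳 ⥤ᵇ ofSch Z) (ξ : 𝒳.obj) (t : ↥(sch 𝒳 ξ)),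
      (ψ.obj ξ).sec.down.left ((baseOver ψ ξ (𝟙 (ψ.obj ξ))).left t) = (zm ψ ξ).left t := by
    intro 𝒳 ψ ξ t
    have e : baseOver ψ ξ (𝟙 (ψ.obj ξ)) = eqToHom (ψ.w_obj ξ).symm := by
      unfold baseOver
      rw [CategoryTheory.Functor.map_id]
      exact Category.comp_id _
    rw [e]
    rfl
  rw [key ψ ξ t, key ψ' ξ' t']

end Pts

section Main

variable {𝒳 : AlgSt.Cat S} {D : GMDat 𝒳} (G : D.Glued)

namespace GMDat.Glued

theorem zm_e (i : D.ι) (y : (ofSch (D.Y i)).obj) :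
    zm (ofSpMap ((yon S).map (G.e i))) y = y.sec.down ≫ G.e i := Category.id_comp _

/-- The preimage of the points of the chart `i`. -/
theorem preimage_eq (i : D.ι) :
    Points.map G.π ⁻¹' Set.range (Points.map (ofSpMap ((yon S).map (G.e i)))) =
      Set.range (Points.map (subIncl 𝒳 (D.Q i))) := by
  have hf : FibCat.IsFibGrpd (ofSch (D.Y i)).p := Stk.isFibGrpd_ofPsh _
  ext x
  obtain ⟨ξ, t, rfl⟩ := exists_pt_eq D.h𝒳 x
  rw [pt_mem_range (D.hQ i) D.h𝒳, G.mem_loc_iff]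
  constructor
  · rintro ⟨q, hq⟩
    obtain ⟨y, s, rfl⟩ := exists_pt_eq hf q
    rw [map_eq_iff hf D.h𝒳, G.zm_e, G.zm_π] at hq
    exact ⟨y.sec.down.left s, hq⟩
  · rintro ⟨z, hz⟩
    refine ⟨pt hf (⟨D.Y i, ⟨𝟙 (D.Y i)⟩⟩ : (ofSch (D.Y i)).obj) z, ?_⟩
    rw [map_eq_iff hf D.h𝒳, G.zm_e, G.zm_π]
    exact hz

end GMDat.Glued

variable (h𝒳 : AlgSt.IsAlgStack Scheme.fppfPrecoverage 𝒳)
  (ι : Type u) (Q : ι → 𝒳.obj → Prop) (hQ : ∀ i, AlgSt.IsOpenSubstack 𝒳 (Q i) Scheme.fppfPrecoverage)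
  (hcov : ∀ x : AlgSt.Points 𝒳, ∃ i, x ∈ Set.range (AlgSt.Points.map (AlgSt.subIncl 𝒳 (Q i))))
  (Y : ι → Over S) (φ : ∀ i, AlgSt.fullSub 𝒳 (Q i) ⥤ᵇ AlgSt.ofSch (Y i))
  (hL : ∀ i, Loc (φ i)) (hu : ∀ i, UnitIsIso (φ i))
  (hsat : ∀ i j, AlgSt.Points.map (φ i) ⁻¹' (AlgSt.Points.map (φ i) ''
        (AlgSt.Points.map (AlgSt.subIncl 𝒳 (Q i)) ⁻¹' Set.range (AlgSt.Points.map (AlgSt.subIncl 𝒳 (Q j))))) =
      AlgSt.Points.map (AlgSt.subIncl 𝒳 (Q i)) ⁻¹' Set.range (AlgSt.Points.map (AlgSt.subIncl 𝒳 (Q j))))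

/-- The glueing datum of a saturated open cover. -/
noncomputable def gmDat : GMDat 𝒳 where
  h𝒳 := h𝒳.isStack.1
  ι := ι
  Q := Q
  hQ i := K738.Unr.hasOpenLocus_of h𝒳 (hQ i)
  Y := Y
  φ := φ
  hL := hL
  hu := hu
  cov x t := by
    obtain ⟨i, hi⟩ := hcov (pt h𝒳.isStack.1 x t)
    exact ⟨i, (pt_mem_range (K738.Unr.hasOpenLocus_of h𝒳 (hQ i)) h𝒳.isStack.1).1 hi⟩
  sat i j x x' hx hx' t t' he ht := by
    have hi := K738.Unr.hasOpenLocus_of h𝒳 (hQ i)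
    have hj := K738.Unr.hasOpenLocus_of h𝒳 (hQ j)
    have hF := isFib hi h𝒳.isStack.1
    have h1 : pt hF (⟨x, hx⟩ : (fullSub 𝒳 (Q i)).obj) t ∈
        Points.map (subIncl 𝒳 (Q i)) ⁻¹' Set.range (Points.map (subIncl 𝒳 (Q j))) := by
      rw [Set.mem_preimage, map_subIncl_pt hi h𝒳.isStack.1, pt_mem_range hj h𝒳.isStack.1]
      exact ht
    have h2 : Points.map (φ i) (pt hF (⟨x', hx'⟩ : (fullSub 𝒳 (Q i)).obj) t') ∈ Points.map (φ i) ''
        (Points.map (subIncl 𝒳 (Q i)) ⁻¹' Set.range (Points.map (subIncl 𝒳 (Q j)))) :=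
      ⟨_, h1, (map_eq_iff hF hF (φ i) (φ i)).2 he⟩
    have h3 : pt hF (⟨x', hx'⟩ : (fullSub 𝒳 (Q i)).obj) t' ∈
        Points.map (subIncl 𝒳 (Q i)) ⁻¹' Set.range (Points.map (subIncl 𝒳 (Q j))) := by
      rw [← hsat i j]
      exact h2
    rw [Set.mem_preimage, map_subIncl_pt hi h𝒳.isStack.1, pt_mem_range hj h𝒳.isStack.1] at h3
    exact h3

end Main

end K864.Glu
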