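import Groth.Agent.StMod.K864.Top
import Groth.Agent.CurvSt.K899.OpenCrit

/-!
# Open loci on the schemes under the objects

`Q` with `HasOpenLocus Q`. `loc hQ x` : the open of `sch x` where `Q` holds; `mem_loc_map`, `iff_forall`, `pt_mem_range`.
-/

set_option autoImplicit false
set_option linter.unusedVariables false
set_option linter.style.haveILetI false
set_option backward.isDefEq.respectTransparency false
set_option backward.isDefEq.respectTransparency.types false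

universe w v u

open CategoryTheory CategoryTheory.Limits AlgebraicGeometry Opposite StMod AlgSt AlgSp TopologicalSpace

namespace K864.Locus

open K906 K907.Free K907.Atl K907.Pt K907.Closed K899.OpenCrit K864.Zm

variable {S : Scheme.{u}} {𝒳 : BasedCategory.{v, w} (Over S)} {Q : 𝒳.obj → Prop} (hQ : HasOpenLocus Q)

/-- The open locus. -/
noncomputable def loc (x : 𝒳.obj) : (sch 𝒳 x).Opens := (hQ x).choose

theorem iff_range {y x : 𝒳.obj} (a : y ⟶ x) : Q y ↔ Set.range (bmap 𝒳 a) ⊆ loc hQ x := (hQ x).choose_spec y a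

variable (h𝒳 : FibCat.IsFibGrpd 𝒳.p)

include h𝒳 in
theorem mem_loc_map {x' x : 𝒳.obj} (a : x' ⟶ x) (t : ↥(sch 𝒳 x')) : t ∈ loc hQ x' ↔ bmap 𝒳 a t ∈ loc hQ x := by
  have h1 := iff_range hQ (fptArr h𝒳 x' t)
  have h2 := iff_range hQ (fptArr h𝒳 x' t ≫ a)
  have e1 : Set.range (bmap 𝒳 (fptArr h𝒳 x' t)) = {t} := by
    ext s
    constructor
    · rintro ⟨r, rfl⟩
      rw [eq_ptt (fpt h𝒳 x' t) r, bmap_fptArr_ptt]
      rfl
    · rintro rfl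
      exact ⟨ptt _, bmap_fptArr_ptt h𝒳 x' s⟩
  have e2 : Set.range (bmap 𝒳 (fptArr h𝒳 x' t ≫ a)) = {bmap 𝒳 a t} := by
    rw [bmap_comp]
    ext s
    constructor
    · rintro ⟨r, rfl⟩
      change bmap 𝒳 a (bmap 𝒳 (fptArr h𝒳 x' t) r) = _
      rw [eq_ptt (fpt h𝒳 x' t) r, bmap_fptArr_ptt]
    · rintro rfl
      refine ⟨ptt _, ?_⟩
      change bmap 𝒳 a (bmap 𝒳 (fptArr h𝒳 x' t) _) = _
      rw [bmap_fptArr_ptt]
  rw [e1, Set.singleton_subset_iff] at h1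
  rw [e2, Set.singleton_subset_iff] at h2
  exact h1.symm.trans h2

theorem iff_forall {x : 𝒳.obj} : Q x ↔ ∀ t : ↥(sch 𝒳 x), t ∈ loc hQ x := by
  rw [iff_range hQ (𝟙 x)]
  have e : bmap 𝒳 (𝟙 x) = 𝟙 _ := by
    rw [bmap, CategoryTheory.Functor.map_id]
    rfl
  rw [e]
  constructor
  · intro h t
    exact h ⟨t, rfl⟩
  · rintro h _ ⟨t, rfl⟩
    exact h t

include h𝒳 in
theorem mem_loc_of_eq {x x' : 𝒳.obj} {t : ↥(sch 𝒳 x)} {t' : ↥(sch 𝒳 x')} (h : pt h𝒳 x t = pt h𝒳 x' t') :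
    t ∈ loc hQ x ↔ t' ∈ loc hQ x' := by
  obtain ⟨r, a, b, -⟩ := (K735.Pts.mk_eq_mk_iff h𝒳).1 h
  have key : ∀ {η : 𝒳.obj} {s : ↥(sch 𝒳 η)} (c : r.obj ⟶ (fpt h𝒳 η s).obj),
      s ∈ loc hQ η ↔ ptt r ∈ loc hQ r.obj := by
    intro η s c
    have h1 : bmap 𝒳 (c ≫ fptArr h𝒳 η s) (ptt r) = s := by
      rw [bmap_comp]
      change bmap 𝒳 (fptArr h𝒳 η s) (bmap 𝒳 c (ptt r)) = s
      rw [eq_ptt (fpt h𝒳 η s) (bmap 𝒳 c (ptt r)), bmap_fptArr_ptt]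
    rw [mem_loc_map hQ h𝒳 (c ≫ fptArr h𝒳 η s) (ptt r), h1]
  exact (key a).trans (key b).symm

include hQ h𝒳 in
/-- The full subcategory of an open locus is fibred in groupoids. -/
theorem isFib : FibCat.IsFibGrpd (fullSub 𝒳 Q).p := isFibGrpd_fullSub h𝒳 fun φ h => hQ.of_hom φ h

theorem map_subIncl_pt (x : (fullSub 𝒳 Q).obj) (t : ↥(sch 𝒳 x.obj)) :
    Points.map (subIncl 𝒳 Q) (pt (isFib hQ h𝒳) x t) = pt h𝒳 x.obj t := by
  have := map_pt (isFib hQ h𝒳) h𝒳 (subIncl 𝒳 Q) (ξ := x) (𝟙 _) t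
  rw [this]
  congr 1
  have e : (baseOver (subIncl 𝒳 Q) x (𝟙 ((subIncl 𝒳 Q).obj x))) = 𝟙 (𝒳.p.obj x.obj) := by
    unfold baseOver
    rw [CategoryTheory.Functor.map_id]
    exact Category.comp_id _
  rw [e]
  rfl

theorem pt_mem_range {x : 𝒳.obj} {t : ↥(sch 𝒳 x)} :
    pt h𝒳 x t ∈ Set.range (Points.map (subIncl 𝒳 Q)) ↔ t ∈ loc hQ x := by
  constructor
  · rintro ⟨q, hq⟩
    obtain ⟨r, rfl⟩ := Points.mk_surjective q
    rw [K907.Disj.mk_eq_pt_self (isFib hQ h𝒳) r (ptt r), map_subIncl_pt hQ h𝒳] at hq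
    rw [← mem_loc_of_eq hQ h𝒳 hq]
    exact (iff_forall hQ).1 r.obj.property _
  · intro ht
    have hp : Q (fpt h𝒳 x t).obj := by
      rw [iff_forall hQ]
      intro s
      rw [mem_loc_map hQ h𝒳 (fptArr h𝒳 x t), eq_ptt (fpt h𝒳 x t) s, bmap_fptArr_ptt]
      exact ht
    refine ⟨pt (isFib hQ h𝒳) ⟨(fpt h𝒳 x t).obj, hp⟩ (ptt (fpt h𝒳 x t)), ?_⟩
    rw [map_subIncl_pt hQ h𝒳]
    have h1 := pt_map h𝒳 (fptArr h𝒳 x t) (ptt (fpt h𝒳 x t))
    rw [bmap_fptArr_ptt] at h1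
    exact h1.symm

theorem exists_pt_eq (z : Points 𝒳) : ∃ (x : 𝒳.obj) (t : ↥(sch 𝒳 x)), pt h𝒳 x t = z := by
  obtain ⟨r, rfl⟩ := Points.mk_surjective z
  exact ⟨r.obj, ptt r, (K907.Disj.mk_eq_pt_self h𝒳 r (ptt r)).symm⟩

/-- Points of `ofSch Z`. -/
theorem pt_ofSch_eq_iff {Z : Over S} {m m' : (ofSch Z).obj} {s : ↥m.base.left} {s' : ↥m'.base.left} :
    pt (Stk.isFibGrpd_ofPsh _ : FibCat.IsFibGrpd (ofSch Z).p) m s =
      pt (Stk.isFibGrpd_ofPsh _ : FibCat.IsFibGrpd (ofSch Z).p) m' s' ↔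
      m.sec.down.left s = m'.sec.down.left s' := by
  have hf : FibCat.IsFibGrpd (ofSch Z).p := Stk.isFibGrpd_ofPsh _
  let m₀ : (ofSch Z).obj := ⟨Z, ⟨𝟙 Z⟩⟩
  let k : ∀ n : (ofSch Z).obj, n ⟶ m₀ := fun n => ⟨n.sec.down, by
    apply ULift.ext
    change n.sec.down ≫ 𝟙 Z = _
    rw [Category.comp_id]⟩
  constructor
  · intro h
    have h1 := K864.Univ.zm_pt hf (BasedFunctor.id (ofSch Z)) h
    have h2 : ∀ n : (ofSch Z).obj, zm (BasedFunctor.id (ofSch Z)) n = n.sec.down := fun n => by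
      unfold K864.Zm.zm
      exact Category.id_comp _
    rw [h2, h2] at h1
    exact h1
  · intro h
    have h1 := pt_map hf (k m) s
    have h2 := pt_map hf (k m') s'
    rw [← h1, ← h2]
    have e : bmap (ofSch Z) (k m) s = bmap (ofSch Z) (k m') s' := h
    rw [e]

end K864.Locus
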