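import Groth.Agent.StMod.K864.Zm
import Groth.Agent.StMod.K907.GM
import Groth.Agent.StMod.K907.Disj

/-!
# Separating closed sets over affine étale objects, and small neighbourhoods

`π : 𝒳 ⥤ᵇ ofSp M` with `Loc π` (over every affine étale object of `M`: global sections are exact, a presentation exists)
and `UnitIsIso π` (both hold for a good moduli space).

* `mo m U`, `moι` : restriction of an object of `ofSp M` to an open subscheme;
* `exists_sepFn` : disjoint closed sets over `E` are separated by a function of `E`;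
* `exists_nbhd` : if finitely many closed sets have no common point over `m`, every point of `m` has an affine open
  neighbourhood over which one of them is empty;
* `mem_of_forall_hit` : a closed subset of `m.base.left` not hit by `𝒳_m` is empty.
-/

set_option autoImplicit false
set_option linter.unusedVariables false
set_option linter.style.haveILetI false
set_option backward.isDefEq.respectTransparency false
set_option backward.isDefEq.respectTransparency.types false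

universe w v u

open CategoryTheory CategoryTheory.Limits AlgebraicGeometry Opposite StMod AlgSt AlgSp TopologicalSpace

namespace K864.Sep

open K906 K907.Free K907.Atl K907.Pt K907.Van K907.Closed K907.GM

variable {S : Scheme.{u}} {𝒳 : BasedCategory.{v, w} (Over S)} {M : Sp S}

section Restr

variable (m : (ofSp M).obj) (U : m.base.left.Opens)

/-- Restriction of an object of `ofSp M` to an open subscheme. -/
def mo : (ofSp M).obj :=
  ⟨Over.mk (U.ι ≫ m.base.hom), M.obj.map (Over.homMk U.ι rfl : Over.mk (U.ι ≫ m.base.hom) ⟶ m.base).op m.sec⟩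

/-- The inclusion of the restriction. -/
def moι : mo m U ⟶ m := ⟨Over.homMk U.ι rfl, rfl⟩

theorem moι_left : (moι m U).hom.left = U.ι := rfl

instance : IsOpenImmersion (moι m U).hom.left := by
  change IsOpenImmersion U.ι
  infer_instance

theorem range_moι : Set.range (moι m U).hom.left = (U : Set ↥m.base.left) := by
  change Set.range U.ι = _
  simp

variable {m}

theorem isEt_mo (h : SpGeo.IsEt m) : SpGeo.IsEt (mo m U) :=
  SpGeo.isEt_of_hom h (moι m U) inferInstance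

end Restr

/-- Exactness and presentations over affine étale objects. -/
def Loc (π : 𝒳 ⥤ᵇ ofSp M) : Prop :=
  ∀ E : EtOver M, IsAffine E.obj.left.left → Exact (fibCat π (etaOf E)) ∧ Nonempty (Pres (fibCat π (etaOf E)))

variable (h𝒳 : FibCat.IsFibGrpd 𝒳.p) {π : 𝒳 ⥤ᵇ ofSp M}

include h𝒳 in
/-- Disjoint closed sets over `E` are separated by a function of `E`. -/
theorem exists_sepFn (hL : Loc π) (hu : UnitIsIso π) (E : EtOver M) (hE : IsAffine E.obj.left.left)
    {W₁ W₂ : Set (Points 𝒳)} (h₁ : IsCl h𝒳 W₁) (h₂ : IsCl h𝒳 W₂)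
    (hd : ∀ (ξ : 𝒳.obj) (α : π.obj ξ ⟶ etaOf E) (t : ↥(sch 𝒳 ξ)), IsAffine (sch 𝒳 ξ) →
      pt h𝒳 ξ t ∈ W₁ → pt h𝒳 ξ t ∉ W₂) :
    ∃ f : Γ(sch (ofSp M) (etaOf E), ⊤), ∀ (ξ : 𝒳.obj) (α : π.obj ξ ⟶ etaOf E) (t : ↥(sch 𝒳 ξ)), IsAffine (sch 𝒳 ξ) →
      (pt h𝒳 ξ t ∈ W₁ → f ∈ (sp ((baseOver π ξ α).left t)).asIdeal) ∧
      (pt h𝒳 ξ t ∈ W₂ → 1 - f ∈ (sp ((baseOver π ξ α).left t)).asIdeal) := by
  obtain ⟨hex, ⟨P⟩⟩ := hL E hE
  have h𝒴 : FibCat.IsFibGrpd (fibCat π (etaOf E)).p := isFibGrpd_fibCat h𝒳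
  have hpt : ∀ (a : FObj π (etaOf E)) (t : ↥(sch 𝒳 a.pt)),
      Points.map (fibPt π (etaOf E)) (pt h𝒴 a t) = pt h𝒳 a.pt t := by
    intro a t
    have := map_pt h𝒴 h𝒳 (fibPt π (etaOf E)) (ξ := a) (𝟙 _) t
    rw [this]
    congr 1
    have e : (baseOver (fibPt π (etaOf E)) a (𝟙 ((fibPt π (etaOf E)).obj a))) = 𝟙 (𝒳.p.obj a.pt) := by
      unfold baseOver
      rw [CategoryTheory.Functor.map_id]
      exact Category.comp_id _
    rw [e]
    rfl
  have hcl : ∀ {W : Set (Points 𝒳)}, IsCl h𝒳 W → IsCl h𝒴 (Points.map (fibPt π (etaOf E)) ⁻¹' W) := by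
    intro W hW a ha
    have : prei h𝒴 (Points.map (fibPt π (etaOf E)) ⁻¹' W) a = prei h𝒳 W a.pt := by
      ext t
      change Points.map (fibPt π (etaOf E)) (pt h𝒴 a t) ∈ W ↔ pt h𝒳 a.pt t ∈ W
      rw [hpt]
    rw [this]
    exact hW a.pt ha
  obtain ⟨Q, q, e, hq, he⟩ := exists_sep h𝒴 (smCov_of_pres.{0} P) (hcl h₁) (hcl h₂) (by
    rw [Set.disjoint_left]
    intro x hx₁ hx₂
    obtain ⟨p, rfl⟩ := Points.mk_surjective x
    have ha : IsAffine (sch 𝒳 (FObj.pt p.obj)) := by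
      have e1 : (fibCat π (etaOf E)).p.obj p.obj = Over.mk p.str := p.lies
      have e2 : (𝒳.p.obj (FObj.pt p.obj)) = Over.mk p.str := e1
      change IsAffine (𝒳.p.obj (FObj.pt p.obj)).left
      rw [e2]
      change IsAffine (Spec (CommRingCat.of p.K))
      infer_instance
    rw [Set.mem_preimage, K907.Disj.mk_eq_pt_self h𝒴 p (ptt p), hpt] at hx₁ hx₂
    exact hd _ (FObj.arr p.obj) _ ha hx₁ hx₂)
  obtain ⟨s, hs⟩ := hex q hq e
  obtain ⟨f, hf⟩ := (isFn π E hu).2 s
  refine ⟨f, fun ξ α t hξ => ?_⟩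
  let a : FObj π (etaOf E) := ⟨ξ, α⟩
  have hfa : (fnSec (fn π E) f).1 a = (baseOver π ξ α).left.appTop f := rfl
  have hk : (q.hom.app a).app ⊤ ((baseOver π ξ α).left.appTop f) = e.1 a := by
    rw [← hs, Mod.globSectMap_val, ← hf]
    rfl
  have := he a hξ _ hk
  constructor
  · intro ht
    have h3 := this.1 t (by rw [Set.mem_preimage, hpt]; exact ht)
    exact (mem_sp_comp _ _ _).2 h3
  · intro ht
    have h3 := this.2 t (by rw [Set.mem_preimage, hpt]; exact ht)
    refine (mem_sp_comp _ _ _).2 ?_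
    rw [map_sub, map_one]
    exact h3

include h𝒳 in
/-- An étale affine object over which there are no points is empty. -/
theorem false_of_empty (hu : UnitIsIso π) {m : (ofSp M).obj} (hm : SpGeo.IsEt m) (y : ↥m.base.left)
    (hno : ∀ (ξ : 𝒳.obj) (α : π.obj ξ ⟶ m) (t : ↥(sch 𝒳 ξ)), IsAffine (sch 𝒳 ξ) → False) : False := by
  obtain ⟨E, rfl⟩ := SpGeo.exists_etaOf hm
  have h1 : (1 : Γ(sch (ofSp M) (etaOf E), ⊤)) = 0 := by
    apply (hu E).1
    haveI := h𝒳
    refine K908.QHom.relSect_ext (C := K908.AMod.ASieve.all 𝒳) K908.Fam.zloc_all π (OQ 𝒳) (etaOf E) (fun ζ α => ?_)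
    have hem : IsEmpty ↥(sch 𝒳 ζ.obj) := ⟨fun t => hno ζ.obj α t ζ.property⟩
    have hsub : Subsingleton Γ(sch 𝒳 ζ.obj, ⊤) := inferInstance
    exact Subsingleton.elim (α := Γ(sch 𝒳 ζ.obj, ⊤)) _ _
  have h2 : (1 : Γ(sch (ofSp M) (etaOf E), ⊤)) ∈ (sp y).asIdeal := by
    rw [h1]
    exact Submodule.zero_mem _
  exact (sp y).isPrime.ne_top ((Ideal.eq_top_iff_one _).2 h2)

include h𝒳 in
/-- Finitely many closed sets without common point over `m`: near every point of `m` one of them is empty. -/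
theorem exists_nbhd (hL : Loc π) (hu : UnitIsIso π) (n : ℕ) : ∀ (W : Fin n → Set (Points 𝒳)), (∀ i, IsCl h𝒳 (W i)) →
    ∀ (m : (ofSp M).obj), SpGeo.IsEt m → IsAffine m.base.left → ∀ (y : ↥m.base.left),
    (∀ (ξ : 𝒳.obj) (α : π.obj ξ ⟶ m) (t : ↥(sch 𝒳 ξ)), IsAffine (sch 𝒳 ξ) → ∃ i, pt h𝒳 ξ t ∉ W i) →
    ∃ (m' : (ofSp M).obj) (k : m' ⟶ m) (i : Fin n), IsOpenImmersion k.hom.left ∧ IsAffine m'.base.left ∧
      y ∈ Set.range k.hom.left ∧ ∀ (ξ : 𝒳.obj) (α : π.obj ξ ⟶ m') (t : ↥(sch 𝒳 ξ)), IsAffine (sch 𝒳 ξ) →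
        pt h𝒳 ξ t ∉ W i := by
  induction n with
  | zero =>
    intro W hW m hm ha y hno
    exact (false_of_empty h𝒳 hu hm y fun ξ α t hξ => by
      obtain ⟨i, -⟩ := hno ξ α t hξ
      exact i.elim0).elim
  | succ n ih =>
    intro W hW m hm ha y hno
    obtain ⟨E, hE⟩ := SpGeo.exists_etaOf hm
    subst hE
    have hE' : IsAffine E.obj.left.left := ha
    obtain ⟨f, hf⟩ := exists_sepFn h𝒳 hL hu E hE' (W₁ := W 0) (W₂ := ⋂ i : Fin n, W i.succ) (hW 0) (fun ξ hξ => by
      have : prei h𝒳 (⋂ i : Fin n, W i.succ) ξ = ⋂ i : Fin n, prei h𝒳 (W i.succ) ξ := by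
        ext t
        simp only [mem_prei, Set.mem_iInter]
      rw [this]
      exact isClosed_iInter fun i => hW i.succ ξ hξ) (fun ξ α t hξ h0 h1 => by
      obtain ⟨i, hi⟩ := hno ξ α t hξ
      refine Fin.cases (fun hi => hi h0) (fun j hi => hi (Set.mem_iInter.1 h1 j)) i hi)
    let f' : Γ((etaOf E).base.left, ⊤) := f
    by_cases hy : f' ∈ (sp y).asIdeal
    · -- `1 - f` is invertible at `y`
      have hy' : 1 - f' ∉ (sp y).asIdeal := by
        intro h1
        have := Ideal.add_mem _ hy h1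
        rw [add_sub_cancel] at this
        exact (sp y).isPrime.ne_top ((Ideal.eq_top_iff_one _).2 this)
      rw [mem_sp, not_not] at hy'
      let U : (etaOf E).base.left.Opens := (etaOf E).base.left.basicOpen (1 - f')
      have hUa : IsAffine (mo (etaOf E) U).base.left :=
        haveI : IsAffine (etaOf E).base.left := ha
        (isAffineOpen_top (etaOf E).base.left).basicOpen (1 - f')
      obtain ⟨m', k, i, h1, h2, ⟨z, hz⟩, h4⟩ := ih (fun i => W i.succ) (fun i => hW i.succ) (mo (etaOf E) U)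
        (isEt_mo U hm) hUa ⟨y, hy'⟩ (fun ξ α t hξ => by
          by_contra hcon
          push Not at hcon
          have h5 := (hf ξ (α ≫ moι _ U) t hξ).2 (Set.mem_iInter.2 hcon)
          refine (mem_sp (X := (etaOf E).base.left) (1 - f') _).1 h5 ?_
          rw [baseOver_comp]
          exact ((baseOver π ξ α).left t).2)
      refine ⟨m', k ≫ moι _ U, i.succ, ?_, h2, ⟨z, ?_⟩, h4⟩
      · change IsOpenImmersion (k.hom.left ≫ (moι _ U).hom.left)
        infer_instance
      · change (moι (etaOf E) U).hom.left (k.hom.left z) = y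
        rw [hz]
        rfl
    · rw [mem_sp, not_not] at hy
      let U : (etaOf E).base.left.Opens := (etaOf E).base.left.basicOpen f'
      have hUa : IsAffine (mo (etaOf E) U).base.left :=
        haveI : IsAffine (etaOf E).base.left := ha
        (isAffineOpen_top (etaOf E).base.left).basicOpen f'
      refine ⟨mo (etaOf E) U, moι _ U, 0, inferInstance, hUa, ?_, fun ξ α t hξ hcon => ?_⟩
      · rw [range_moι]
        exact hy
      · have h5 := (hf ξ (α ≫ moι _ U) t hξ).1 hcon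
        refine (mem_sp f' _).1 h5 ?_
        rw [baseOver_comp]
        exact ((baseOver π ξ α).left t).2

include h𝒳 in
/-- A closed subset of an affine étale object which is not hit is empty. -/
theorem notMem_of_not_hit (hL : Loc π) (hu : UnitIsIso π) {m : (ofSp M).obj} (hm : SpGeo.IsEt m)
    (ha : IsAffine m.base.left) {C : Set ↥m.base.left} (hC : IsClosed C)
    (hno : ∀ (ξ : 𝒳.obj) (α : π.obj ξ ⟶ m) (t : ↥(sch 𝒳 ξ)), IsAffine (sch 𝒳 ξ) → (baseOver π ξ α).left t ∉ C)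
    (y : ↥m.base.left) : y ∉ C := by
  intro hy
  obtain ⟨E, rfl⟩ := SpGeo.exists_etaOf hm
  obtain ⟨hex, ⟨P⟩⟩ := hL E ha
  have h𝒴 : FibCat.IsFibGrpd (fibCat π (etaOf E)).p := isFibGrpd_fibCat h𝒳
  let I : Ideal Γ(sch (ofSp M) (etaOf E), ⊤) := van C
  let t : I → (OQ (fibCat π (etaOf E))).obj.GlobSect := fun r => fnSec (fn π E) r.1
  have hζa : IsAffine (sch 𝒳 (FObj.pt P.ζ)) := P.affζ
  have hspan : ((fnSec (fn π E) 1).1 P.ζ) ∈
      Submodule.span Γ(sch (fibCat π (etaOf E)) P.ζ, ⊤) (Set.range fun i => (t i).1 P.ζ) := by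
    change (fn π E).σ P.ζ 1 ∈ (Ideal.span (Set.range fun i : I => (fn π E).σ P.ζ i.1) :
      Ideal Γ(sch (fibCat π (etaOf E)) P.ζ, ⊤))
    rw [map_one]
    by_contra hcon
    have hne : Ideal.span (Set.range fun i : I => (fn π E).σ P.ζ i.1) ≠ ⊤ := fun h => hcon (h ▸ Submodule.mem_top)
    obtain ⟨q, hq, hle⟩ := Ideal.exists_le_maximal _ hne
    haveI := hζa
    obtain ⟨z, hz⟩ := (sp_bijective (X := sch 𝒳 (FObj.pt P.ζ))).2 ⟨q, hq.isPrime⟩
    refine hno (FObj.pt P.ζ) (FObj.arr P.ζ) z hζa (mem_of_forall_van hC fun r hr => ?_)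
    refine (mem_sp_comp (baseOver π (FObj.pt P.ζ) (FObj.arr P.ζ)).left z r).2 ?_
    have h5 : (baseOver π (FObj.pt P.ζ) (FObj.arr P.ζ)).left.appTop r ∈ q := hle (Ideal.subset_span ⟨⟨r, hr⟩, rfl⟩)
    rw [show (sp z).asIdeal = q from congrArg PrimeSpectrum.asIdeal hz]
    exact h5
  obtain ⟨c, hc⟩ := exists_linComb (fn π E) h𝒴 (isFn π E hu) hex (smCov_of_pres.{0} P) (K907.Chart.cov1_of_pres P)
    (OQ (fibCat π (etaOf E))) t (fnSec (fn π E) 1) hspan
  have h1 : (1 : Γ(sch (ofSp M) (etaOf E), ⊤)) = c.sum (fun i a => a * i.1) := by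
    apply (isFn π E hu).1
    refine globSect_ext_aff h𝒴 (OQ _) fun x hx => ?_
    rw [hc x hx]
    change _ = (fn π E).σ x (c.sum (fun i a => a * i.1))
    rw [Finsupp.sum, Finsupp.sum, map_sum]
    refine Finset.sum_congr rfl fun i _ => ?_
    rw [map_mul]
    rfl
  have h2 : (1 : Γ(sch (ofSp M) (etaOf E), ⊤)) ∈ I := by
    rw [h1]
    exact Ideal.sum_mem _ fun i _ => I.mul_mem_left _ i.2
  have h3 := mem_van.1 h2 y hy
  exact (sp y).isPrime.ne_top ((Ideal.eq_top_iff_one _).2 h3)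

end K864.Sep
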