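import Groth.Agent.StMod.K862.Rep
import Groth.Agent.StMod.K907.Free
import Groth.Agent.StMod.K872.ClosedPt

/-!
# The locus of degree one of a finite étale functor is cut out by a function

`F : 𝒴' ⟶ 𝒴` representable, finite étale; `𝒴` with exact global sections, `A` its ring of global functions. If `F` is an isomorphism
over the object `u` there is `a : A` invertible on `u` such that `F` is an isomorphism over all objects on which `a` is invertible.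

* `dg` : the degree at a point; `dg_map`, `dg_eq` : it depends only on the class of the point;
* `exists_rank_one`.
-/

set_option autoImplicit false
set_option linter.unusedVariables false
set_option linter.style.haveILetI false
set_option backward.isDefEq.respectTransparency false
set_option backward.isDefEq.respectTransparency.types false

universe t v'' w'' v' w' v w u

open CategoryTheory CategoryTheory.Limits AlgebraicGeometry Opposite StMod AlgSt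

namespace K864.RankOne

open K862.Rep K908.Aff K907.Disj K907.FibTerm K906 K907.Pt K907.Closed K907.Atl K907.Sec K907.Free K907.Van K907.Tens

variable {S : Scheme.{u}} {𝒴' : BasedCategory.{v', w'} (Over S)} {𝒴 : BasedCategory.{v, w} (Over S)}
  (h𝒴' : FibCat.IsFibGrpd 𝒴'.p) (h𝒴 : FibCat.IsFibGrpd 𝒴.p) {F : 𝒴' ⥤ᵇ 𝒴} (hF : IsRep (@IsFinite ⊓ @Etale) F)

/-- The degree at a point. -/
noncomputable def dg (ξ : 𝒴.obj) (hξ : IsAffine (sch 𝒴 ξ)) (t : ↥(sch 𝒴 ξ)) : ℕ :=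
  Scheme.Hom.finrank (str F (hF ξ hξ).choose_spec.choose) t

theorem dg_eq_finrank {ξ : 𝒴.obj} (hξ : IsAffine (sch 𝒴 ξ)) {y : 𝒴'.obj} {α : F.obj y ⟶ ξ} (hα : IsTerm F α)
    (t : ↥(sch 𝒴 ξ)) : dg hF ξ hξ t = Scheme.Hom.finrank (str F α) t := by
  obtain ⟨h1, h2⟩ := (hF ξ hξ).choose_spec.choose_spec
  obtain ⟨χ, hχ⟩ := exists_hom (𝟙 ξ) (α' := α) h1
  rw [Category.comp_id] at hχ
  have I := isIso_of_isTerm hα h1 hχ
  have I' : IsIso (bmap 𝒴' χ) := by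
    have : IsIso ((Over.forget S).map (𝒴'.p.map χ)) := inferInstance
    exact this
  haveI := h2.1
  haveI := h2.2
  rw [← hχ, str_map, Scheme.Hom.finrank_comp_left_of_isIso]
  rfl

include h𝒴' h𝒴 in
theorem dg_map {ξ' ξ : 𝒴.obj} (hξ' : IsAffine (sch 𝒴 ξ')) (hξ : IsAffine (sch 𝒴 ξ)) (φ : ξ' ⟶ ξ) (t : ↥(sch 𝒴 ξ')) :
    dg hF ξ' hξ' t = dg hF ξ hξ (bmap 𝒴 φ t) := by
  obtain ⟨y, α, hα, hP⟩ := hF ξ hξ
  obtain ⟨y', ψ, α', h1, h2, h3⟩ := exists_isTerm_bc h𝒴 h𝒴' φ hα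
  haveI := hP.1
  haveI := hP.2
  rw [dg_eq_finrank hF hξ hα, dg_eq_finrank hF hξ' h1]
  exact Scheme.Hom.finrank_of_isPullback _ _ _ _ h3 t

include h𝒴' h𝒴 in
/-- The degree depends only on the class of the point. -/
theorem dg_eq {ξ' ξ : 𝒴.obj} (hξ' : IsAffine (sch 𝒴 ξ')) (hξ : IsAffine (sch 𝒴 ξ)) {t' : ↥(sch 𝒴 ξ')} {t : ↥(sch 𝒴 ξ)}
    (h : pt h𝒴 ξ' t' = pt h𝒴 ξ t) : dg hF ξ' hξ' t' = dg hF ξ hξ t := by
  obtain ⟨r, a, b, -⟩ := (K735.Pts.mk_eq_mk_iff h𝒴).1 h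
  have key : ∀ {η : 𝒴.obj} (hη : IsAffine (sch 𝒴 η)) {s : ↥(sch 𝒴 η)} (c : r.obj ⟶ (fpt h𝒴 η s).obj),
      dg hF η hη s = dg hF r.obj (K872.ClosedPt.isAffine_fpt r) (ptt r) := by
    intro η hη s c
    have h1 : bmap 𝒴 (c ≫ fptArr h𝒴 η s) (ptt r) = s := by
      rw [bmap_comp]
      change bmap 𝒴 (fptArr h𝒴 η s) (bmap 𝒴 c (ptt r)) = s
      rw [eq_ptt (fpt h𝒴 η s) (bmap 𝒴 c (ptt r)), bmap_fptArr_ptt]
    rw [dg_map h𝒴' h𝒴 hF (K872.ClosedPt.isAffine_fpt r) hη (c ≫ fptArr h𝒴 η s), h1]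
  exact (key hξ' a).trans (key hξ b).symm

/-- The points whose degree satisfies `R`. -/
def dW (R : ℕ → Prop) : Set (Points 𝒴) :=
  {x | ∃ (ξ : 𝒴.obj) (hξ : IsAffine (sch 𝒴 ξ)) (t : ↥(sch 𝒴 ξ)), pt h𝒴 ξ t = x ∧ R (dg hF ξ hξ t)}

include h𝒴' in
theorem mem_dW {R : ℕ → Prop} {ξ : 𝒴.obj} (hξ : IsAffine (sch 𝒴 ξ)) {t : ↥(sch 𝒴 ξ)} :
    pt h𝒴 ξ t ∈ dW h𝒴 hF R ↔ R (dg hF ξ hξ t) := by
  constructor
  · rintro ⟨ξ', hξ', t', h1, h2⟩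
    rwa [dg_eq h𝒴' h𝒴 hF hξ' hξ h1] at h2
  · intro h
    exact ⟨ξ, hξ, t, rfl, h⟩

include h𝒴' in
theorem isCl_dW (R : ℕ → Prop) : IsCl h𝒴 (dW h𝒴 hF R) := by
  intro ξ hξ
  obtain ⟨y, α, hα, hP⟩ := hF ξ hξ
  haveI := hP.1
  haveI := hP.2
  have h1 : prei h𝒴 (dW h𝒴 hF R) ξ = Scheme.Hom.finrank (str F α) ⁻¹' {n | R n} := by
    ext t
    rw [mem_prei, mem_dW h𝒴' h𝒴 hF hξ, dg_eq_finrank hF hξ hα]
    rfl
  rw [h1]
  have h2 := (Scheme.Hom.isLocallyConstant_finrank (str F α) {n | ¬ R n}).isClosed_compl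
  have h3 : (Scheme.Hom.finrank (str F α) ⁻¹' {n | ¬ R n})ᶜ = Scheme.Hom.finrank (str F α) ⁻¹' {n | R n} := by
    ext t
    exact not_not
  rwa [h3] at h2

theorem isIso_iff_dg {ξ : 𝒴.obj} (hξ : IsAffine (sch 𝒴 ξ)) {y : 𝒴'.obj} {α : F.obj y ⟶ ξ} (hα : IsTerm F α) :
    IsIso (str F α) ↔ ∀ t, dg hF ξ hξ t = 1 := by
  have hP : (@IsFinite ⊓ @Etale : MorphismProperty Scheme.{u}) (str F α) := hF.prop hξ hα
  haveI := hP.1
  haveI := hP.2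
  rw [Scheme.Hom.isIso_iff_finrank_eq]
  constructor
  · intro h t
    rw [dg_eq_finrank hF hξ hα, h]
    rfl
  · intro h
    funext t
    rw [← dg_eq_finrank hF hξ hα, h]
    rfl

end K864.RankOne

namespace K864.RankOne

open K862.Rep K908.Aff K907.Disj K907.FibTerm K906 K907.Pt K907.Closed K907.Atl K907.Sec K907.Free K907.Van K907.Tens

/-- The locus of degree one is cut out by a function. -/
theorem exists_rank_one {S : Scheme.{u}} {𝒴' : BasedCategory.{v', w'} (Over S)} {𝒴 : BasedCategory.{v, w} (Over S)}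
    (h𝒴' : FibCat.IsFibGrpd 𝒴'.p) (h𝒴 : FibCat.IsFibGrpd 𝒴.p) (P : Pres 𝒴)
    {A : Type u} [CommRing A] (s : Fn A 𝒴) (hs : IsFn s) (hex : K907.Free.Exact 𝒴) (F : 𝒴' ⥤ᵇ 𝒴) (hF : IsRep (@IsFinite ⊓ @Etale) F)
    {u : 𝒴.obj} (hu : IsAffine (sch 𝒴 u)) {y : 𝒴'.obj} (α : F.obj y ⟶ u) (hα : IsTerm F α) (hiso : IsIso (str F α)) :
    ∃ a : A, IsUnit (s.σ u a) ∧ ∀ (ξ : 𝒴.obj), IsAffine (sch 𝒴 ξ) → IsUnit (s.σ ξ a) →
      ∀ (y' : 𝒴'.obj) (α' : F.obj y' ⟶ ξ), IsTerm F α' → IsIso (str F α') := by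
  obtain ⟨Q, q, e, hq, he⟩ := exists_sep h𝒴 (smCov_of_pres.{0} P) (isCl_dW h𝒴' h𝒴 hF (fun n => n ≠ 1))
    (isCl_dW h𝒴' h𝒴 hF (fun n => n = 1)) (by
      rw [Set.disjoint_left]
      rintro x ⟨ξ, hξ, t, rfl, h1⟩ h2
      exact h1 ((mem_dW h𝒴' h𝒴 hF hξ).1 h2))
  obtain ⟨b, hb⟩ := hex q hq e
  obtain ⟨a, rfl⟩ := hs.2 b
  have key : ∀ (ξ : 𝒴.obj) (hξ : IsAffine (sch 𝒴 ξ)) (t : ↥(sch 𝒴 ξ)),
      (dg hF ξ hξ t ≠ 1 → s.σ ξ a ∈ (sp t).asIdeal) ∧ (dg hF ξ hξ t = 1 → 1 - s.σ ξ a ∈ (sp t).asIdeal) := by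
    intro ξ hξ t
    have h1 := he ξ hξ (s.σ ξ a) (congrArg (fun z : Q.obj.GlobSect => z.1 ξ) hb)
    exact ⟨fun h => h1.1 t ((mem_dW h𝒴' h𝒴 hF hξ).2 h), fun h => h1.2 t ((mem_dW h𝒴' h𝒴 hF hξ).2 h)⟩
  refine ⟨a, ?_, fun ξ hξ ha y' α' hα' => ?_⟩
  · rw [isIso_iff_dg hF hu hα] at hiso
    by_contra hcon
    obtain ⟨I, hI, hm⟩ := exists_max_ideal_of_mem_nonunits hcon
    haveI := hI.isPrime
    haveI := hu
    obtain ⟨t, ht⟩ := (sp_bijective (X := sch 𝒴 u)).2 ⟨I, inferInstance⟩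
    have h1 := (key u hu t).2 (hiso t)
    rw [ht] at h1
    have h2 := I.add_mem h1 hm
    rw [sub_add_cancel] at h2
    exact hI.ne_top ((Ideal.eq_top_iff_one _).2 h2)
  · rw [isIso_iff_dg hF hξ hα']
    intro t
    by_contra hcon
    exact (sp t).isPrime.ne_top (Ideal.eq_top_of_isUnit_mem _ ((key ξ hξ t).1 hcon) ha)

end K864.RankOne
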