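import Groth.Agent.StMod.K862.Rep
import Groth.Agent.StMod.K864.Locus

/-!
# Open parts and base changes of representable functors

* `exists_term_sub` : universal arrows for the restriction of `p : 𝒱 ⥤ᵇ 𝒴` to an open locus of `𝒱`;
* `Lv w p`, `lv w p : Lv w p ⥤ᵇ fibCat π η₁` : the base change of `p : 𝒱 ⥤ᵇ fibCat π η` along `w : η₁ ⟶ η`; `exists_term_lv`;
* `hasOpenLocus_isUnit` : the locus where a function is invertible.
-/

set_option autoImplicit false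
set_option linter.unusedVariables false
set_option linter.style.haveILetI false
set_option backward.isDefEq.respectTransparency false
set_option backward.isDefEq.respectTransparency.types false

universe v₄ w₄ v₃ w₃ v₂ w₂ v₁ w₁ v' w' v w u

open CategoryTheory CategoryTheory.Limits AlgebraicGeometry Opposite StMod AlgSt AlgSp TopologicalSpace

namespace K864.Lvl

open K862.Rep K908.Aff K907.Disj K907.FibTerm K906 K899.OpenCrit K864.Locus

variable {S : Scheme.{u}}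

section Sub

variable {𝒱 : BasedCategory.{v, w} (Over S)} {𝒴 : BasedCategory.{v', w'} (Over S)} (p : 𝒱 ⥤ᵇ 𝒴)

/-- The restriction to the open locus. -/
abbrev psub (Q : 𝒱.obj → Prop) : fullSub 𝒱 Q ⥤ᵇ 𝒴 := BasedFunctor.comp (subIncl 𝒱 Q) p

variable {p} {Q : 𝒱.obj → Prop}

theorem str_psub {y : (fullSub 𝒱 Q).obj} {ξ : 𝒴.obj} (α : p.obj y.obj ⟶ ξ) :
    str (psub p Q) (y := y) α = str p α := rfl

/-- Universal arrows on an open locus. -/
theorem exists_term_sub' (h𝒱 : FibCat.IsFibGrpd 𝒱.p) {ξ : 𝒴.obj} {y : 𝒱.obj} (U : (sch 𝒱 y).Opens)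
    (hU : ∀ (z : 𝒱.obj) (a : z ⟶ y), Q z ↔ Set.range (bmap 𝒱 a) ⊆ (U : Set ↥(sch 𝒱 y))) {α : p.obj y ⟶ ξ}
    (hα : IsTerm p α) : ∃ (y₂ : (fullSub 𝒱 Q).obj) (k : y₂.obj ⟶ y), IsOpenImmersion (bmap 𝒱 k) ∧
      Set.range (bmap 𝒱 k) = (U : Set ↥(sch 𝒱 y)) ∧ IsTerm (psub p Q) (w := y₂) (p.map k ≫ α) := by
  haveI := h𝒱
  obtain ⟨y', a, ha, hr⟩ := K908.Fib.exists_restr y U
  have hr' : Set.range (bmap 𝒱 a) = (U : Set ↥(sch 𝒱 y)) := by
    rw [← hr]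
    rfl
  have hy' : Q y' := (hU _ a).2 hr'.subset
  refine ⟨⟨y', hy'⟩, a, ha, hr', fun z β => ?_⟩
  obtain ⟨χ, hχ, hu⟩ := hα z.obj β
  obtain ⟨κ, hκ⟩ := K908.Fib.exists_lift_open a χ (by
    rw [hr']
    exact (hU _ χ).1 z.property)
  refine ⟨ObjectProperty.homMk κ, ?_, ?_⟩
  · change p.map κ ≫ p.map a ≫ α = β
    rw [← Category.assoc, ← Functor.map_comp, hκ]
    exact hχ
  · intro κ' hκ'
    have h1 : κ'.hom ≫ a = χ := hu _ (by
      change p.map κ'.hom ≫ p.map a ≫ α = β at hκ'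
      rw [Functor.map_comp, Category.assoc, hκ'])
    have h2 : κ'.hom = κ := K908.Fib.hom_ext_of_mono a (h1.trans hκ.symm)
    exact ObjectProperty.hom_ext _ h2

/-- Universal arrows on an open locus. -/
theorem exists_term_sub (h𝒱 : FibCat.IsFibGrpd 𝒱.p) (hQ : HasOpenLocus Q) {ξ : 𝒴.obj} {y : 𝒱.obj} {α : p.obj y ⟶ ξ}
    (hα : IsTerm p α) : ∃ (y₂ : (fullSub 𝒱 Q).obj) (k : y₂.obj ⟶ y), IsOpenImmersion (bmap 𝒱 k) ∧
      Set.range (bmap 𝒱 k) = (loc hQ y : Set ↥(sch 𝒱 y)) ∧ IsTerm (psub p Q) (w := y₂) (p.map k ≫ α) :=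
  exists_term_sub' h𝒱 (loc hQ y) (fun z a => iff_range hQ a) hα

end Sub

section Unit

variable {X Y : Scheme.{u}}

theorem isUnit_of_basicOpen_eq_top (b : Γ(X, ⊤)) (h : X.basicOpen b = ⊤) : IsUnit b := by
  have h1 := RingedSpace.isUnit_res_basicOpen X.toRingedSpace b
  have h2 : (homOfLE (X.toRingedSpace.basicOpen_le b)) = eqToHom h := Subsingleton.elim _ _
  rw [h2] at h1
  have h3 : IsIso (X.presheaf.map (eqToHom h).op) := inferInstance
  have h4 : b = (inv (X.presheaf.map (eqToHom h).op)) (X.presheaf.map (eqToHom h).op b) := by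
    rw [← CommRingCat.comp_apply, IsIso.hom_inv_id]
    rfl
  rw [h4]
  exact h1.map (inv (X.presheaf.map (eqToHom h).op)).hom

theorem isUnit_appTop_iff (f : X ⟶ Y) (b : Γ(Y, ⊤)) : IsUnit (f.appTop b) ↔ Set.range f ⊆ (Y.basicOpen b : Set Y) := by
  have h1 : f ⁻¹ᵁ (Y.basicOpen b) = X.basicOpen (f.appTop b) := Scheme.preimage_basicOpen_top f b
  constructor
  · intro h
    rintro _ ⟨x, rfl⟩
    have h2 : X.basicOpen (f.appTop b) = ⊤ := Scheme.basicOpen_of_isUnit _ h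
    have h3 : x ∈ f ⁻¹ᵁ (Y.basicOpen b) := by
      rw [h1, h2]
      trivial
    exact h3
  · intro h
    apply isUnit_of_basicOpen_eq_top
    rw [← h1, eq_top_iff]
    intro x _
    exact h ⟨x, rfl⟩

end Unit

section Lv

variable {𝒳 : BasedCategory.{v, w} (Over S)} {𝒩 : BasedCategory.{v', w'} (Over S)} {π : 𝒳 ⥤ᵇ 𝒩} {η₁ η : 𝒩.obj}
  (ω : η₁ ⟶ η) {𝒱 : BasedCategory.{v₂, w₂} (Over S)} (p : 𝒱 ⥤ᵇ fibCat π η)

/-- The functor to the base of `π`. -/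
abbrev pv (p : 𝒱 ⥤ᵇ fibCat π η) : 𝒱 ⥤ᵇ 𝒩 := BasedFunctor.comp p (BasedFunctor.comp (fibPt π η) π)

/-- The compatibility condition. -/
def LvP (a : (fibCat (pv p) η₁).obj) : Prop := FObj.arr a ≫ ω = FObj.arr (p.obj (FObj.pt a))

theorem LvP.of_hom {a b : (fibCat (pv p) η₁).obj} (φ : b ⟶ a) (h : LvP ω p a) : LvP ω p b := by
  have h1 : (pv p).map φ.hom ≫ FObj.arr a = FObj.arr b := φ.comm
  have h2 : π.map (p.map φ.hom).hom ≫ FObj.arr (p.obj (FObj.pt a)) = FObj.arr (p.obj (FObj.pt b)) := (p.map φ.hom).comm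
  unfold LvP at h ⊢
  rw [← h1, Category.assoc, h]
  exact h2

/-- The base change of `p` along `ω`. -/
abbrev Lv := fullSub (fibCat (pv p) η₁) (LvP ω p)

theorem isFibGrpd_lv (h𝒱 : FibCat.IsFibGrpd 𝒱.p) : FibCat.IsFibGrpd (Lv ω p).p :=
  isFibGrpd_fullSub (isFibGrpd_fibCat h𝒱) fun φ h => LvP.of_hom ω p φ h

/-- The base change functor. -/
def lv : Lv ω p ⥤ᵇ fibCat π η₁ where
  toFunctor :=
    { obj := fun a => ⟨FObj.pt (p.obj (FObj.pt a.obj)), FObj.arr a.obj⟩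
      map := fun {a b} φ => FObj.mkHom (p.map (FObj.Hom.hom φ.hom)).hom φ.hom.comm
      map_id := fun a => by
        refine FObj.hom_ext ?_
        have h := congrArg (fun k => FObj.Hom.hom k) (p.map_id (FObj.pt a.obj))
        exact h
      map_comp := fun φ ψ => by
        refine FObj.hom_ext ?_
        have h := congrArg (fun k => FObj.Hom.hom k) (p.map_comp (FObj.Hom.hom φ.hom) (FObj.Hom.hom ψ.hom))
        exact h }
  w := CategoryTheory.Functor.ext (fun a => by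
      have h : (fibCat π η).p.obj (p.obj (FObj.pt a.obj)) = 𝒱.p.obj (FObj.pt a.obj) := p.w_obj (FObj.pt a.obj)
      exact h) (fun a b φ => by
    have h := Functor.congr_hom p.w (FObj.Hom.hom φ.hom)
    exact h)

variable {ω p}

theorem str_lv {a : (Lv ω p).obj} {ξ : (fibCat π η₁).obj} (α : (lv ω p).obj a ⟶ ξ)
    (β : p.obj (FObj.pt a.obj) ⟶ (fibMap π ω).obj ξ) (h : β.hom = α.hom) :
    str (lv ω p) α = str p β := by
  have h1 : ∀ (ζ : 𝒳.obj) (γ : FObj.pt (p.obj (FObj.pt a.obj)) ⟶ ζ) (e : 𝒱.p.obj (FObj.pt a.obj) = 𝒳.p.obj (FObj.pt (p.obj (FObj.pt a.obj)))),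
    (eqToHom e ≫ 𝒳.p.map γ).left = (eqToHom e ≫ 𝒳.p.map γ).left := fun _ _ _ => rfl
  change (eqToHom _ ≫ 𝒳.p.map α.hom).left = (eqToHom _ ≫ 𝒳.p.map β.hom).left
  rw [h]

/-- Universal arrows of the base change. -/
theorem exists_term_lv {ξ : (fibCat π η₁).obj} {y : 𝒱.obj} {α : p.obj y ⟶ (fibMap π ω).obj ξ} (hα : IsTerm p α) :
    ∃ (b : (pv p).obj y ⟶ η₁) (hb : LvP ω p ⟨y, b⟩) (α₁ : (lv ω p).obj ⟨⟨y, b⟩, hb⟩ ⟶ ξ), α₁.hom = α.hom ∧
      b = π.map α.hom ≫ FObj.arr ξ ∧ IsTerm (lv ω p) α₁ := by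
  have h1 : π.map α.hom ≫ FObj.arr ξ ≫ ω = FObj.arr (p.obj y) := α.comm
  let b : (pv p).obj y ⟶ η₁ := π.map α.hom ≫ FObj.arr ξ
  have hb : LvP ω p ⟨y, b⟩ := by
    change (π.map α.hom ≫ FObj.arr ξ) ≫ ω = FObj.arr (p.obj y)
    rw [Category.assoc, h1]
  refine ⟨b, hb, FObj.mkHom α.hom rfl, rfl, rfl, fun z β => ?_⟩
  have hβ : π.map β.hom ≫ FObj.arr ξ = FObj.arr z.obj := β.comm
  have hz : FObj.arr z.obj ≫ ω = FObj.arr (p.obj (FObj.pt z.obj)) := z.property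
  let β' : p.obj (FObj.pt z.obj) ⟶ (fibMap π ω).obj ξ := FObj.mkHom β.hom (by
    change π.map β.hom ≫ FObj.arr ξ ≫ ω = _
    rw [← hz, ← hβ, Category.assoc])
  obtain ⟨χ, hχ, hu⟩ := hα _ β'
  have hχ' : (p.map χ).hom ≫ α.hom = β.hom := congrArg (fun k => FObj.Hom.hom k) hχ
  refine ⟨ObjectProperty.homMk (FObj.mkHom χ ?_), FObj.hom_ext hχ', ?_⟩
  · change π.map (p.map χ).hom ≫ π.map α.hom ≫ FObj.arr ξ = FObj.arr z.obj
    rw [← Category.assoc, ← Functor.map_comp, hχ', hβ]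
  · intro κ hκ
    have h2 : (p.map (FObj.Hom.hom κ.hom)).hom ≫ α.hom = β.hom := congrArg (fun k => FObj.Hom.hom k) hκ
    have h3 : FObj.Hom.hom κ.hom = χ := hu _ (FObj.hom_ext h2)
    exact ObjectProperty.hom_ext _ (FObj.hom_ext h3)

end Lv

end K864.Lvl
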