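import Groth.Agent.StMod.K906.ExactE
import Groth.Agent.StMod.K862.Lev
import Groth.Agent.StMod.K864.Lvl

/-!
# Affine étale charts of the target of a functor to an algebraic space

`ψ : 𝒴 ⥤ᵇ ofSp N`, `V ⟶ N` étale, `V` affine. The category of the objects of `𝒴` with a lift to `V` is representable, étale and
separated over `𝒴`; its fibres embed into `V`.
-/

set_option autoImplicit false
set_option linter.unusedVariables false
set_option linter.style.haveILetI false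
set_option backward.isDefEq.respectTransparency false
set_option backward.isDefEq.respectTransparency.types false

universe v' w' v w u

open CategoryTheory CategoryTheory.Limits AlgebraicGeometry Opposite StMod AlgSt AlgSp TopologicalSpace

namespace K864.ChartSp

open K862.Rep K862.Lev K908.Aff K907.Disj K907.FibTerm K906

variable {S : Scheme.{u}} {𝒴 : BasedCategory.{v, w} (Over S)} {N : Sp S} (h𝒴 : FibCat.IsFibGrpd 𝒴.p) (ψ : 𝒴 ⥤ᵇ ofSp N)
  (C : EtOver N)

theorem str_fibPt {y : (fibCat ψ (etaOf C)).obj} {ξ : 𝒴.obj} (α : (fibPt ψ (etaOf C)).obj y ⟶ ξ) :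
    str (fibPt ψ (etaOf C)) α = bmap 𝒴 α := by
  rw [str_eq]
  exact Category.id_comp _

include h𝒴 in
theorem isRep (hC : IsAffine C.obj.left.left) : IsRep (@Etale ⊓ @IsSeparated) (fibPt ψ (etaOf C)) := by
  intro ξ hξ
  obtain ⟨y, φ, h1, h2, h3⟩ := K906.ExactE.exists_fibObjP h𝒴 ψ C ξ
  refine ⟨y, φ, h1, ?_, ?_⟩
  · rw [str_fibPt]
    exact h2 @Etale inferInstance C.property
  · rw [str_fibPt]
    exact h3 hC

/-- The morphism to the chart. -/
noncomputable def nu (y : (fibCat ψ (etaOf C)).obj) : sch (fibCat ψ (etaOf C)) y ⟶ C.obj.left.left := (fbase y).left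

theorem nu_map {y' y : (fibCat ψ (etaOf C)).obj} (φ : y' ⟶ y) : bmap (fibCat ψ (etaOf C)) φ ≫ nu ψ C y = nu ψ C y' :=
  bmap_fbase φ

include h𝒴 in
/-- The fibres embed into the chart. -/
theorem ext_nu {y : (fibCat ψ (etaOf C)).obj} {ξ : 𝒴.obj} {φ : (fibPt ψ (etaOf C)).obj y ⟶ ξ}
    (hφ : IsTerm (fibPt ψ (etaOf C)) φ) {T : Scheme.{u}} {a b : T ⟶ sch (fibCat ψ (etaOf C)) y}
    (h1 : a ≫ str (fibPt ψ (etaOf C)) φ = b ≫ str (fibPt ψ (etaOf C)) φ) (h2 : a ≫ nu ψ C y = b ≫ nu ψ C y) : a = b := by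
  rw [str_fibPt] at h1
  let Y := FObj.pt y
  have h1' : a ≫ (𝒴.p.map (show Y ⟶ ξ from φ)).left = b ≫ (𝒴.p.map (show Y ⟶ ξ from φ)).left := h1
  have h3 : b ≫ (𝒴.p.obj Y).hom = a ≫ (𝒴.p.obj Y).hom := by
    have e := Over.w (𝒴.p.map (show Y ⟶ ξ from φ))
    rw [← e, ← Category.assoc, ← h1', Category.assoc]
  let T' : Over S := Over.mk (a ≫ (𝒴.p.obj Y).hom)
  let a' : T' ⟶ 𝒴.p.obj Y := Over.homMk a rfl
  let b' : T' ⟶ 𝒴.p.obj Y := Over.homMk b h3
  obtain ⟨θ, χa, e, ha⟩ := K735.Fib.exists_lift h𝒴 (x := Y) a'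
  obtain ⟨χb, hb, hab⟩ := K735.Fib.exists_hom h𝒴 (show Y ⟶ ξ from φ) (χa ≫ (show Y ⟶ ξ from φ)) (eqToHom e ≫ b') (by
    rw [Functor.map_comp, ha, Category.assoc, Category.assoc]
    congr 1
    exact Over.OverMorphism.ext h1'.symm)
  have key : ψ.map χa ≫ FObj.arr y = ψ.map χb ≫ FObj.arr y := by
    apply Stk.EltObj.hom_ext
    have e1 : ∀ χ : θ ⟶ Y, (ψ.map χ ≫ FObj.arr y).hom = eqToHom (ψ.w_obj θ) ≫ 𝒴.p.map χ ≫ fbase y := by
      intro χ
      unfold fbase
      rw [map_comp_baseOver]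
      unfold baseOver
      rw [← Category.assoc, eqToHom_trans, eqToHom_refl, Category.id_comp]
      rfl
    rw [e1, e1, ha, hb]
    congr 1
    rw [Category.assoc, Category.assoc]
    congr 1
    exact Over.OverMorphism.ext h2
  let θ' : (fibCat ψ (etaOf C)).obj := ⟨θ, ψ.map χa ≫ FObj.arr y⟩
  let ka : θ' ⟶ y := FObj.mkHom χa rfl
  let kb : θ' ⟶ y := FObj.mkHom χb key.symm
  have hk : ka = kb := hom_eq hφ (by
    change χa ≫ φ = χb ≫ φ
    exact hab.symm)
  have h5 : χa = χb := congrArg (fun k => FObj.Hom.hom k) hk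
  rw [h5, hb] at ha
  have h6 : b' = a' := (cancel_epi _).1 ha
  exact (congrArg (fun k : T' ⟶ 𝒴.p.obj Y => k.left) h6).symm

end K864.ChartSp
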