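import Groth.Agent.StMod.K907.Closed
import Groth.Agent.StMod.K872.ClosedPt

/-!
# Closed points of `|𝒳|` for a stack with an affine presentation

* `exists_closed_point`: every nonempty closed subset of `|𝒳|` contains a closed point.
-/

set_option autoImplicit false
set_option backward.isDefEq.respectTransparency false
set_option backward.isDefEq.respectTransparency.types false

universe w v u

open CategoryTheory CategoryTheory.Limits AlgebraicGeometry Opposite StMod AlgSt Topology

namespace K864.ClPt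

open K907.Atl K907.Pt K907.Closed K906.Grpd K872.ClosedPt

theorem exists_generic_spec {R : Type u} [CommRing R] {Z : Set (PrimeSpectrum R)} (hZ : IsClosed Z) (hne : Z.Nonempty) :
    ∃ η ∈ Z, ∀ z ∈ Z, z ⤳ η → z = η := by
  obtain ⟨I, rfl⟩ := (PrimeSpectrum.isClosed_iff_zeroLocus_ideal Z).1 hZ
  obtain ⟨z₀, hz₀⟩ := hne
  obtain ⟨p, hp, -⟩ := Ideal.exists_minimalPrimes_le (show I ≤ z₀.asIdeal from hz₀)
  refine ⟨⟨p, hp.1.1⟩, hp.1.2, fun z hz h => ?_⟩
  rw [← PrimeSpectrum.le_iff_specializes] at h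
  exact PrimeSpectrum.ext (le_antisymm h (hp.2 ⟨z.isPrime, hz⟩ h))

theorem exists_specializes_spec {R R' : Type u} [CommRing R] [CommRing R'] (f : R →+* R') {η : PrimeSpectrum R}
    (h : η ∈ closure (Set.range (PrimeSpectrum.comap f))) : ∃ w, PrimeSpectrum.comap f w ⤳ η := by
  rw [PrimeSpectrum.closure_range_comap] at h
  obtain ⟨p, hp, hle⟩ := Ideal.exists_minimalPrimes_le (show RingHom.ker f ≤ η.asIdeal from h)
  obtain ⟨q, hq, hqp, hqc⟩ := Ideal.exists_comap_eq_of_mem_minimalPrimes (I := ⊥) f p hp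
  refine ⟨⟨q, hq⟩, ?_⟩
  rw [← PrimeSpectrum.le_iff_specializes]
  change q.comap f ≤ η.asIdeal
  rw [hqc]
  exact hle

theorem exists_generic {X : Scheme.{u}} [IsAffine X] {Z : Set X} (hZ : IsClosed Z) (hne : Z.Nonempty) :
    ∃ η ∈ Z, ∀ z ∈ Z, z ⤳ η → z = η := by
  let h := Scheme.homeoOfIso X.isoSpec
  obtain ⟨η, hη, H⟩ := exists_generic_spec (R := Γ(X, ⊤)) (Z := h.symm ⁻¹' Z) (hZ.preimage h.symm.continuous)
    (hne.preimage h.symm.surjective)
  refine ⟨h.symm η, hη, fun z hz hs => ?_⟩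
  have h1 := H (h z) (by
    change h.symm (h z) ∈ Z
    rwa [h.symm_apply_apply]) (by
    have h2 := hs.map h.continuous
    rwa [h.apply_symm_apply] at h2)
  rw [← h1, h.symm_apply_apply]

theorem exists_specializes {F X : Scheme.{u}} [IsAffine F] [IsAffine X] (f : F ⟶ X) {η : X}
    (h : η ∈ closure (Set.range f)) : ∃ w : F, f w ⤳ η := by
  let hX := Scheme.homeoOfIso X.isoSpec
  let hF := Scheme.homeoOfIso F.isoSpec
  have e : ∀ w : F, hX (f w) = PrimeSpectrum.comap f.appTop.hom (hF w) := by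
    intro w
    have h1 := Scheme.isoSpec_hom_naturality f
    exact (congrArg (fun k : F ⟶ Spec Γ(X, ⊤) => k w) h1).symm
  have h2 : hX η ∈ closure (Set.range (PrimeSpectrum.comap f.appTop.hom)) := by
    have h3 : hX η ∈ hX '' closure (Set.range f) := ⟨η, h, rfl⟩
    rw [hX.image_closure] at h3
    refine closure_mono ?_ h3
    rintro _ ⟨_, ⟨w, rfl⟩, rfl⟩
    exact ⟨hF w, (e w).symm⟩
  obtain ⟨w, hw⟩ := exists_specializes_spec _ h2
  refine ⟨hF.symm w, ?_⟩
  have h4 : hX (f (hF.symm w)) ⤳ hX η := by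
    rw [e, hF.apply_symm_apply]
    exact hw
  exact (hX.isInducing.specializes_iff).1 h4

/-- Closed classes of an open equivalence relation on an affine scheme. -/
theorem exists_closed_class {X R : Scheme.{u}} [IsAffine X] [IsAffine R] (s t : R ⟶ X) (ht : IsOpenMap t) {Q : Type*}
    (q : X → Q) (hq : Function.Surjective q) (hR : ∀ u u', q u = q u' ↔ ∃ z, s z = u ∧ t z = u')
    {W : Set Q} (hW : IsClosed (q ⁻¹' W)) (hne : W.Nonempty) : ∃ x ∈ W, IsClosed (q ⁻¹' {x}) := by
  let τ : TopologicalSpace Q := TopologicalSpace.coinduced q inferInstance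
  have hqc : Continuous q := continuous_coinduced_rng
  have : CompactSpace Q := by
    rw [← isCompact_univ_iff, ← hq.range_eq]
    exact isCompact_range hqc
  have hcl : ∀ V : Set Q, IsClosed V ↔ IsClosed (q ⁻¹' V) := fun V => isClosed_coinduced
  obtain ⟨V, hVW, hVne, hVc, hVm⟩ := ((hcl W).2 hW).exists_minimal_nonempty_closed_subset hne
  obtain ⟨η, hη, hgen⟩ := exists_generic ((hcl V).1 hVc) (hVne.preimage hq)
  have hV : V = {q η} := by
    refine Set.Subset.antisymm ?_ (Set.singleton_subset_iff.2 hη)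
    intro x hx
    obtain ⟨z, rfl⟩ := hq x
    let f : t.fiber z ⟶ X := t.fiberι z ≫ s
    have hf : Set.range f = {u | q u = q z} := by
      ext u
      constructor
      · rintro ⟨w, rfl⟩
        refine (hR _ _).2 ⟨t.fiberι z w, rfl, ?_⟩
        have h1 : t.fiberι z w ∈ Set.range (t.fiberι z) := ⟨w, rfl⟩
        rw [Scheme.Hom.range_fiberι] at h1
        exact h1
      · intro hu
        obtain ⟨r, h1, h2⟩ := (hR _ _).1 hu
        have h3 : r ∈ t ⁻¹' {z} := h2
        rw [← Scheme.Hom.range_fiberι] at h3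
        obtain ⟨w, rfl⟩ := h3
        exact ⟨w, h1⟩
    let O : Set X := Set.range f
    have hsat : ∀ u u', q u' = q u → u ∈ closure O → u' ∈ closure O := by
      intro u u' huu' hu
      obtain ⟨w, h1, h2⟩ := (hR _ _).1 huu'
      have h3 : w ∈ t ⁻¹' closure O := by
        rw [Set.mem_preimage, h2]
        exact hu
      rw [ht.preimage_closure_eq_closure_preimage t.continuous] at h3
      have h4 : s w ∈ s '' closure (t ⁻¹' O) := ⟨w, h3, rfl⟩
      have h5 := (image_closure_subset_closure_image s.continuous) h4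
      rw [h1] at h5
      refine closure_mono ?_ h5
      rintro _ ⟨r, hr, rfl⟩
      have h6 : q (t r) = q z := by
        have h7 : t r ∈ O := hr
        rw [show O = _ from hf] at h7
        exact h7
      change s r ∈ Set.range f
      rw [hf]
      exact ((hR _ _).2 ⟨r, rfl, rfl⟩).trans h6
    have hpre : q ⁻¹' (q '' closure O) = closure O := by
      ext u
      constructor
      · rintro ⟨u', hu', h⟩
        exact hsat u' u h.symm hu'
      · intro hu
        exact ⟨u, hu, rfl⟩
    have hOV : closure O ⊆ q ⁻¹' V := by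
      refine closure_minimal ?_ ((hcl V).1 hVc)
      intro u hu
      rw [show O = _ from hf] at hu
      change q u ∈ V
      rw [show q u = q z from hu]
      exact hx
    have hzO : z ∈ O := by
      change z ∈ Set.range f
      rw [hf]
      rfl
    have hV' : q '' closure O = V := by
      refine hVm _ ?_ ⟨q z, z, subset_closure hzO, rfl⟩ ((hcl _).2 (by rw [hpre]; exact isClosed_closure))
      rintro _ ⟨u, hu, rfl⟩
      exact hOV hu
    have hηO : η ∈ closure O := by
      rw [← hpre, hV']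
      exact hη
    obtain ⟨w, hw⟩ := exists_specializes f hηO
    have h8 : f w = η := hgen _ (hOV (subset_closure ⟨w, rfl⟩)) hw
    have h9 : f w ∈ Set.range f := ⟨w, rfl⟩
    rw [hf, h8] at h9
    exact h9.symm
  exact ⟨q η, hVW hη, by rw [← hV]; exact (hcl V).1 hVc⟩

/-- Every nonempty closed subset of `|𝒳|` contains a closed point. -/
theorem exists_closed_point {S : Scheme.{u}} {𝒳 : BasedCategory.{v, w} (Over S)} (h𝒳 : FibCat.IsFibGrpd 𝒳.p)
    (P : K906.Pres 𝒳) (W : Set (AlgSt.Points 𝒳))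
    (hW : K907.Closed.IsCl h𝒳 W) (hne : W.Nonempty) : ∃ x ∈ W, K907.Closed.IsCl h𝒳 {x} := by
  have hζ := P.affζ
  have hρ := P.affρ
  have := P.smooth_s
  have := P.smooth_t
  obtain ⟨x, hx, hcl⟩ := exists_closed_class (bmap 𝒳 P.s) (bmap 𝒳 P.t) (bmap 𝒳 P.t).isOpenMap (pt h𝒳 P.ζ)
    (exists_pt_atlas h𝒳 P) (pt_eq_pt_iff h𝒳 P) (hW P.ζ hζ) hne
  exact ⟨x, hx, isCl_of_atlas h𝒳 (smCov_of_pres.{0} P) fun _ => hcl⟩

end K864.ClPt
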