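import Groth.Agent.StMod.K864.Lvl
import Groth.Agent.StMod.K862.PushO
import Groth.Agent.StMod.K872.ClosedPt

/-!
# Quasi-compact open parts of a representable étale functor

`p : 𝒱 ⥤ᵇ 𝒴` representable, étale and separated, `P : Pres 𝒴`, `x₀` a point of `𝒱`. There is an open locus `Q` of `𝒱` containing
`x₀` such that the restriction of `p` to `Q` is quasi-compact.
-/

set_option autoImplicit false
set_option linter.unusedVariables false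
set_option linter.style.haveILetI false
set_option backward.isDefEq.respectTransparency false
set_option backward.isDefEq.respectTransparency.types false

universe v' w' v w u

open CategoryTheory CategoryTheory.Limits AlgebraicGeometry Opposite StMod AlgSt AlgSp TopologicalSpace

namespace K864.QcCut

open K862.Rep K862.PushO K908.Aff K907.Disj K907.FibTerm K906 K907.Atl K907.Pt K907.Closed K899.OpenCrit K864.Locus K864.Lvl

variable {S : Scheme.{u}} {𝒱 : BasedCategory.{v', w'} (Over S)} {𝒴 : BasedCategory.{v, w} (Over S)}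
variable (h𝒱 : FibCat.IsFibGrpd 𝒱.p) (h𝒴 : FibCat.IsFibGrpd 𝒴.p) {p : 𝒱 ⥤ᵇ 𝒴} (P : Pres 𝒴)

/-- Every field-valued point has an affine underlying scheme. -/
theorem isAffine_fpt' (r : FPt 𝒱) : IsAffine (sch 𝒱 r.obj) := K872.ClosedPt.isAffine_fpt r

include h𝒱 h𝒴 in
/-- Points of the universal arrow over the atlas in the same class are related by the groupoid. -/
theorem exists_rel {y z : 𝒱.obj} {α : p.obj y ⟶ P.ζ} {γ : p.obj z ⟶ P.ρ} (hα : IsTerm p α) (hγ : IsTerm p γ)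
    {a b : z ⟶ y} (ha : p.map a ≫ α = γ ≫ P.s) (hb : p.map b ≫ α = γ ≫ P.t) {t t' : ↥(sch 𝒱 y)}
    (h : pt h𝒱 y t = pt h𝒱 y t') : ∃ s : ↥(sch 𝒱 z), bmap 𝒱 a s = t ∧ bmap 𝒱 b s = t' := by
  obtain ⟨r, c, c', -⟩ := (K735.Pts.mk_eq_mk_iff h𝒱).1 h
  have hr : IsAffine (sch 𝒴 (p.obj r.obj)) := isAffine_pobj (isAffine_fpt' r)
  obtain ⟨z', f, e, h1, h2, h3, h4, h5⟩ := P.lift (p.obj r.obj) (p.map (c ≫ fptArr h𝒱 y t) ≫ α)
    (p.map (c' ≫ fptArr h𝒱 y t') ≫ α) hr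
  obtain ⟨v', ψ, i, hi, hc, -, -, h6⟩ := exists_lift_cov h𝒴 h𝒱 f
  have hψ : Surjective (bmap 𝒱 ψ) := h6 @Surjective inferInstance h3
  obtain ⟨χ, hχ, -⟩ := hγ v' (i ≫ e)
  have key : ∀ (q : z ⟶ y) (l : P.ρ ⟶ P.ζ) (d : r.obj ⟶ y), p.map q ≫ α = γ ≫ l → e ≫ l = f ≫ p.map d ≫ α →
      χ ≫ q = ψ ≫ d := by
    intro q l d hq hl
    refine hom_eq hα ?_
    rw [Functor.map_comp, Category.assoc, hq, ← Category.assoc, hχ, Category.assoc, hl, ← Category.assoc, hc,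
      Functor.map_comp, Category.assoc]
  have e1 := key a P.s _ ha h4
  have e2 := key b P.t _ hb h5
  obtain ⟨τ, hτ⟩ := (bmap 𝒱 ψ).surjective (ptt r)
  have fin : ∀ {t : ↥(sch 𝒱 y)} (c : r.obj ⟶ (fpt h𝒱 y t).obj) (q : z ⟶ y), χ ≫ q = ψ ≫ c ≫ fptArr h𝒱 y t →
      bmap 𝒱 q (bmap 𝒱 χ τ) = t := by
    intro t c q hq
    have k1 : bmap 𝒱 (χ ≫ q) τ = bmap 𝒱 (ψ ≫ c ≫ fptArr h𝒱 y t) τ := by rw [hq]
    rw [bmap_comp, bmap_comp, bmap_comp] at k1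
    change bmap 𝒱 q (bmap 𝒱 χ τ) = bmap 𝒱 (fptArr h𝒱 y t) (bmap 𝒱 c (bmap 𝒱 ψ τ)) at k1
    rw [k1, hτ, eq_ptt _ (bmap 𝒱 c (ptt r)), bmap_fptArr_ptt]
  exact ⟨bmap 𝒱 χ τ, fin c a e1, fin c' b e2⟩

/-- The set of points generated by a set of points of the universal arrow. -/
def gen {y : 𝒱.obj} (W : Set ↥(sch 𝒱 y)) : Set (Points 𝒱) := {x | ∃ t ∈ W, pt h𝒱 y t = x}

include h𝒴 in
theorem isOpen_compact_gen (hp : IsRep (@Etale ⊓ @IsSeparated) p) {y : 𝒱.obj} {α : p.obj y ⟶ P.ζ} (hα : IsTerm p α)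
    {W : (sch 𝒱 y).Opens} (hW : IsAffineOpen W) :
    IsOpen (prei h𝒱 (gen h𝒱 (W : Set ↥(sch 𝒱 y))) y) ∧ IsCompact (prei h𝒱 (gen h𝒱 (W : Set ↥(sch 𝒱 y))) y) := by
  haveI := P.affζ
  haveI := P.affρ
  haveI := P.smooth_s
  haveI := P.smooth_t
  obtain ⟨z, γ, hγ, -⟩ := hp P.ρ P.affρ
  obtain ⟨a, ha⟩ := exists_hom P.s (α' := γ) hα
  obtain ⟨b, hb⟩ := exists_hom P.t (α' := γ) hα
  have sqa := isPullback_of_isTerm h𝒴 h𝒱 hγ hα ha
  have sqb := isPullback_of_isTerm h𝒴 h𝒱 hγ hα hb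
  haveI : Smooth (bmap 𝒱 b) := MorphismProperty.of_isPullback (P := @Smooth) sqb.flip inferInstance
  haveI : IsAffineHom (bmap 𝒱 a) := MorphismProperty.of_isPullback (P := @IsAffineHom) sqa.flip inferInstance
  have e : prei h𝒱 (gen h𝒱 (W : Set ↥(sch 𝒱 y))) y = bmap 𝒱 b '' ((bmap 𝒱 a) ⁻¹' (W : Set ↥(sch 𝒱 y))) := by
    ext t
    constructor
    · rintro ⟨t', ht', h⟩
      obtain ⟨s, h1, h2⟩ := exists_rel h𝒱 h𝒴 P hα hγ ha hb h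
      exact ⟨s, by rwa [Set.mem_preimage, h1], h2⟩
    · rintro ⟨s, hs, rfl⟩
      refine ⟨bmap 𝒱 a s, hs, ?_⟩
      rw [pt_map, pt_map]
  rw [e]
  constructor
  · exact (bmap 𝒱 b).isOpenMap _ (W.isOpen.preimage (bmap 𝒱 a).continuous)
  · exact (hW.preimage (bmap 𝒱 a)).isCompact.image (bmap 𝒱 b).continuous

include h𝒴 in
theorem isOpen_prei_gen (hp : IsRep (@Etale ⊓ @IsSeparated) p) {y : 𝒱.obj} {α : p.obj y ⟶ P.ζ} (hα : IsTerm p α)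
    {W : (sch 𝒱 y).Opens} (hW : IsAffineOpen W) (v : 𝒱.obj) :
    IsOpen (prei h𝒱 (gen h𝒱 (W : Set ↥(sch 𝒱 y))) v) := by
  have h0 := (isOpen_compact_gen h𝒱 h𝒴 P hp hα hW).1
  have haff : ∀ v : 𝒱.obj, IsAffine (sch 𝒱 v) → IsOpen (prei h𝒱 (gen h𝒱 (W : Set ↥(sch 𝒱 y))) v) := by
    intro v hv
    obtain ⟨z', f, d, h1, h2, h3⟩ := P.cov (p.obj v) (isAffine_pobj hv)
    obtain ⟨v', φ, i, hi, hc, -, -, h6⟩ := exists_lift_cov h𝒴 h𝒱 f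
    have h7 : Smooth (bmap 𝒱 φ) := h6 @Smooth inferInstance h2
    have h8 : Surjective (bmap 𝒱 φ) := h6 @Surjective inferInstance h3
    obtain ⟨χ, hχ, -⟩ := hα v' (i ≫ d)
    have h9 : IsOpen ((bmap 𝒱 φ) ⁻¹' prei h𝒱 (gen h𝒱 (W : Set ↥(sch 𝒱 y))) v) := by
      rw [preimage_prei, ← preimage_prei h𝒱 _ χ]
      exact h0.preimage (bmap 𝒱 χ).continuous
    have h10 : Topology.IsQuotientMap (bmap 𝒱 φ) :=
      (bmap 𝒱 φ).isOpenMap.isQuotientMap (bmap 𝒱 φ).continuous (bmap 𝒱 φ).surjective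
    exact h10.isOpen_preimage.1 h9
  rw [isOpen_iff_forall_mem_open]
  intro t ht
  haveI := h𝒱
  obtain ⟨_, ⟨U₀, hU₀, rfl⟩, htU, -⟩ := (sch 𝒱 v).isBasis_affineOpens.exists_subset_of_mem_open
    (Set.mem_univ t) isOpen_univ
  let U : (sch 𝒱 v).Opens := U₀
  obtain ⟨v', φ, hφ, hr⟩ := K908.Fib.exists_restr v U
  have hv' : IsAffine (sch 𝒱 v') := by
    have h1 : IsAffineOpen (bmap 𝒱 φ).opensRange := by rw [hr]; exact hU₀
    haveI : IsAffine ((bmap 𝒱 φ).opensRange : Scheme.{u}) := h1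
    exact IsAffine.of_isIso (bmap 𝒱 φ).isoOpensRange.hom
  have htr : t ∈ (bmap 𝒱 φ).opensRange := by
    rw [hr]
    exact htU
  obtain ⟨t', rfl⟩ := htr
  refine ⟨bmap 𝒱 φ '' (prei h𝒱 (gen h𝒱 (W : Set ↥(sch 𝒱 y))) v'), ?_, (bmap 𝒱 φ).isOpenMap _ (haff v' hv'), ?_⟩
  · rintro _ ⟨s, hs, rfl⟩
    rw [mem_prei, pt_map]
    exact hs
  · refine ⟨t', ?_, rfl⟩
    rw [mem_prei, pt_map] at ht
    exact ht

/-- The objects all of whose points lie in an open set of points. -/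
theorem hasOpenLocus_of_isOpen {D : Set (Points 𝒱)} (hD : ∀ v : 𝒱.obj, IsOpen (prei h𝒱 D v)) :
    HasOpenLocus (fun v : 𝒱.obj => ∀ t : ↥(sch 𝒱 v), pt h𝒱 v t ∈ D) := by
  intro v
  refine ⟨⟨prei h𝒱 D v, hD v⟩, fun y φ => ?_⟩
  constructor
  · rintro h _ ⟨t, rfl⟩
    have h1 := h t
    rw [← pt_map h𝒱 φ] at h1
    exact h1
  · intro h t
    have h1 : bmap 𝒱 φ t ∈ prei h𝒱 D v := h ⟨t, rfl⟩
    rw [mem_prei, pt_map] at h1
    exact h1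

theorem loc_eq_prei {D : Set (Points 𝒱)} (hD : ∀ v : 𝒱.obj, IsOpen (prei h𝒱 D v)) (v : 𝒱.obj) :
    (loc (hasOpenLocus_of_isOpen h𝒱 hD) v : Set ↥(sch 𝒱 v)) = prei h𝒱 D v := by
  ext t
  have h1 := iff_range (hasOpenLocus_of_isOpen h𝒱 hD) (fptArr h𝒱 v t)
  have e1 : Set.range (bmap 𝒱 (fptArr h𝒱 v t)) = {t} := by
    ext s
    constructor
    · rintro ⟨r, rfl⟩
      rw [eq_ptt (fpt h𝒱 v t) r, bmap_fptArr_ptt]
      rfl
    · rintro rfl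
      exact ⟨ptt _, bmap_fptArr_ptt h𝒱 v s⟩
  rw [e1, Set.singleton_subset_iff] at h1
  refine Iff.trans h1.symm ?_
  constructor
  · intro h
    have h2 := h (ptt _)
    rw [← pt_map h𝒱 (fptArr h𝒱 v t), bmap_fptArr_ptt] at h2
    exact h2
  · intro h s
    rw [← pt_map h𝒱 (fptArr h𝒱 v t), eq_ptt _ s, bmap_fptArr_ptt]
    exact h

include h𝒱 h𝒴 P in
/-- A quasi-compact open part containing a given point. -/
theorem exists_qc (hp : IsRep (@Etale ⊓ @IsSeparated) p) (x₀ : Points 𝒱) :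
    ∃ Q : 𝒱.obj → Prop, HasOpenLocus Q ∧ IsRep (@Etale ⊓ (@IsSeparated ⊓ @QuasiCompact)) (psub p Q) ∧
      ∀ v : 𝒱.obj, (∀ t : ↥(sch 𝒱 v), pt h𝒱 v t = x₀) → Q v := by
  haveI := P.affζ
  obtain ⟨y, α, hα, hy⟩ := hp P.ζ P.affζ
  -- a point of the class `x₀`
  obtain ⟨t₀, ht₀⟩ : ∃ t₀ : ↥(sch 𝒱 y), pt h𝒱 y t₀ = x₀ := by
    obtain ⟨r, rfl⟩ := exists_rep x₀
    obtain ⟨z', f, d, h1, h2, h3⟩ := P.cov (p.obj r.obj) (isAffine_pobj (isAffine_fpt' r))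
    obtain ⟨v', φ, i, hi, hc, -, -, h6⟩ := exists_lift_cov h𝒴 h𝒱 f
    have h8 : Surjective (bmap 𝒱 φ) := h6 @Surjective inferInstance h3
    obtain ⟨χ, hχ, -⟩ := hα v' (i ≫ d)
    obtain ⟨τ, hτ⟩ := (bmap 𝒱 φ).surjective (ptt r)
    refine ⟨bmap 𝒱 χ τ, ?_⟩
    rw [pt_map, ← pt_map h𝒱 φ, hτ, mk_eq_pt h𝒱 r (𝟙 r.obj) (ptt r), pt_map]
  obtain ⟨_, ⟨W₀, hW₀, rfl⟩, htW, -⟩ := (sch 𝒱 y).isBasis_affineOpens.exists_subset_of_mem_open
    (Set.mem_univ t₀) isOpen_univ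
  let W : (sch 𝒱 y).Opens := W₀
  have hD := isOpen_prei_gen h𝒱 h𝒴 P hp hα (W := W) hW₀
  refine ⟨_, hasOpenLocus_of_isOpen h𝒱 hD, ?_, ?_⟩
  · intro ξ hξ
    obtain ⟨v, β, hβ, hv⟩ := hp ξ hξ
    obtain ⟨y₂, k, hk, hkr, hk2⟩ := exists_term_sub h𝒱 (hasOpenLocus_of_isOpen h𝒱 hD) hβ
    rw [loc_eq_prei h𝒱 hD] at hkr
    refine ⟨y₂, p.map k ≫ β, hk2, ?_⟩
    haveI := hv.1
    haveI := hv.2
    have e : str (psub p _) (y := y₂) (p.map k ≫ β) = bmap 𝒱 k ≫ str p β := str_map p k β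
    rw [e]
    refine ⟨inferInstance, inferInstance, ?_⟩
    haveI := hξ
    -- compactness
    have hc : CompactSpace ↥(sch 𝒱 y₂.obj) := by
      obtain ⟨z', f, d, h1, h2, h3⟩ := P.cov ξ hξ
      obtain ⟨v', ψ, β', h4, h5, h6⟩ := exists_isTerm_bc h𝒴 h𝒱 f hβ
      obtain ⟨χ, hχ⟩ := exists_hom d (α' := β') hα
      have sq := isPullback_of_isTerm h𝒴 h𝒱 h4 hα hχ
      haveI := h1
      haveI : IsAffineHom (bmap 𝒱 χ) := MorphismProperty.of_isPullback (P := @IsAffineHom) sq.flip inferInstance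
      haveI : Surjective (bmap 𝒱 ψ) := MorphismProperty.of_isPullback (P := @Surjective) h6.flip h3
      have h7 := isOpen_compact_gen h𝒱 h𝒴 P hp hα (W := W) hW₀
      have h8 : IsCompact (prei h𝒱 (gen h𝒱 (W : Set ↥(sch 𝒱 y))) v') := by
        rw [← preimage_prei h𝒱 _ χ]
        exact QuasiCompact.isCompact_preimage (f := bmap 𝒱 χ) _ h7.1 h7.2
      have h9 : prei h𝒱 (gen h𝒱 (W : Set ↥(sch 𝒱 y))) v = bmap 𝒱 ψ '' (prei h𝒱 (gen h𝒱 (W : Set ↥(sch 𝒱 y))) v') := by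
        rw [← preimage_prei h𝒱 _ ψ, Set.image_preimage_eq _ (bmap 𝒱 ψ).surjective]
      have h10 : IsCompact (Set.range (bmap 𝒱 k)) := by
        rw [hkr, h9]
        exact h8.image (bmap 𝒱 ψ).continuous
      rw [← isCompact_univ_iff, (bmap 𝒱 k).isOpenEmbedding.isInducing.isCompact_iff, Set.image_univ]
      exact h10
    exact (quasiCompact_iff_compactSpace (f := bmap 𝒱 k ≫ str p β)).2 hc
  · intro v hv t
    rw [hv t]
    exact ⟨t₀, htW, ht₀⟩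

end K864.QcCut
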