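import Groth.Agent.StMod.K864.SchGlue
import Groth.Agent.StMod.K908.Fib
import Groth.Agent.StMod.K906.FibCat

/-!
# Extension of compatible families of morphisms from the objects over affine schemes to all objects
-/

set_option autoImplicit false
set_option linter.unusedVariables false
set_option linter.style.haveILetI false
set_option backward.isDefEq.respectTransparency false
set_option backward.isDefEq.respectTransparency.types false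

universe v w u

open CategoryTheory CategoryTheory.Limits AlgebraicGeometry Opposite StMod AlgSt TopologicalSpace

namespace K864.ExtFam

open K864.SchGlue K906

variable {S : Scheme.{u}} {𝒴 : BasedCategory.{v, w} (Over S)}

/-- Objects over affine opens. -/
theorem exists_restr_aff (h𝒴 : FibCat.IsFibGrpd 𝒴.p) (ξ : 𝒴.obj) (U : (sch 𝒴 ξ).Opens) (hU : IsAffineOpen U) :
    ∃ (ζ : 𝒴.obj) (φ : ζ ⟶ ξ), IsAffine (sch 𝒴 ζ) ∧ IsOpenImmersion (bmap 𝒴 φ) ∧ Set.range (bmap 𝒴 φ) = (U : Set ↥(sch 𝒴 ξ)) := by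
  haveI := h𝒴
  obtain ⟨ζ, φ, hφ, hr⟩ := K908.Fib.exists_restr ξ U
  have hr' : Set.range (bmap 𝒴 φ) = (U : Set ↥(sch 𝒴 ξ)) := by
    rw [← hr]
    rfl
  refine ⟨ζ, φ, ?_, hφ, hr'⟩
  have h1 : IsAffineOpen (bmap 𝒴 φ).opensRange := by rw [hr]; exact hU
  haveI : IsAffine ((bmap 𝒴 φ).opensRange : Scheme.{u}) := h1
  exact IsAffine.of_isIso (bmap 𝒴 φ).isoOpensRange.hom

/-- Extension of a compatible family. -/
theorem exists_ext_fam (h𝒴 : FibCat.IsFibGrpd 𝒴.p) {T : Scheme.{u}}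
    (c : ∀ ξ : 𝒴.obj, IsAffine (sch 𝒴 ξ) → (sch 𝒴 ξ ⟶ T))
    (hc : ∀ {ξ' ξ : 𝒴.obj} (h' : IsAffine (sch 𝒴 ξ')) (h : IsAffine (sch 𝒴 ξ)) (φ : ξ' ⟶ ξ), bmap 𝒴 φ ≫ c ξ h = c ξ' h') :
    ∃ d : ∀ ξ : 𝒴.obj, sch 𝒴 ξ ⟶ T, (∀ {ξ' ξ : 𝒴.obj} (φ : ξ' ⟶ ξ), bmap 𝒴 φ ≫ d ξ = d ξ') ∧
      ∀ (ξ : 𝒴.obj) (h : IsAffine (sch 𝒴 ξ)), d ξ = c ξ h := by
  haveI := h𝒴
  have key : ∀ ξ : 𝒴.obj, ∃ g : sch 𝒴 ξ ⟶ T, ∀ (ζ : 𝒴.obj) (hζ : IsAffine (sch 𝒴 ζ)) (φ : ζ ⟶ ξ), bmap 𝒴 φ ≫ g = c ζ hζ := by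
    intro ξ
    let P : ∀ U : (sch 𝒴 ξ).Opens, ((U : Scheme.{u}) ⟶ T) → Prop := fun U g =>
      ∀ (ζ : 𝒴.obj) (hζ : IsAffine (sch 𝒴 ζ)) (φ : ζ ⟶ ξ) (l : sch 𝒴 ζ ⟶ U), l ≫ U.ι = bmap 𝒴 φ → l ≫ g = c ζ hζ
    have haff : ∀ (U : (sch 𝒴 ξ).Opens) (x : ↥(sch 𝒴 ξ)), x ∈ U → ∃ V : (sch 𝒴 ξ).Opens, V ≤ U ∧ x ∈ V ∧ IsAffineOpen V := by
      intro U x hx
      obtain ⟨_, ⟨V, hV, rfl⟩, hxV, hVU⟩ := (sch 𝒴 ξ).isBasis_affineOpens.exists_subset_of_mem_open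
        (show x ∈ (U : Set ↥(sch 𝒴 ξ)) from hx) U.isOpen
      exact ⟨V, hVU, hxV, hV⟩
    obtain ⟨g, hg⟩ := glue_of_opens P (fun U V h g hg ζ hζ φ l hl => by
        rw [← Category.assoc]
        refine hg ζ hζ φ _ ?_
        rw [Category.assoc, Scheme.homOfLE_ι]
        exact hl) (fun U g g' hg hg' => by
        refine hom_ext_of_open _ _ fun x => ?_
        obtain ⟨V, hVU, hxV, hV⟩ := haff U (U.ι x) x.2
        obtain ⟨ζ, φ, h1, h2, h3⟩ := exists_restr_aff h𝒴 ξ V hV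
        have h4 : Set.range (bmap 𝒴 φ) ⊆ Set.range U.ι := by
          rw [h3, Scheme.Opens.range_ι]
          exact hVU
        let l : sch 𝒴 ζ ⟶ U := IsOpenImmersion.lift U.ι (bmap 𝒴 φ) h4
        have hl : l ≫ U.ι = bmap 𝒴 φ := IsOpenImmersion.lift_fac _ _ _
        haveI : IsOpenImmersion l := by
          have : IsOpenImmersion (l ≫ U.ι) := by
            rw [hl]
            infer_instance
          exact IsOpenImmersion.of_comp l U.ι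
        refine ⟨_, l, inferInstance, ?_, (hg ζ h1 φ l hl).trans (hg' ζ h1 φ l hl).symm⟩
        have h5 : U.ι x ∈ Set.range (bmap 𝒴 φ) := by
          rw [h3]
          exact hxV
        obtain ⟨s, hs⟩ := h5
        refine ⟨s, U.ι.isOpenEmbedding.injective ?_⟩
        rw [← hs]
        exact congrArg (fun m : sch 𝒴 ζ ⟶ sch 𝒴 ξ => m s) hl) (fun x => by
        obtain ⟨V, -, hxV, hV⟩ := haff ⊤ x trivial
        obtain ⟨ζ, φ, h1, h2, h3⟩ := exists_restr_aff h𝒴 ξ V hV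
        have h4 : Set.range V.ι ⊆ Set.range (bmap 𝒴 φ) := by
          rw [h3, Scheme.Opens.range_ι]
        let l : (V : Scheme.{u}) ⟶ sch 𝒴 ζ := IsOpenImmersion.lift (bmap 𝒴 φ) V.ι h4
        have hl : l ≫ bmap 𝒴 φ = V.ι := IsOpenImmersion.lift_fac _ _ _
        refine ⟨V, hxV, l ≫ c ζ h1, fun ζ' hζ' φ' l' hl' => ?_⟩
        obtain ⟨χ, hχ⟩ := K908.Fib.exists_lift_open φ φ' (by
          rw [h3, ← hl']
          rintro _ ⟨z, rfl⟩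
          exact (l' z).2)
        rw [← hc hζ' h1 χ, ← Category.assoc]
        congr 1
        rw [← cancel_mono (bmap 𝒴 φ), Category.assoc, hl, hl', ← bmap_comp, hχ])
    refine ⟨g, fun ζ hζ φ => ?_⟩
    -- test on opens
    refine hom_ext_of_open _ _ fun x => ?_
    obtain ⟨V, -, hxV, hV⟩ := haff ⊤ (bmap 𝒴 φ x) trivial
    obtain ⟨ζ₁, φ₁, h1, h2, h3⟩ := exists_restr_aff h𝒴 ξ V hV
    obtain ⟨_, ⟨W, hW, rfl⟩, hxW, hWV⟩ := (sch 𝒴 ζ).isBasis_affineOpens.exists_subset_of_mem_open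
      (show x ∈ ((bmap 𝒴 φ ⁻¹ᵁ V : (sch 𝒴 ζ).Opens) : Set ↥(sch 𝒴 ζ)) from hxV) (bmap 𝒴 φ ⁻¹ᵁ V).isOpen
    obtain ⟨ζ₂, φ₂, g1, g2, g3⟩ := exists_restr_aff h𝒴 ζ W hW
    have h4 : Set.range V.ι ⊆ Set.range (bmap 𝒴 φ₁) := by
      rw [h3, Scheme.Opens.range_ι]
    have h5 : Set.range (bmap 𝒴 (φ₂ ≫ φ)) ⊆ Set.range V.ι := by
      rw [Scheme.Opens.range_ι, bmap_comp]
      rintro _ ⟨z, rfl⟩
      have h6 : bmap 𝒴 φ₂ z ∈ Set.range (bmap 𝒴 φ₂) := ⟨z, rfl⟩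
      rw [g3] at h6
      exact hWV h6
    let l : (V : Scheme.{u}) ⟶ sch 𝒴 ζ₁ := IsOpenImmersion.lift (bmap 𝒴 φ₁) V.ι h4
    have hl : l ≫ bmap 𝒴 φ₁ = V.ι := IsOpenImmersion.lift_fac _ _ _
    let l₂ : sch 𝒴 ζ₂ ⟶ V := IsOpenImmersion.lift V.ι (bmap 𝒴 (φ₂ ≫ φ)) h5
    have hl₂ : l₂ ≫ V.ι = bmap 𝒴 (φ₂ ≫ φ) := IsOpenImmersion.lift_fac _ _ _
    have hP : P V (l ≫ c ζ₁ h1) := by
      intro ζ' hζ' φ' l' hl'
      obtain ⟨χ, hχ⟩ := K908.Fib.exists_lift_open φ₁ φ' (by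
        rw [h3, ← hl']
        rintro _ ⟨z, rfl⟩
        exact (l' z).2)
      rw [← hc hζ' h1 χ, ← Category.assoc]
      congr 1
      rw [← cancel_mono (bmap 𝒴 φ₁), Category.assoc, hl, hl', ← bmap_comp, hχ]
    refine ⟨_, bmap 𝒴 φ₂, g2, ?_, ?_⟩
    · rw [g3]
      exact hxW
    · rw [hc g1 hζ φ₂, ← hP ζ₂ g1 (φ₂ ≫ φ) l₂ hl₂, ← hg V _ hP, ← Category.assoc, ← Category.assoc, hl₂, bmap_comp]
  choose d hd using key
  refine ⟨d, fun {ξ' ξ} φ => ?_, fun ξ h => ?_⟩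
  · refine hom_ext_of_open _ _ fun x => ?_
    obtain ⟨_, ⟨W, hW, rfl⟩, hxW, -⟩ := (sch 𝒴 ξ').isBasis_affineOpens.exists_subset_of_mem_open
      (Set.mem_univ x) isOpen_univ
    obtain ⟨ζ, ψ, g1, g2, g3⟩ := exists_restr_aff h𝒴 ξ' W hW
    refine ⟨_, bmap 𝒴 ψ, g2, ?_, ?_⟩
    · rw [g3]
      exact hxW
    · rw [hd ξ' ζ g1 ψ, ← hd ξ ζ g1 (ψ ≫ φ), bmap_comp, Category.assoc]
  · have h1 := hd ξ ξ h (𝟙 ξ)
    rwa [bmap_id, Category.id_comp] at h1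

end K864.ExtFam
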