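import Groth.Agent.StMod.K864.FamHom
import Groth.Agent.StMod.K864.ExtFam
import Groth.Agent.AlgSp.K615.Cov
import Groth.Agent.StMod.K907.EtNhd
import Groth.Agent.StMod.K862.Lev

/-!
# Functors to the category of an algebraic space

* `zs ψ ξ : (yon S).obj (𝒳.p.obj ξ) ⟶ N` : the point of `N` given by `ψ : 𝒳 ⥤ᵇ ofSp N` at `ξ`; `map_zs`, `functor_ext`, `zs_comp`;
* `FacS π ψ m g` : `g : (yon S).obj m.base ⟶ N` induces `ψ` on all pairs `(ξ, π ξ ⟶ m)`;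
* `point_unique` : points of `N` over an étale object are determined on `𝒳`.
-/

set_option autoImplicit false
set_option linter.unusedVariables false
set_option linter.style.haveILetI false
set_option backward.isDefEq.respectTransparency false
set_option backward.isDefEq.respectTransparency.types false

universe w v u

open CategoryTheory CategoryTheory.Limits AlgebraicGeometry Opposite StMod AlgSt AlgSp TopologicalSpace

namespace K864.SpFac

open K906 K907.Free K907.Atl K907.Pt K907.Van K907.Closed K907.GM K864.Sep K864.Zm K864.Fam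

variable {S : Scheme.{u}} {𝒳 : BasedCategory.{v, w} (Over S)} {M N : Sp S}

theorem yon_comp {A B D : Over S} (q : A ⟶ B) (r : B ⟶ D) {x : (yon S).obj D ⟶ N} {z : (yon S).obj B ⟶ N}
    (h : (yon S).map r ≫ x = z) : (yon S).map (q ≫ r) ≫ x = (yon S).map q ≫ z := by
  rw [Functor.map_comp, Category.assoc, h]

/-- The point of `N` given by a functor to the category of `N`. -/
noncomputable def zs (ψ : 𝒳 ⥤ᵇ ofSp N) (ξ : 𝒳.obj) : (yon S).obj (𝒳.p.obj ξ) ⟶ N :=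
  (yon S).map (eqToHom (ψ.w_obj ξ).symm) ≫ SpGeo.toMap (ψ.obj ξ)

theorem baseOver_toMap (ψ : 𝒳 ⥤ᵇ ofSp N) {ξ : 𝒳.obj} {n : (ofSp N).obj} (γ : ψ.obj ξ ⟶ n) :
    (yon S).map (baseOver ψ ξ γ) ≫ SpGeo.toMap n = zs ψ ξ := by
  unfold zs
  rw [← SpGeo.toMap_comp γ, ← Category.assoc, ← Functor.map_comp]
  rfl

@[reassoc]
theorem map_zs (ψ : 𝒳 ⥤ᵇ ofSp N) {ξ' ξ : 𝒳.obj} (φ : ξ' ⟶ ξ) :
    (yon S).map (𝒳.p.map φ) ≫ zs ψ ξ = zs ψ ξ' := by
  rw [← baseOver_toMap ψ (𝟙 (ψ.obj ξ)), ← baseOver_toMap ψ (ψ.map φ ≫ 𝟙 (ψ.obj ξ)), ← map_comp_baseOver,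
    Functor.map_comp, Category.assoc]

theorem obj_ext {T : Over S} {a b : (ofSp N).obj} (ea : a.base = T) (eb : b.base = T)
    (h : (yon S).map (eqToHom ea.symm) ≫ SpGeo.toMap a = (yon S).map (eqToHom eb.symm) ≫ SpGeo.toMap b) : a = b := by
  obtain ⟨A, s⟩ := a
  obtain ⟨B, t⟩ := b
  change A = T at ea
  change B = T at eb
  subst ea
  subst eb
  have h1 : SpGeo.toMap (⟨B, s⟩ : (ofSp N).obj) = SpGeo.toMap (⟨B, t⟩ : (ofSp N).obj) := by
    rw [eqToHom_refl, CategoryTheory.Functor.map_id, Category.id_comp, Category.id_comp] at h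
    exact h
  have h2 : s = t := (J S).uliftYonedaEquiv.symm.injective h1
  rw [h2]

/-- A functor to the category of a sheaf is determined by its points. -/
theorem functor_ext {ψ ψ' : 𝒳 ⥤ᵇ ofSp N} (h : ∀ ξ, zs ψ ξ = zs ψ' ξ) : ψ = ψ' := by
  have hobj : ∀ ξ, ψ.obj ξ = ψ'.obj ξ := by
    intro ξ
    exact obj_ext (ψ.w_obj ξ) (ψ'.w_obj ξ) (h ξ)
  have h' : ψ.toFunctor = ψ'.toFunctor := by
    refine CategoryTheory.Functor.ext hobj fun a b φ => ?_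
    apply Stk.EltObj.hom_ext
    have h3 : ∀ {a b : (ofSp N).obj} (e : a = b),
        (eqToHom e : a ⟶ b).hom = eqToHom (congrArg (fun c => c.base) e) := by
      rintro a _ rfl
      rfl
    rw [Stk.EltObj.comp_hom, Stk.EltObj.comp_hom, h3, h3, Zm.map_hom, Zm.map_hom]
    simp
  cases ψ
  cases ψ'
  simp only at h'
  subst h'
  rfl

theorem zs_comp (π : 𝒳 ⥤ᵇ ofSp M) (g : M ⟶ N) (ξ : 𝒳.obj) :
    zs (BasedFunctor.comp π (ofSpMap g)) ξ = zs π ξ ≫ g := by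
  unfold zs
  rw [Category.assoc, ← SpGeo.toMap_ofSpMap]
  rfl

theorem baseOver_zs (π : 𝒳 ⥤ᵇ ofSp M) (g : M ⟶ N) {ξ : 𝒳.obj} {m : (ofSp M).obj} (α : π.obj ξ ⟶ m) :
    (yon S).map (baseOver π ξ α) ≫ SpGeo.toMap m ≫ g = zs (BasedFunctor.comp π (ofSpMap g)) ξ := by
  rw [zs_comp, ← baseOver_toMap π α, Category.assoc]

/-- `g : (yon S).obj m.base ⟶ N` induces `ψ` on all pairs `(ξ, π ξ ⟶ m)`. -/
def FacS (π : 𝒳 ⥤ᵇ ofSp M) (ψ : 𝒳 ⥤ᵇ ofSp N) (m : (ofSp M).obj) (g : (yon S).obj m.base ⟶ N) : Prop :=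
  ∀ (ξ : 𝒳.obj) (α : π.obj ξ ⟶ m), (yon S).map (baseOver π ξ α) ≫ g = zs ψ ξ

theorem FacS.comp {π : 𝒳 ⥤ᵇ ofSp M} {ψ : 𝒳 ⥤ᵇ ofSp N} {m : (ofSp M).obj} {g : (yon S).obj m.base ⟶ N} (h : FacS π ψ m g)
    {m' : (ofSp M).obj} (k : m' ⟶ m) : FacS π ψ m' ((yon S).map k.hom ≫ g) := by
  intro ξ α
  have h1 := h ξ (α ≫ k)
  rw [baseOver_comp, Functor.map_comp, Category.assoc] at h1
  exact h1

/-- Equality of points of `N` over the base of an object is tested on objects over affine schemes. -/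
theorem pt_ext_aff (h𝒳 : FibCat.IsFibGrpd 𝒳.p) (ξ : 𝒳.obj) {x y : (yon S).obj (𝒳.p.obj ξ) ⟶ N}
    (h : ∀ (ζ : 𝒳.obj) (φ : ζ ⟶ ξ), IsAffine (sch 𝒳 ζ) → (yon S).map (𝒳.p.map φ) ≫ x = (yon S).map (𝒳.p.map φ) ≫ y) :
    x = y := by
  let R : Sieve (𝒳.p.obj ξ) :=
    { arrows := fun T' k => (yon S).map k ≫ x = (yon S).map k ≫ y
      downward_closed := by
        intro T' T'' k h l
        rw [Functor.map_comp, Category.assoc, Category.assoc, h] }
  refine K615.Pt.pt_ext R (K615.Cov.sieve_mem R fun t => ?_) _ _ (fun T' k hk => hk)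
  obtain ⟨_, ⟨W, hW, rfl⟩, hxW, -⟩ := (sch 𝒳 ξ).isBasis_affineOpens.exists_subset_of_mem_open
    (Set.mem_univ t) isOpen_univ
  obtain ⟨ζ, φ, g1, g2, g3⟩ := K864.ExtFam.exists_restr_aff h𝒳 ξ W hW
  have g2' : IsOpenImmersion (𝒳.p.map φ).left := g2
  refine ⟨𝒳.p.obj ζ, 𝒳.p.map φ, h ζ φ g1, inferInstance, inferInstance, ?_⟩
  have h4 : t ∈ Set.range (bmap 𝒳 φ) := by
    rw [g3]
    exact hxW
  exact h4

/-- Equality of morphisms out of the scheme of an object is tested on objects over affine schemes. -/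
theorem hom_ext_aff (h𝒳 : FibCat.IsFibGrpd 𝒳.p) (ξ : 𝒳.obj) {T : Scheme.{u}} {x y : sch 𝒳 ξ ⟶ T}
    (h : ∀ (ζ : 𝒳.obj) (φ : ζ ⟶ ξ), IsAffine (sch 𝒳 ζ) → bmap 𝒳 φ ≫ x = bmap 𝒳 φ ≫ y) : x = y := by
  refine K864.SchGlue.hom_ext_of_open _ _ fun t => ?_
  obtain ⟨_, ⟨W, hW, rfl⟩, hxW, -⟩ := (sch 𝒳 ξ).isBasis_affineOpens.exists_subset_of_mem_open
    (Set.mem_univ t) isOpen_univ
  obtain ⟨ζ, φ, g1, g2, g3⟩ := K864.ExtFam.exists_restr_aff h𝒳 ξ W hW
  refine ⟨_, bmap 𝒳 φ, g2, ?_, h ζ φ g1⟩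
  rw [g3]
  exact hxW

/-- Étale neighbourhoods on which a point of `N` lifts to an affine étale chart. -/
theorem exists_chart_nhd (hN : IsAlgSpace N) {T : Over S} (x : (yon S).obj T ⟶ N) (t : ↥T.left) :
    ∃ (C : EtOver N) (_ : IsAffine C.obj.left.left) (T' : Over S) (a : T' ⟶ T) (b : T' ⟶ C.obj.left),
      IsAffine T'.left ∧ Etale a.left ∧ t ∈ Set.range a.left ∧ (yon S).map b ≫ C.obj.hom = (yon S).map a ≫ x := by
  let n : (ofSp N).obj := ⟨T, (J S).uliftYonedaEquiv x⟩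
  obtain ⟨C, hC, m', a, b, h1, h2, h3⟩ := K907.EtNhd.exists_etale_nhd hN n t
  refine ⟨C, hC, m'.base, a.hom, b.hom, h1, h2, h3, ?_⟩
  have h4 : SpGeo.toMap n = x := SpGeo.toMap_mk x
  rw [← h4, SpGeo.toMap_comp a, ← SpGeo.toMap_comp b, SpGeo.toMap_etaOf]

variable (h𝒳 : FibCat.IsFibGrpd 𝒳.p) {π : 𝒳 ⥤ᵇ ofSp M} (hL : Loc π) (hu : UnitIsIso π)

include h𝒳 hL hu in
/-- Points of `N` over an étale object are determined on `𝒳`. -/
theorem point_unique (hN : IsAlgSpace N) {m : (ofSp M).obj} (hm : SpGeo.IsEt m) {g g' : (yon S).obj m.base ⟶ N}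
    (h : ∀ (ξ : 𝒳.obj) (α : π.obj ξ ⟶ m), (yon S).map (baseOver π ξ α) ≫ g = (yon S).map (baseOver π ξ α) ≫ g') :
    g = g' := by
  let R : Sieve m.base :=
    { arrows := fun T' k => (yon S).map k ≫ g = (yon S).map k ≫ g'
      downward_closed := by
        intro T' T'' k h l
        rw [Functor.map_comp, Category.assoc, Category.assoc, h] }
  refine K615.Pt.pt_ext R (K615.Cov.sieve_mem R fun t => ?_) _ _ (fun T' k hk => hk)
  obtain ⟨C, hC, T₁, a₁, b₁, -, ha₁, ⟨t₁, ht₁⟩, hb₁⟩ := exists_chart_nhd hN g t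
  obtain ⟨C', hC', T₂, a₂, b₂, -, ha₂, ⟨t₂, ht₂⟩, hb₂⟩ := exists_chart_nhd hN ((yon S).map a₁ ≫ g') t₁
  refine ⟨T₂, a₂ ≫ a₁, ?_, ?_, ?_, ⟨t₂, ?_⟩⟩
  · -- equality on the étale neighbourhood
    let W : (ofSp M).obj := ⟨T₂, (J S).uliftYonedaEquiv ((yon S).map (a₂ ≫ a₁) ≫ SpGeo.toMap m)⟩
    have hW : SpGeo.toMap W = (yon S).map (a₂ ≫ a₁) ≫ SpGeo.toMap m := SpGeo.toMap_mk _
    let k : W ⟶ m := SpGeo.homMk (a₂ ≫ a₁) hW.symm
    have hke : Etale k.hom.left := by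
      change Etale (a₂.left ≫ a₁.left)
      infer_instance
    have hWe : SpGeo.IsEt W := SpGeo.isEt_of_hom hm k hke
    obtain ⟨P, snd, fst, sq⟩ := C.property.1 C'.obj.hom
    obtain ⟨fst, rfl⟩ := (yon S).map_surjective fst
    have e1 : (yon S).map (a₂ ≫ b₁) ≫ C.obj.hom = (yon S).map (a₂ ≫ a₁) ≫ g := by
      rw [Functor.map_comp, Category.assoc, hb₁, Functor.map_comp, Category.assoc]
    have e2 : (yon S).map b₂ ≫ C'.obj.hom = (yon S).map (a₂ ≫ a₁) ≫ g' := by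
      rw [hb₂, Functor.map_comp, Category.assoc]
    -- the family of morphisms to `P`
    have hfam : ∀ (ξ : 𝒳.obj) (α : π.obj ξ ⟶ W), ∃ q : 𝒳.p.obj ξ ⟶ P,
        q ≫ fst = baseOver π ξ α ≫ a₂ ≫ b₁ ∧ q ≫ snd = baseOver π ξ α ≫ b₂ := by
      intro ξ α
      have e3 := h ξ (α ≫ k)
      rw [baseOver_comp, Functor.map_comp, Category.assoc, Category.assoc] at e3
      have e4 : (yon S).map (baseOver π ξ α ≫ a₂ ≫ b₁) ≫ C.obj.hom = (yon S).map (baseOver π ξ α ≫ b₂) ≫ C'.obj.hom :=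
        (yon_comp (baseOver π ξ α) (a₂ ≫ b₁) e1).trans (e3.trans (yon_comp (baseOver π ξ α) b₂ e2).symm)
      obtain ⟨q, hq⟩ := (yon S).map_surjective (sq.lift _ _ e4)
      refine ⟨q, (yon S).map_injective ?_, (yon S).map_injective ?_⟩
      · rw [Functor.map_comp, hq, sq.lift_fst]
      · rw [Functor.map_comp, hq, sq.lift_snd]
    have huq : ∀ {T : Over S} {q q' : T ⟶ P}, q ≫ fst = q' ≫ fst → q ≫ snd = q' ≫ snd → q = q' := by
      intro T q q' h1 h2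
      refine (yon S).map_injective (sq.hom_ext ?_ ?_)
      · rw [← Functor.map_comp, ← Functor.map_comp, h1]
      · rw [← Functor.map_comp, ← Functor.map_comp, h2]
    choose q hq1 hq2 using hfam
    obtain ⟨G, hG⟩ := K864.Fam.exists_hom h𝒳 hL hu hWe (T := P.left) (fun ξ α => (q ξ α).left) (fun {ξ' ξ} φ α => by
      have e5 : 𝒳.p.map φ ≫ q ξ α = q ξ' (π.map φ ≫ α) := by
        refine huq ?_ ?_
        · rw [Category.assoc, hq1, hq1, ← map_comp_baseOver, Category.assoc]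
        · rw [Category.assoc, hq2, hq2, ← map_comp_baseOver, Category.assoc]
      exact congrArg (fun k : 𝒳.p.obj ξ' ⟶ P => k.left) e5)
    have hG1 : G ≫ fst.left = (a₂ ≫ b₁).left := K864.Sep.hom_ext h𝒳 hL hu hWe fun ξ α => by
      rw [← Category.assoc, hG]
      exact congrArg (fun k : 𝒳.p.obj ξ ⟶ C.obj.left => k.left) (hq1 ξ α)
    have hG2 : G ≫ snd.left = b₂.left := K864.Sep.hom_ext h𝒳 hL hu hWe fun ξ α => by
      rw [← Category.assoc, hG]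
      exact congrArg (fun k : 𝒳.p.obj ξ ⟶ C'.obj.left => k.left) (hq2 ξ α)
    let G' : T₂ ⟶ P := Over.homMk G (by
      rw [← Over.w fst, ← Category.assoc, hG1]
      exact Over.w (a₂ ≫ b₁))
    have hG1' : G' ≫ fst = a₂ ≫ b₁ := Over.OverMorphism.ext hG1
    have hG2' : G' ≫ snd = b₂ := Over.OverMorphism.ext hG2
    change (yon S).map (a₂ ≫ a₁) ≫ g = (yon S).map (a₂ ≫ a₁) ≫ g'
    rw [← e1, ← e2, ← hG1', ← hG2', Functor.map_comp, Functor.map_comp, Category.assoc, Category.assoc, sq.w]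
  · change Flat (a₂.left ≫ a₁.left)
    infer_instance
  · change LocallyOfFinitePresentation (a₂.left ≫ a₁.left)
    infer_instance
  · rw [Over.comp_left, Scheme.Hom.comp_apply, ht₂, ht₁]

end K864.SpFac
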