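import Groth.Agent.StMod.K864.Section
import Groth.Agent.StMod.K864.ClPt
import Groth.Agent.StMod.K864.SpFac
import Groth.Agent.StMod.K864.QcCut
import Groth.Agent.StMod.K864.ChartSp

/-!
# Factorization through an algebraic space near a closed point

`π : 𝒳 ⥤ᵇ ofSp M` with `Loc π`, `UnitIsIso π`; `ψ : 𝒳 ⥤ᵇ ofSp N`, `N` an algebraic space. Near every closed point of an affine étale
object `E` over `M`, étale-locally on `E`, `ψ` factors through `π`.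
-/

set_option autoImplicit false
set_option linter.unusedVariables false
set_option linter.style.haveILetI false
set_option backward.isDefEq.respectTransparency false
set_option backward.isDefEq.respectTransparency.types false

universe v' w' v w u

open CategoryTheory CategoryTheory.Limits AlgebraicGeometry Opposite StMod AlgSt AlgSp TopologicalSpace

namespace K864.AtClosed

open K862.Rep K862.Lev K908.Aff K907.Disj K907.FibTerm K906 K907.Free K907.Atl K907.Pt K907.Van K907.Closed K907.GM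
  K864.Lvl K864.Sep K864.SpFac K864.ChartSp K899.OpenCrit

variable {S : Scheme.{u}}

section Val

variable {𝒴 : BasedCategory.{v, w} (Over S)} (h𝒴 : FibCat.IsFibGrpd 𝒴.p)

/-- Values of compatible families at points of the same class. -/
theorem val_pt {T : Scheme.{u}} (c : ∀ ξ : 𝒴.obj, sch 𝒴 ξ ⟶ T)
    (hc : ∀ {ξ' ξ : 𝒴.obj} (φ : ξ' ⟶ ξ), bmap 𝒴 φ ≫ c ξ = c ξ') {ξ ξ' : 𝒴.obj} {t : ↥(sch 𝒴 ξ)} {t' : ↥(sch 𝒴 ξ')}
    (h : pt h𝒴 ξ t = pt h𝒴 ξ' t') : c ξ t = c ξ' t' := by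
  obtain ⟨r, a, b, -⟩ := (K735.Pts.mk_eq_mk_iff h𝒴).1 h
  have key : ∀ {η : 𝒴.obj} {s : ↥(sch 𝒴 η)} (d : r.obj ⟶ (fpt h𝒴 η s).obj), c η s = c r.obj (ptt r) := by
    intro η s d
    have h1 : bmap 𝒴 (d ≫ fptArr h𝒴 η s) (ptt r) = s := by
      rw [bmap_comp]
      change bmap 𝒴 (fptArr h𝒴 η s) (bmap 𝒴 d (ptt r)) = s
      rw [eq_ptt (fpt h𝒴 η s) (bmap 𝒴 d (ptt r)), bmap_fptArr_ptt]
    have h2 := congrArg (fun k : sch 𝒴 r.obj ⟶ T => k (ptt r)) (hc (d ≫ fptArr h𝒴 η s))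
    change c η (bmap 𝒴 (d ≫ fptArr h𝒴 η s) (ptt r)) = _ at h2
    rw [h1] at h2
    exact h2
  exact (key a).trans (key b).symm

end Val

section SubSep

variable {𝒴 : BasedCategory.{v, w} (Over S)} {N : Sp S} (h𝒴 : FibCat.IsFibGrpd 𝒴.p) (ψ : 𝒴 ⥤ᵇ ofSp N) (C : EtOver N)

include h𝒴 in
/-- The fibres of an open part embed into the chart. -/
theorem ext_nu_sub {Q : (fibCat ψ (etaOf C)).obj → Prop}
    (hQ : ∀ {a b : (fibCat ψ (etaOf C)).obj} (φ : b ⟶ a), Q a → Q b) {y : (fullSub (fibCat ψ (etaOf C)) Q).obj} {ξ : 𝒴.obj}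
    {φ : (psub (fibPt ψ (etaOf C)) Q).obj y ⟶ ξ} (hφ : IsTerm (psub (fibPt ψ (etaOf C)) Q) (w := y) φ) {T : Scheme.{u}}
    {a b : T ⟶ sch (fibCat ψ (etaOf C)) y.obj}
    (h1 : a ≫ str (fibPt ψ (etaOf C)) (y := y.obj) φ = b ≫ str (fibPt ψ (etaOf C)) (y := y.obj) φ)
    (h2 : a ≫ nu ψ C y.obj = b ≫ nu ψ C y.obj) : a = b := by
  rw [str_fibPt] at h1
  let Y := FObj.pt y.obj
  have h1' : a ≫ (𝒴.p.map (show Y ⟶ ξ from φ)).left = b ≫ (𝒴.p.map (show Y ⟶ ξ from φ)).left := h1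
  have h3 : b ≫ (𝒴.p.obj Y).hom = a ≫ (𝒴.p.obj Y).hom := by
    have e := Over.w (𝒴.p.map (show Y ⟶ ξ from φ))
    rw [← e, ← Category.assoc, ← h1', Category.assoc]
  let T' : Over S := Over.mk (a ≫ (𝒴.p.obj Y).hom)
  let a' : T' ⟶ 𝒴.p.obj Y := Over.homMk a rfl
  let b' : T' ⟶ 𝒴.p.obj Y := Over.homMk b h3
  obtain ⟨θ, χa, e, ha⟩ := K735.Fib.exists_lift h𝒴 (x := Y) a'
  obtain ⟨χb, hb, hab⟩ := K735.Fib.exists_hom h𝒴 (show Y ⟶ ξ from φ) (χa ≫ (show Y ⟶ ξ from φ)) (eqToHom e ≫ b') (by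
    rw [Functor.map_comp, ha, Category.assoc, Category.assoc]
    congr 1
    exact Over.OverMorphism.ext h1'.symm)
  have key : ψ.map χa ≫ FObj.arr y.obj = ψ.map χb ≫ FObj.arr y.obj := by
    apply Stk.EltObj.hom_ext
    have e1 : ∀ χ : θ ⟶ Y, (ψ.map χ ≫ FObj.arr y.obj).hom = eqToHom (ψ.w_obj θ) ≫ 𝒴.p.map χ ≫ fbase y.obj := by
      intro χ
      unfold fbase
      rw [map_comp_baseOver]
      unfold baseOver
      rw [← Category.assoc, eqToHom_trans, eqToHom_refl, Category.id_comp]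
      rfl
    rw [e1, e1, ha, hb]
    congr 1
    rw [Category.assoc, Category.assoc]
    congr 1
    exact Over.OverMorphism.ext h2
  let θ' : (fibCat ψ (etaOf C)).obj := ⟨θ, ψ.map χa ≫ FObj.arr y.obj⟩
  let ka : θ' ⟶ y.obj := FObj.mkHom χa rfl
  let kb : θ' ⟶ y.obj := FObj.mkHom χb key.symm
  have hk : (ObjectProperty.homMk ka : (⟨θ', hQ ka y.property⟩ : (fullSub (fibCat ψ (etaOf C)) Q).obj) ⟶ y) =
      ObjectProperty.homMk kb := hom_eq hφ (by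
    change χa ≫ φ = χb ≫ φ
    exact hab.symm)
  have h5 : χa = χb := congrArg (fun k : (⟨θ', hQ ka y.property⟩ : (fullSub (fibCat ψ (etaOf C)) Q).obj) ⟶ y =>
    FObj.Hom.hom k.hom) hk
  rw [h5, hb] at ha
  have h6 : b' = a' := (cancel_epi _).1 ha
  exact (congrArg (fun k : T' ⟶ 𝒴.p.obj Y => k.left) h6).symm

end SubSep

variable {𝒳 : BasedCategory.{v, w} (Over S)} {M N : Sp S} (h𝒳 : FibCat.IsFibGrpd 𝒳.p) {π : 𝒳 ⥤ᵇ ofSp M} (hL : Loc π)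
  (hu : UnitIsIso π)

include hL hu in
/-- A closed point over a closed point. -/
theorem exists_closed_over (E : EtOver M) (hE : IsAffine E.obj.left.left) (y : ↥(etaOf E).base.left)
    (hy : IsClosed ({y} : Set ↥(etaOf E).base.left)) : ∃ x : Points (fibCat π (etaOf E)), IsCl (isFibGrpd_fibCat h𝒳) {x} ∧
      ∀ (ξ : (fibCat π (etaOf E)).obj) (t : ↥(sch (fibCat π (etaOf E)) ξ)), pt (isFibGrpd_fibCat h𝒳) ξ t = x →
        (str π (FObj.arr ξ)) t = y := by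
  have h𝒴 : FibCat.IsFibGrpd (fibCat π (etaOf E)).p := isFibGrpd_fibCat h𝒳
  obtain ⟨-, ⟨P⟩⟩ := hL E hE
  let c : ∀ ξ : (fibCat π (etaOf E)).obj, sch (fibCat π (etaOf E)) ξ ⟶ (etaOf E).base.left := fun ξ => (fbase ξ).left
  have hc : ∀ {ξ' ξ : (fibCat π (etaOf E)).obj} (φ : ξ' ⟶ ξ), bmap (fibCat π (etaOf E)) φ ≫ c ξ = c ξ' :=
    fun φ => bmap_fbase φ
  let W : Set (Points (fibCat π (etaOf E))) := {x | ∃ (ξ : (fibCat π (etaOf E)).obj) (t : ↥(sch (fibCat π (etaOf E)) ξ)),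
    pt h𝒴 ξ t = x ∧ c ξ t = y}
  have hW : ∀ {ξ : (fibCat π (etaOf E)).obj} {t : ↥(sch (fibCat π (etaOf E)) ξ)}, pt h𝒴 ξ t ∈ W ↔ c ξ t = y := by
    intro ξ t
    constructor
    · rintro ⟨ξ', t', h1, h2⟩
      rw [← h2]
      exact (val_pt h𝒴 c hc h1).symm
    · intro h
      exact ⟨ξ, t, rfl, h⟩
  have hWcl : IsCl h𝒴 W := by
    intro ξ hξ
    have e : prei h𝒴 W ξ = (c ξ) ⁻¹' {y} := by
      ext t
      exact hW
    rw [e]
    exact hy.preimage (c ξ).continuous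
  have hne : W.Nonempty := by
    by_contra hcon
    rw [Set.not_nonempty_iff_eq_empty] at hcon
    refine notMem_of_not_hit h𝒳 hL hu (SpGeo.isEt_etaOf E) hE hy (fun ξ α t hξ h1 => ?_) y rfl
    have h2 : pt h𝒴 (⟨ξ, α⟩ : FObj π (etaOf E)) t ∈ W := hW.2 h1
    rw [hcon] at h2
    exact h2
  obtain ⟨x, hx, hcl⟩ := K864.ClPt.exists_closed_point h𝒴 P W hWcl hne
  refine ⟨x, hcl, fun ξ t ht => ?_⟩
  rw [← ht] at hx
  exact hW.1 hx

section Geom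

variable {𝒴 : BasedCategory.{v, w} (Over S)} (h𝒴 : FibCat.IsFibGrpd 𝒴.p) (ψ : 𝒴 ⥤ᵇ ofSp N)

/-- A geometric point of a class with a lift to an affine étale chart of `N`. -/
theorem exists_geom (hN : IsAlgSpace N) (x : Points 𝒴) :
    ∃ (C : EtOver N) (_ : IsAffine C.obj.left.left) (K : Type u) (_ : Field K) (_ : IsAlgClosed K)
      (v : (fibCat ψ (etaOf C)).obj) (_ : sch (fibCat ψ (etaOf C)) v ≅ Spec (CommRingCat.of K)),
      ∀ t : ↥(sch 𝒴 (FObj.pt v)), pt h𝒴 (FObj.pt v) t = x := by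
  obtain ⟨r, rfl⟩ := exists_rep x
  obtain ⟨C, hC, m', a, b, -, ha, ⟨t', ht'⟩⟩ := K907.EtNhd.exists_etale_nhd hN (ψ.obj r.obj) ((eqSch ψ r.obj).hom (ptt r))
  let K : Type u := AlgebraicClosure (m'.base.left.residueField t')
  let sp : Spec (CommRingCat.of K) ⟶ m'.base.left :=
    Spec.map (CommRingCat.ofHom (algebraMap (m'.base.left.residueField t') K)) ≫ m'.base.left.fromSpecResidueField t'
  let m'' : (ofSp N).obj := ⟨Over.mk (sp ≫ m'.base.hom), N.obj.map (Over.homMk sp : Over.mk (sp ≫ m'.base.hom) ⟶ m'.base).op m'.sec⟩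
  let k : m'' ⟶ m' := ⟨Over.homMk sp, rfl⟩
  obtain ⟨ξ', φ, i, hi, hφ⟩ := exists_lift_fun h𝒴 (inferInstance : FibCat.IsFibGrpd (ofSp N).p) ψ (x := r.obj) (k ≫ a)
  have I := baseOver_isIso ψ i
  refine ⟨C, hC, K, inferInstance, inferInstance, ⟨ξ', i ≫ k ≫ b⟩, asIso (baseOver ψ ξ' i).left, fun t => ?_⟩
  change pt h𝒴 ξ' t = _
  rw [← pt_map h𝒴 φ t, mk_eq_pt_self h𝒴 r (bmap 𝒴 φ t)]

end Geom

include h𝒳 hL hu in
/-- Factorization near a closed point. -/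
theorem exists_at_closed (hN : IsAlgSpace N) (ψ : 𝒳 ⥤ᵇ ofSp N) (E : EtOver M) (hE : IsAffine E.obj.left.left)
    (y : ↥(etaOf E).base.left) (hy : IsClosed ({y} : Set ↥(etaOf E).base.left)) :
    ∃ (E₂ : EtOver M) (_ : IsAffine E₂.obj.left.left) (ω : etaOf E₂ ⟶ etaOf E) (_ : Etale ω.hom.left)
      (_ : y ∈ Set.range ω.hom.left), ∃ g : (yon S).obj (etaOf E₂).base ⟶ N, FacS π ψ (etaOf E₂) g := by
  have h𝒴 : FibCat.IsFibGrpd (fibCat π (etaOf E)).p := isFibGrpd_fibCat h𝒳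
  obtain ⟨-, ⟨P⟩⟩ := hL E hE
  obtain ⟨x, hx, hxy⟩ := exists_closed_over h𝒳 hL hu E hE y hy
  let ψE : fibCat π (etaOf E) ⥤ᵇ ofSp N := BasedFunctor.comp (fibPt π (etaOf E)) ψ
  obtain ⟨C, hC, K, _, _, v₀, κ, hv₀⟩ := exists_geom h𝒴 ψE hN x
  have h𝒱 : FibCat.IsFibGrpd (fibCat ψE (etaOf C)).p := isFibGrpd_fibCat h𝒴
  let p : fibCat ψE (etaOf C) ⥤ᵇ fibCat π (etaOf E) := fibPt ψE (etaOf C)
  have hp : IsRep (@Etale ⊓ @IsSeparated) p := ChartSp.isRep h𝒴 ψE C hC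
  have hmap : ∀ (v : (fibCat ψE (etaOf C)).obj) (t : ↥(sch (fibCat ψE (etaOf C)) v)),
      Points.map p (pt h𝒱 v t) = pt h𝒴 (FObj.pt v) t := by
    intro v t
    have h1 := map_pt h𝒱 h𝒴 p (ξ := v) (𝟙 _) t
    rw [h1]
    congr 1
    have e : baseOver p v (𝟙 (p.obj v)) = 𝟙 _ := by
      unfold baseOver
      rw [CategoryTheory.Functor.map_id]
      exact Category.comp_id _
    rw [e]
    rfl
  let t₀ : ↥(sch (fibCat ψE (etaOf C)) v₀) := κ.inv (IsLocalRing.closedPoint K)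
  have ht₀ : ∀ t : ↥(sch (fibCat ψE (etaOf C)) v₀), t = t₀ := by
    intro t
    have h1 : κ.hom t = IsLocalRing.closedPoint K := Subsingleton.elim (α := PrimeSpectrum K) _ _
    have h2 : κ.inv (κ.hom t) = t := (Scheme.homeoOfIso κ).symm_apply_apply t
    rw [← h2, h1]
  obtain ⟨Q, hQ, hrep, hQv⟩ := K864.QcCut.exists_qc h𝒱 h𝒴 P hp (pt h𝒱 v₀ t₀)
  have hQ₀ : Q v₀ := hQv v₀ (fun t => by rw [ht₀ t])
  let v₁ : (fullSub (fibCat ψE (etaOf C)) Q).obj := ⟨v₀, hQ₀⟩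
  have h𝒱' : FibCat.IsFibGrpd (fullSub (fibCat ψE (etaOf C)) Q).p := K864.Locus.isFib hQ h𝒱
  have hcl : IsCl h𝒴 {Points.map (psub p Q) (pt h𝒱' v₁ t₀)} := by
    have h1 : Points.map (psub p Q) (pt h𝒱' v₁ t₀) = x := by
      have h2 := map_pt h𝒱' h𝒴 (psub p Q) (ξ := v₁) (𝟙 _) t₀
      have e : baseOver (psub p Q) v₁ (𝟙 ((psub p Q).obj v₁)) = 𝟙 _ := by
        unfold baseOver
        rw [CategoryTheory.Functor.map_id]
        exact Category.comp_id _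
      rw [e] at h2
      exact h2.trans (hv₀ t₀)
    rw [h1]
    exact hx
  haveI := hC
  obtain ⟨E₂, hE₂, ω, hω, β₀, hβ₀, c, hc1, hc2⟩ := K864.Step.exists_section h𝒳 hu hL E hE h𝒱' (psub p Q) hrep
    (T := C.obj.left.left) (fun v => nu ψE C v.obj) (fun φ => nu_map ψE C φ.hom)
    (fun {y ξ φ} hφ {W a b} h1 h2 => ext_nu_sub h𝒴 ψE C (Q := Q) (fun φ h => hQ.of_hom φ h) hφ h1 h2) v₁ κ t₀ hcl
  have hyr : y ∈ Set.range ω.hom.left := by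
    have h1 : (str π (FObj.arr (FObj.pt v₀))) t₀ = y := hxy (FObj.pt v₀) t₀ (hv₀ t₀)
    have h2 : str π (y := FObj.pt (FObj.pt v₀)) (β₀ ≫ ω) = str π (FObj.arr (FObj.pt v₀)) := congrArg (str π) hβ₀
    rw [str_arr] at h2
    refine ⟨str π (y := FObj.pt (FObj.pt v₀)) β₀ t₀, ?_⟩
    rw [← h1, ← h2]
    rfl
  have key : ∀ (ξ : 𝒳.obj) (α : π.obj ξ ⟶ etaOf E₂), IsAffine (sch 𝒳 ξ) →
      ∃ (v : (fibCat ψE (etaOf C)).obj) (j : FObj.pt (FObj.pt v) ⟶ ξ), IsIso (bmap 𝒳 j) ∧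
        bmap 𝒳 j ≫ c ⟨ξ, α⟩ = (fbase v).left := by
    intro ξ α hξ
    obtain ⟨v, j, h1, h2⟩ := hc2 ⟨ξ, α⟩ hξ
    have h3 : str (psub p Q) (y := v) j = bmap 𝒳 j.hom := str_fibPt ψE C (y := v.obj) j
    rw [h3] at h1 h2
    exact ⟨v.obj, j.hom, h1, h2⟩
  have hnat : ∀ {ξ' ξ : 𝒳.obj} (φ : ξ' ⟶ ξ) (α : π.obj ξ ⟶ etaOf E₂), bmap 𝒳 φ ≫ c ⟨ξ, α⟩ = c ⟨ξ', π.map φ ≫ α⟩ := by
    intro ξ' ξ φ α
    let a : (fibCat π (etaOf E₂)).obj := ⟨ξ, α⟩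
    let b : (fibCat π (etaOf E₂)).obj := ⟨ξ', π.map φ ≫ α⟩
    exact hc1 (FObj.mkHom φ rfl : b ⟶ a)
  have hS : ∀ (ξ : 𝒳.obj) (α : π.obj ξ ⟶ etaOf E₂), c ⟨ξ, α⟩ ≫ C.obj.left.hom = (𝒳.p.obj ξ).hom := by
    have haff : ∀ (ξ : 𝒳.obj) (α : π.obj ξ ⟶ etaOf E₂), IsAffine (sch 𝒳 ξ) →
        c ⟨ξ, α⟩ ≫ C.obj.left.hom = (𝒳.p.obj ξ).hom := by
      intro ξ α hξ
      obtain ⟨v, j, h1, h2⟩ := key ξ α hξ
      rw [← cancel_epi (bmap 𝒳 j), ← Category.assoc, h2]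
      exact (Over.w (fbase v)).trans (Over.w (𝒳.p.map j)).symm
    intro ξ α
    refine K864.SpFac.hom_ext_aff h𝒳 ξ fun ζ φ hζ => ?_
    rw [← Category.assoc, hnat, haff ζ _ hζ]
    exact (Over.w (𝒳.p.map φ)).symm
  let cc : ∀ (ξ : 𝒳.obj) (α : π.obj ξ ⟶ etaOf E₂), 𝒳.p.obj ξ ⟶ C.obj.left := fun ξ α => Over.homMk (c ⟨ξ, α⟩) (hS ξ α)
  have hcc : ∀ {ξ' ξ : 𝒳.obj} (φ : ξ' ⟶ ξ) (α : π.obj ξ ⟶ etaOf E₂), 𝒳.p.map φ ≫ cc ξ α = cc ξ' (π.map φ ≫ α) :=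
    fun φ α => Over.OverMorphism.ext (hnat φ α)
  have hfac : ∀ (ξ : 𝒳.obj) (α : π.obj ξ ⟶ etaOf E₂), (yon S).map (cc ξ α) ≫ SpGeo.toMap (etaOf C) = zs ψ ξ := by
    have haff : ∀ (ξ : 𝒳.obj) (α : π.obj ξ ⟶ etaOf E₂), IsAffine (sch 𝒳 ξ) →
        (yon S).map (cc ξ α) ≫ SpGeo.toMap (etaOf C) = zs ψ ξ := by
      intro ξ α hξ
      obtain ⟨v, j, h1, h2⟩ := key ξ α hξ
      have h3 : 𝒳.p.map j ≫ cc ξ α = fbase v := Over.OverMorphism.ext h2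
      have h4 : IsIso (𝒳.p.map j) := by
        have : IsIso ((Over.forget S).map (𝒳.p.map j)) := h1
        exact isIso_of_reflects_iso _ (Over.forget S)
      have h5 : (yon S).map (fbase v) ≫ SpGeo.toMap (etaOf C) = zs ψE (FObj.pt v) := baseOver_toMap ψE (FObj.arr v)
      have h6 : zs ψE (FObj.pt v) = zs ψ (FObj.pt (FObj.pt v)) := rfl
      have h7 : IsIso ((yon S).map (𝒳.p.map j)) := inferInstance
      rw [← cancel_epi ((yon S).map (𝒳.p.map j)), map_zs, ← Category.assoc, ← Functor.map_comp, h3, ← h6]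
      exact h5
    intro ξ α
    refine K864.SpFac.pt_ext_aff h𝒳 ξ fun ζ φ hζ => ?_
    rw [← Category.assoc, ← Functor.map_comp, hcc, haff ζ _ hζ, map_zs]
  obtain ⟨g₀, hg₀⟩ := K864.Fam.exists_hom h𝒳 hL hu (SpGeo.isEt_etaOf E₂) (T := C.obj.left.left) (fun ξ α => c ⟨ξ, α⟩) hnat
  let g₁ : (etaOf E₂).base ⟶ C.obj.left := Over.homMk g₀ (K864.Sep.hom_ext h𝒳 hL hu (SpGeo.isEt_etaOf E₂) fun ξ α => by
    rw [← Category.assoc, hg₀, hS]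
    exact (Over.w (baseOver π ξ α)).symm)
  refine ⟨E₂, hE₂, ω, hω, hyr, (yon S).map g₁ ≫ SpGeo.toMap (etaOf C), fun ξ α => ?_⟩
  have h8 : baseOver π ξ α ≫ g₁ = cc ξ α := Over.OverMorphism.ext (hg₀ ξ α)
  rw [← hfac ξ α, ← h8, Functor.map_comp, Category.assoc]

end K864.AtClosed
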