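import Groth.Agent.StMod.K469.EtIdem

/-!
# Étale-local idempotents: the algebra

* `prodHom` : the ring homomorphism `B ⊗ A₁ → R` from `B → R` and `A₁ → R` agreeing on `A`;
* `exists_alg` : for `A → B` integral, `χ 0, …, χ n : B → K` over `ι : A → K` and `c : B` with `χ 0 c ≠ 0`: an étale `A → A₁` with a
  `K`-point, a polynomial `e₁` idempotent modulo an equation of `c`, divisible by `X`, and an idempotent `e₂ ∈ B ⊗ A₁` which is one
  at `χ 0` and zero at the other `χ i`.
-/

set_option autoImplicit false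
set_option linter.unusedVariables false
set_option linter.style.haveILetI false
set_option backward.isDefEq.respectTransparency false
set_option backward.isDefEq.respectTransparency.types false

open Polynomial TensorProduct

universe u

namespace K864.SepAlg

section Prod

variable {A B A₁ R R' : Type u} [CommRing A] [CommRing B] [CommRing A₁] [CommRing R] [CommRing R'] [Algebra A B] [Algebra A A₁]

/-- The ring homomorphism from the tensor product. -/
noncomputable def prodHom (f : B →+* R) (g : A₁ →+* R) (h : f.comp (algebraMap A B) = g.comp (algebraMap A A₁)) :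
    B ⊗[A] A₁ →+* R :=
  letI : Algebra A R := (f.comp (algebraMap A B)).toAlgebra
  (Algebra.TensorProduct.productMap (R := A) (A := B) (B := A₁) (S := R)
    { f with commutes' := fun a => rfl }
    { g with commutes' := fun a => (RingHom.congr_fun h a).symm }).toRingHom

theorem prodHom_tmul (f : B →+* R) (g : A₁ →+* R) (h : f.comp (algebraMap A B) = g.comp (algebraMap A A₁)) (b : B)
    (a : A₁) : prodHom f g h (b ⊗ₜ a) = f b * g a := by
  letI : Algebra A R := (f.comp (algebraMap A B)).toAlgebra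
  exact Algebra.TensorProduct.productMap_apply_tmul (R := A) (A := B) (B := A₁) (S := R) _ _ b a

theorem prodHom_left (f : B →+* R) (g : A₁ →+* R) (h : f.comp (algebraMap A B) = g.comp (algebraMap A A₁)) :
    (prodHom f g h).comp Algebra.TensorProduct.includeLeftRingHom = f := by
  ext b
  change prodHom f g h (b ⊗ₜ 1) = f b
  rw [prodHom_tmul, map_one, mul_one]

theorem prodHom_right (f : B →+* R) (g : A₁ →+* R) (h : f.comp (algebraMap A B) = g.comp (algebraMap A A₁)) :
    (prodHom f g h).comp (Algebra.TensorProduct.includeRight (R := A) (A := B) (B := A₁)).toRingHom = g := by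
  ext b
  change prodHom f g h (1 ⊗ₜ b) = g b
  rw [prodHom_tmul, map_one, one_mul]

theorem prodHom_comp (f : B →+* R) (g : A₁ →+* R) (h : f.comp (algebraMap A B) = g.comp (algebraMap A A₁)) (k : R →+* R')
    (h' : (k.comp f).comp (algebraMap A B) = (k.comp g).comp (algebraMap A A₁)) (x : B ⊗[A] A₁) :
    k (prodHom f g h x) = prodHom (k.comp f) (k.comp g) h' x := by
  induction x using TensorProduct.induction_on with
  | zero => rw [map_zero, map_zero, map_zero]
  | tmul b a =>
    rw [prodHom_tmul, prodHom_tmul, map_mul]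
    rfl
  | add x y hx hy => rw [map_add, map_add, map_add, hx, hy]

end Prod

theorem exists_alg {A B K : Type u} [CommRing A] [CommRing B] [Algebra A B] [Algebra.IsIntegral A B]
    [Field K] [IsAlgClosed K] (ι : A →+* K) {n : ℕ} (χ : Fin (n + 1) → (B →+* K))
    (hχ : ∀ i, (χ i).comp (algebraMap A B) = ι) (c : B) (hc : χ 0 c ≠ 0) :
    ∃ (A₁ : Type u) (_ : CommRing A₁) (_ : Algebra A A₁) (_ : Algebra.Etale A A₁) (ι₁ : A₁ →+* K)
      (_ : ι₁.comp (algebraMap A A₁) = ι) (q : A[X]) (e₁ d₁ : A₁[X]) (e₂ : B ⊗[A] A₁),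
      q.Monic ∧ q.eval₂ (algebraMap A B) c = 0 ∧ (q.map (algebraMap A A₁) ∣ e₁ ^ 2 - e₁) ∧
      (q.map (algebraMap A A₁) ∣ e₁ - X * d₁) ∧ e₁.eval₂ ι₁ (χ 0 c) = 1 ∧ IsIdempotentElem e₂ ∧
      ∀ (i : Fin (n + 1)) (φ : B ⊗[A] A₁ →+* K), φ.comp (Algebra.TensorProduct.includeLeftRingHom) = χ i →
        φ.comp (Algebra.TensorProduct.includeRight (R := A) (A := B) (B := A₁)).toRingHom = ι₁ →
        (χ i = χ 0 → φ e₂ = 1) ∧ (χ i ≠ χ 0 → φ e₂ = 0) := by
  obtain ⟨q, hq, hqc⟩ := Algebra.IsIntegral.isIntegral (R := A) c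
  have hev : q.eval₂ ι (χ 0 c) = 0 := by
    rw [← hχ 0, ← Polynomial.hom_eval₂, hqc, map_zero]
  obtain ⟨A', _, _, hA', ι', hι', e, he1, he2, -, he3⟩ := K469.EtPoly.exists_etale_poly ι q hq (χ 0 c) hev
  obtain ⟨d, hd⟩ := he3 hc
  obtain ⟨A'', _, _, hA'', ι'', hι'', e'', hid, hsep⟩ := K469.EtIdem.exists_etale_idem ι χ hχ
  let l : A' →+* A' ⊗[A] A'' := Algebra.TensorProduct.includeLeftRingHom
  let r : A'' →ₐ[A] A' ⊗[A] A'' := Algebra.TensorProduct.includeRight
  have hl : l.comp (algebraMap A A') = algebraMap A (A' ⊗[A] A'') := rfl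
  have hιι : ι'.comp (algebraMap A A') = ι''.comp (algebraMap A A'') := hι'.trans hι''.symm
  let ι₁ : A' ⊗[A] A'' →+* K := prodHom ι' ι'' hιι
  have hι₁l : ι₁.comp l = ι' := prodHom_left ι' ι'' hιι
  have hι₁r : ι₁.comp r.toRingHom = ι'' := prodHom_right ι' ι'' hιι
  have hmap : ∀ f : A[X], (f.map (algebraMap A A')).map l = f.map (algebraMap A (A' ⊗[A] A'')) := by
    intro f
    rw [Polynomial.map_map, hl]
  haveI : Algebra.Etale A' (A' ⊗[A] A'') := inferInstance
  haveI : IsScalarTower A A' (A' ⊗[A] A'') := inferInstance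
  let m : B ⊗[A] A'' →ₐ[A] B ⊗[A] (A' ⊗[A] A'') := Algebra.TensorProduct.map (AlgHom.id A B) r
  refine ⟨A' ⊗[A] A'', inferInstance, inferInstance, Algebra.Etale.comp A A' (A' ⊗[A] A''), ι₁, ?_, q, e.map l, d.map l, m e'',
    hq, hqc, ?_, ?_, ?_, ?_, ?_⟩
  · rw [← hl, ← RingHom.comp_assoc, hι₁l, hι']
  · obtain ⟨g, hg⟩ := he1
    refine ⟨g.map l, ?_⟩
    rw [← hmap, ← Polynomial.map_mul, ← hg, Polynomial.map_sub, Polynomial.map_pow]
  · obtain ⟨g, hg⟩ := hd
    refine ⟨g.map l, ?_⟩
    rw [← hmap, ← Polynomial.map_mul, ← hg, Polynomial.map_sub, Polynomial.map_mul, Polynomial.map_X]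
  · rw [Polynomial.eval₂_map, hι₁l, he2]
  · exact hid.map m
  · intro i φ h1 h2
    refine hsep i (φ.comp m.toRingHom) ?_ ?_
    · rw [← h1]
      ext b
      change φ (m (b ⊗ₜ 1)) = φ (b ⊗ₜ 1)
      congr 1
    · rw [← hι₁r, ← h2]
      ext b
      change φ (m (1 ⊗ₜ b)) = φ (1 ⊗ₜ (r b))
      congr 1

end K864.SepAlg
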