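import Groth.Agent.StMod.K864.GFun
import Groth.Agent.StMod.K864.SepAlg
import Groth.Agent.StMod.K864.Lvl

/-!
# Cutting a base change by a function

* `tau`, `RR`, `fnn` : the functions of `A₁`, of `B ⊗ A₁` and the cutting function on the base change `Lv ω p`;
* `exists_part` : universal arrows of the cut;
* `isRep_cut` : the cut is finite and étale.
-/

set_option autoImplicit false
set_option linter.unusedVariables false
set_option linter.style.haveILetI false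
set_option backward.isDefEq.respectTransparency false
set_option backward.isDefEq.respectTransparency.types false

universe v' w' v w u

open CategoryTheory CategoryTheory.Limits AlgebraicGeometry Opposite StMod AlgSt AlgSp Polynomial TensorProduct

namespace K864.Cut

open K862.Rep K862.PushO K862.Over K862.FunC K862.Integ K862.Lev K862.FinIdem K862.Step1 K908.Aff K907.Disj K907.FibTerm
  K906 K906.SpGeo K907.Sec K907.Tens K907.GM K907.Atl K907.Pt K907.Closed K864.GFun K864.SepAlg K864.Lvl K899.OpenCrit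

variable {S : Scheme.{u}} {M : Sp S} {𝒳 : BasedCategory.{v, w} (Over S)} {π : 𝒳 ⥤ᵇ ofSp M} {E E₁ : EtOver M}
  (ω : etaOf E₁ ⟶ etaOf E) {𝒱 : BasedCategory.{v', w'} (Over S)} (p : 𝒱 ⥤ᵇ fibCat π (etaOf E))

/-- The functions of `E`. -/
abbrev AE (E : EtOver M) : Type u := Γ(E.obj.left.left, ⊤)

theorem str_pv {η₁ : (ofSp M).obj} {v : 𝒱.obj} (β : (pv p).obj v ⟶ η₁) :
    str (pv p) β = (eqSch p v).hom ≫ str π (y := FObj.pt (p.obj v)) β := by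
  have h : baseOver (pv p) v β = eqToHom (p.w_obj v).symm ≫ baseOver π (FObj.pt (p.obj v)) β := by
    unfold baseOver
    rw [← Category.assoc]
    erw [eqToHom_trans]
  exact congrArg (fun k => k.left) h

section Fn

variable {A₁ B : Type u} [CommRing A₁] [CommRing B] [Algebra (AE E) A₁] [Algebra (AE E) B] (θ : A₁ ≃+* AE E₁)

/-- The functions of `E₁` on the objects. -/
noncomputable def tau (a : (fibCat (pv p) (etaOf E₁)).obj) : A₁ →+* Γ(sch 𝒱 (FObj.pt a), ⊤) :=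
  (str (pv p) (FObj.arr a)).appTop.hom.comp θ.toRingHom

omit [Algebra (AE E) A₁] in
theorem tau_map {a' a : (fibCat (pv p) (etaOf E₁)).obj} (φ : a' ⟶ a) (x : A₁) :
    (bmap 𝒱 (FObj.Hom.hom φ)).appTop (tau p θ a x) = tau p θ a' x := by
  change (bmap 𝒱 (FObj.Hom.hom φ)).appTop ((str (pv p) (FObj.arr a)).appTop (θ x)) = (str (pv p) (FObj.arr a')).appTop (θ x)
  rw [← appTop_comp, ← str_map, φ.comm]

theorem pullFn_fn (v : 𝒱.obj) (x : AE E) :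
    (pullFn p (fn π E)).σ v x = (str (pv p) (y := v) (ξ := etaOf E) (FObj.arr (p.obj v))).appTop x := by
  change (eqSch p v).hom.appTop ((str π (FObj.arr (p.obj v))).appTop x) = _
  rw [str_pv, appTop_comp]
  rfl

variable (hθ : ∀ x : AE E, θ (algebraMap (AE E) A₁ x) = ω.hom.left.appTop x)

include hθ in
theorem tau_alg {a : (fibCat (pv p) (etaOf E₁)).obj} (h : LvP ω p a) (x : AE E) :
    tau p θ a (algebraMap (AE E) A₁ x) = (pullFn p (fn π E)).σ (FObj.pt a) x := by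
  change (str (pv p) (FObj.arr a)).appTop (θ (algebraMap (AE E) A₁ x)) = _
  have h1 : FObj.arr a ≫ ω = FObj.arr (p.obj (FObj.pt a)) := h
  rw [hθ, pullFn_fn, ← h1, str_arr, appTop_comp]
  rfl

variable (ev : ∀ v : 𝒱.obj, B →+* Γ(sch 𝒱 v, ⊤)) (hev : ∀ {v' v : 𝒱.obj} (φ : v' ⟶ v) (b : B), (bmap 𝒱 φ).appTop (ev v b) = ev v' b)
  (hevA : ∀ (v : 𝒱.obj) (x : AE E), ev v (algebraMap (AE E) B x) = (pullFn p (fn π E)).σ v x)

include hθ hevA in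
theorem compat (a : (Lv ω p).obj) : (ev (FObj.pt a.obj)).comp (algebraMap (AE E) B) =
    (tau p θ a.obj).comp (algebraMap (AE E) A₁) := by
  ext x
  change ev _ (algebraMap (AE E) B x) = tau p θ a.obj (algebraMap (AE E) A₁ x)
  rw [hevA, tau_alg ω p θ hθ a.property]

/-- The functions of `B ⊗ A₁` on the objects. -/
noncomputable def RR (a : (Lv ω p).obj) : B ⊗[AE E] A₁ →+* Γ(sch 𝒱 (FObj.pt a.obj), ⊤) :=
  prodHom (ev (FObj.pt a.obj)) (tau p θ a.obj) (compat ω p θ hθ ev hevA a)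

include hev in
theorem RR_map {a' a : (Lv ω p).obj} (φ : a' ⟶ a) (x : B ⊗[AE E] A₁) :
    (bmap 𝒱 (FObj.Hom.hom φ.hom)).appTop (RR ω p θ hθ ev hevA a x) = RR ω p θ hθ ev hevA a' x := by
  unfold RR
  have h1 : ((bmap 𝒱 (FObj.Hom.hom φ.hom)).appTop.hom.comp (ev (FObj.pt a.obj))) = ev (FObj.pt a'.obj) :=
    RingHom.ext fun b => hev _ b
  have h2 : ((bmap 𝒱 (FObj.Hom.hom φ.hom)).appTop.hom.comp (tau p θ a.obj)) = tau p θ a'.obj :=
    RingHom.ext fun b => tau_map p θ φ.hom b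
  have h3 := prodHom_comp (ev (FObj.pt a.obj)) (tau p θ a.obj) (compat ω p θ hθ ev hevA a)
    (bmap 𝒱 (FObj.Hom.hom φ.hom)).appTop.hom (by rw [h1, h2]; exact compat ω p θ hθ ev hevA a') x
  have key : ∀ (f f' : B →+* Γ(sch 𝒱 (FObj.pt a'.obj), ⊤)) (g g' : A₁ →+* Γ(sch 𝒱 (FObj.pt a'.obj), ⊤)) (h : f.comp (algebraMap (AE E) B) =
      g.comp (algebraMap (AE E) A₁)) (h' : f'.comp (algebraMap (AE E) B) = g'.comp (algebraMap (AE E) A₁)), f = f' → g = g' →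
      prodHom f g h x = prodHom f' g' h' x := by
    rintro f _ g _ h h' rfl rfl
    rfl
  exact h3.trans (key _ _ _ _ _ _ h1 h2)

variable (c : B) (e₁ : A₁[X]) (e₂ : B ⊗[AE E] A₁)

/-- The cutting function. -/
noncomputable def fnn (a : (Lv ω p).obj) : Γ(sch 𝒱 (FObj.pt a.obj), ⊤) :=
  e₁.eval₂ (tau p θ a.obj) (ev (FObj.pt a.obj) c) * RR ω p θ hθ ev hevA a e₂

include hev in
theorem fnn_map {a' a : (Lv ω p).obj} (φ : a' ⟶ a) :
    (bmap 𝒱 (FObj.Hom.hom φ.hom)).appTop (fnn ω p θ hθ ev hevA c e₁ e₂ a) = fnn ω p θ hθ ev hevA c e₁ e₂ a' := by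
  unfold fnn
  rw [map_mul, RR_map ω p θ hθ ev hev hevA φ]
  congr 1
  refine (hom_eval₂ e₁ _ (bmap 𝒱 (FObj.Hom.hom φ.hom)).appTop.hom _).trans ?_
  congr 1
  · exact RingHom.ext fun b => tau_map p θ φ.hom b
  · exact hev _ c

/-- The cut. -/
def QQ (a : (Lv ω p).obj) : Prop := IsUnit (fnn ω p θ hθ ev hevA c e₁ e₂ a)

/-- The open where the cutting function is invertible. -/
noncomputable def opn (a : (Lv ω p).obj) : (sch (Lv ω p) a).Opens :=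
  (sch 𝒱 (FObj.pt a.obj)).basicOpen (fnn ω p θ hθ ev hevA c e₁ e₂ a)

include hev in
theorem QQ_iff (a : (Lv ω p).obj) (z : (Lv ω p).obj) (φ : z ⟶ a) : QQ ω p θ hθ ev hevA c e₁ e₂ z ↔
    Set.range (bmap (Lv ω p) φ) ⊆ (opn ω p θ hθ ev hevA c e₁ e₂ a : Set ↥(sch (Lv ω p) a)) := by
  unfold QQ
  rw [← fnn_map ω p θ hθ ev hev hevA c e₁ e₂ φ]
  exact isUnit_appTop_iff (bmap 𝒱 (FObj.Hom.hom φ.hom)) _

include hev in
theorem isFibGrpd_cut (h𝒱 : FibCat.IsFibGrpd 𝒱.p) :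
    FibCat.IsFibGrpd (fullSub (Lv ω p) (QQ ω p θ hθ ev hevA c e₁ e₂)).p :=
  isFibGrpd_fullSub (isFibGrpd_lv ω p h𝒱) fun φ h => by
    unfold QQ at h ⊢
    rw [← fnn_map ω p θ hθ ev hev hevA c e₁ e₂ φ]
    exact h.map (bmap 𝒱 (FObj.Hom.hom φ.hom)).appTop.hom

/-- The functor of the cut. -/
noncomputable abbrev cutF : fullSub (Lv ω p) (QQ ω p θ hθ ev hevA c e₁ e₂) ⥤ᵇ fibCat π (etaOf E₁) :=
  psub (lv ω p) (QQ ω p θ hθ ev hevA c e₁ e₂)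

include hev in
/-- Universal arrows of the cut. -/
theorem exists_part (h𝒱 : FibCat.IsFibGrpd 𝒱.p) {ξ : (fibCat π (etaOf E₁)).obj} {y : 𝒱.obj}
    {α : p.obj y ⟶ (fibMap π ω).obj ξ} (hα : IsTerm p α) :
    ∃ (b : (pv p).obj y ⟶ etaOf E₁) (hb : LvP ω p ⟨y, b⟩) (y₂ : (fullSub (Lv ω p) (QQ ω p θ hθ ev hevA c e₁ e₂)).obj)
      (k : y₂.obj ⟶ (⟨⟨y, b⟩, hb⟩ : (Lv ω p).obj)) (α₂ : (lv ω p).obj y₂.obj ⟶ ξ),
      b = π.map α.hom ≫ FObj.arr ξ ∧ IsOpenImmersion (bmap 𝒱 (FObj.Hom.hom k.hom)) ∧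
      Set.range (bmap 𝒱 (FObj.Hom.hom k.hom)) =
        ((sch 𝒱 y).basicOpen (fnn ω p θ hθ ev hevA c e₁ e₂ ⟨⟨y, b⟩, hb⟩) : Set ↥(sch 𝒱 y)) ∧
      IsTerm (cutF ω p θ hθ ev hevA c e₁ e₂) (w := y₂) α₂ ∧
      str (cutF ω p θ hθ ev hevA c e₁ e₂) (y := y₂) α₂ = bmap 𝒱 (FObj.Hom.hom k.hom) ≫ str p α := by
  obtain ⟨b, hb, α₁, h1, h2, h3⟩ := exists_term_lv (ω := ω) (p := p) hα
  obtain ⟨y₂, k, hk, hkr, hk2⟩ := exists_term_sub' (p := lv ω p) (isFibGrpd_lv ω p h𝒱)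
    (opn ω p θ hθ ev hevA c e₁ e₂ ⟨⟨y, b⟩, hb⟩)
    (fun z φ => QQ_iff ω p θ hθ ev hev hevA c e₁ e₂ ⟨⟨y, b⟩, hb⟩ z φ) h3
  refine ⟨b, hb, y₂, k, (lv ω p).map k ≫ α₁, h2, hk, hkr, hk2, ?_⟩
  have h4 : str (cutF ω p θ hθ ev hevA c e₁ e₂) (y := y₂) ((lv ω p).map k ≫ α₁) =
      bmap (Lv ω p) k ≫ str (lv ω p) α₁ := str_map (lv ω p) k α₁
  rw [h4, str_lv α₁ α h1.symm]
  rfl

variable (q : (AE E)[X]) (d₁ : A₁[X])

/-- Finiteness of the cut over objects with an arrow to the atlas. -/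
theorem isFinite_cut (h𝒳 : FibCat.IsFibGrpd 𝒳.p) (h𝒱 : FibCat.IsFibGrpd 𝒱.p) (ch : Ch p) {ζ : (fibCat π (etaOf E)).obj}
    (hζ : IsAffine (sch (fibCat π (etaOf E)) ζ)) (cs : (OQ 𝒱).obj.GlobSect)
    (hcs : vO cs (ch.y ζ hζ) ∈ K563.NormFun.N (str p (ch.α ζ hζ)) (cpl ch ζ hζ)) (hc : ∀ v, ev v c = vO cs v)
    (hq : q.eval₂ (algebraMap (AE E) B) c = 0) (he : q.map (algebraMap (AE E) A₁) ∣ e₁ ^ 2 - e₁)
    (hd : q.map (algebraMap (AE E) A₁) ∣ e₁ - X * d₁) (he₂ : IsIdempotentElem e₂)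
    {ξ : (fibCat π (etaOf E₁)).obj} (hξ : IsAffine (sch (fibCat π (etaOf E₁)) ξ)) (b₀ : (fibMap π ω).obj ξ ⟶ ζ)
    {y : 𝒱.obj} {α : p.obj y ⟶ (fibMap π ω).obj ξ} (hα : IsTerm p α) {b : (pv p).obj y ⟶ etaOf E₁}
    (hb : LvP ω p ⟨y, b⟩) (hbe : b = π.map α.hom ≫ FObj.arr ξ) {V₂ : Scheme.{u}} (k : V₂ ⟶ sch 𝒱 y) [IsOpenImmersion k]
    (hk : Set.range k = ((sch 𝒱 y).basicOpen (fnn ω p θ hθ ev hevA c e₁ e₂ ⟨⟨y, b⟩, hb⟩) : Set ↥(sch 𝒱 y))) :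
    IsFinite (k ≫ str p α) := by
  let x₁ : Γ(sch 𝒱 y, ⊤) := e₁.eval₂ (tau p θ (⟨y, b⟩ : (fibCat (pv p) (etaOf E₁)).obj)) (ev y c)
  let x₂ : Γ(sch 𝒱 y, ⊤) := RR ω p θ hθ ev hevA ⟨⟨y, b⟩, hb⟩ e₂
  have hk' : Set.range k = ((sch 𝒱 y).basicOpen x₁ : Set ↥(sch 𝒱 y)) ∩ ((sch 𝒱 y).basicOpen x₂ : Set ↥(sch 𝒱 y)) := by
    rw [hk]
    have h1 : (sch 𝒱 y).basicOpen (x₁ * x₂) = (sch 𝒱 y).basicOpen x₁ ⊓ (sch 𝒱 y).basicOpen x₂ := Scheme.basicOpen_mul _ _ _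
    exact congrArg (fun O : (sch 𝒱 y).Opens => (O : Set ↥(sch 𝒱 y))) h1
  let V₁ : (sch 𝒱 y).Opens := (sch 𝒱 y).basicOpen x₁
  have h1 : IsFinite (V₁.ι ≫ str p α) := by
    refine isFinite_part (isFibGrpd_fibCat h𝒳) h𝒱 ch hζ cs hcs (fn π E) q ?_ (algebraMap (AE E) A₁) e₁ d₁ he hd
      (θ := (fibMap π ω).obj ξ) b₀ hξ ((str π (FObj.arr ξ)).appTop.hom.comp θ.toRingHom) ?_ hα V₁.ι ?_
    · intro v
      have h2 := congrArg (ev v) hq
      rw [hom_eval₂, map_zero, hc] at h2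
      refine Eq.trans ?_ h2
      congr 1
      ext x
      exact (hevA v x).symm
    · ext x
      change (str π (FObj.arr ξ)).appTop (θ (algebraMap (AE E) A₁ x)) = (fn π E).σ ((fibMap π ω).obj ξ) x
      rw [fn_fibMap, hθ]
      rfl
    · rw [Scheme.Opens.range_ι]
      refine congrArg (fun z => ((sch 𝒱 y).basicOpen z : Set ↥(sch 𝒱 y))) ?_
      have h3 : (str p α).appTop.hom.comp ((str π (FObj.arr ξ)).appTop.hom.comp θ.toRingHom) =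
          tau p θ (⟨y, b⟩ : (fibCat (pv p) (etaOf E₁)).obj) := by
        ext x
        change (str p α).appTop ((str π (FObj.arr ξ)).appTop (θ x)) = (str (pv p) b).appTop (θ x)
        have h7 : str (pv p) b = str p α ≫ str π (y := FObj.pt ξ) (FObj.arr ξ) := by
          subst hbe
          rw [str_pv, str_eq p α, Category.assoc]
          exact congrArg (fun t => (eqSch p y).hom ≫ t) (str_map π α.hom (FObj.arr ξ))
        exact (appTop_comp _ _ _).symm.trans (congrArg (fun t => (Scheme.Hom.appTop t) (θ x)) h7.symm)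
      rw [h3, ← hc]
  have hr : Set.range k ⊆ Set.range V₁.ι := by
    rw [Scheme.Opens.range_ι, hk']
    exact Set.inter_subset_left
  let l : V₂ ⟶ (V₁ : Scheme.{u}) := IsOpenImmersion.lift V₁.ι k hr
  have hl : l ≫ V₁.ι = k := IsOpenImmersion.lift_fac _ _ _
  haveI : IsOpenImmersion l := by
    have : IsOpenImmersion (l ≫ V₁.ι) := by
      rw [hl]
      infer_instance
    exact IsOpenImmersion.of_comp l V₁.ι
  have hlr : Set.range l = V₁.ι ⁻¹' ((sch 𝒱 y).basicOpen x₂ : Set ↥(sch 𝒱 y)) := by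
    ext t
    constructor
    · rintro ⟨s, rfl⟩
      have h4 : V₁.ι (l s) = k s := congrArg (fun m : V₂ ⟶ sch 𝒱 y => m s) hl
      have h5 : k s ∈ Set.range k := ⟨s, rfl⟩
      rw [hk'] at h5
      rw [Set.mem_preimage, h4]
      exact h5.2
    · intro ht
      have h5 : V₁.ι t ∈ Set.range k := by
        rw [hk']
        exact ⟨t.2, ht⟩
      obtain ⟨s, hs⟩ := h5
      refine ⟨s, V₁.ι.isOpenEmbedding.injective ?_⟩
      rw [← hs]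
      exact congrArg (fun m : V₂ ⟶ sch 𝒱 y => m s) hl
  haveI : IsClosedImmersion l := isClosedImmersion_of_open l (by
    rw [hlr]
    refine IsClosed.preimage V₁.ι.continuous (isClosed_basicOpen ?_)
    have h6 : x₂ * x₂ = x₂ := he₂.map (RR ω p θ hθ ev hevA ⟨⟨y, b⟩, hb⟩)
    rw [pow_two, h6, sub_self])
  rw [← hl, Category.assoc]
  infer_instance

include hev in
/-- The cut is finite étale. -/
theorem isRep_cut (h𝒳 : FibCat.IsFibGrpd 𝒳.p) (h𝒱 : FibCat.IsFibGrpd 𝒱.p) (P : Pres (fibCat π (etaOf E)))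
    (hrep : IsRep (@Etale ⊓ (@IsSeparated ⊓ @QuasiCompact)) p) (ch : Ch p) (cs : (OQ 𝒱).obj.GlobSect)
    (hcs : vO cs (ch.y P.ζ P.affζ) ∈ K563.NormFun.N (str p (ch.α P.ζ P.affζ)) (cpl ch P.ζ P.affζ))
    (hc : ∀ v, ev v c = vO cs v) (hq : q.eval₂ (algebraMap (AE E) B) c = 0)
    (he : q.map (algebraMap (AE E) A₁) ∣ e₁ ^ 2 - e₁)
    (hd : q.map (algebraMap (AE E) A₁) ∣ e₁ - X * d₁) (he₂ : IsIdempotentElem e₂) :
    IsRep (@IsFinite ⊓ @Etale) (cutF ω p θ hθ ev hevA c e₁ e₂) := by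
  have fin : ∀ (ξ : (fibCat π (etaOf E₁)).obj) (hξ : IsAffine (sch (fibCat π (etaOf E₁)) ξ))
      (b₀ : (fibMap π ω).obj ξ ⟶ P.ζ), ∃ (y₂ : (fullSub (Lv ω p) (QQ ω p θ hθ ev hevA c e₁ e₂)).obj)
        (α₂ : (lv ω p).obj y₂.obj ⟶ ξ), IsTerm (cutF ω p θ hθ ev hevA c e₁ e₂) (w := y₂) α₂ ∧
        IsFinite (str (cutF ω p θ hθ ev hevA c e₁ e₂) (y := y₂) α₂) := by
    intro ξ hξ b₀
    obtain ⟨y, α, hα, hαe⟩ := hrep ((fibMap π ω).obj ξ) hξ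
    obtain ⟨b, hb, y₂, k, α₂, h1, h2, h3, h4, h5⟩ := exists_part ω p θ hθ ev hev hevA c e₁ e₂ h𝒱 hα
    refine ⟨y₂, α₂, h4, ?_⟩
    rw [h5]
    haveI := h2
    exact isFinite_cut ω p θ hθ ev hevA c e₁ e₂ q d₁ h𝒳 h𝒱 ch P.affζ cs hcs hc hq he hd he₂ hξ b₀ hα hb h1
      (bmap 𝒱 (FObj.Hom.hom k.hom)) h3
  intro ξ hξ
  obtain ⟨y, α, hα, hαe⟩ := hrep ((fibMap π ω).obj ξ) hξ
  obtain ⟨b, hb, y₂, k, α₂, h1, h2, h3, h4, h5⟩ := exists_part ω p θ hθ ev hev hevA c e₁ e₂ h𝒱 hα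
  refine ⟨y₂, α₂, h4, ?_, ?_⟩
  · obtain ⟨z, φ, d, hz, hφ1, hφ2⟩ := P.cov ((fibMap π ω).obj ξ) hξ
    let ξ' : (fibCat π (etaOf E₁)).obj := ⟨FObj.pt z, π.map φ.hom ≫ FObj.arr ξ⟩
    let ψ : ξ' ⟶ ξ := FObj.mkHom φ.hom rfl
    let b₀ : (fibMap π ω).obj ξ' ⟶ P.ζ := FObj.mkHom d.hom (by
      change π.map d.hom ≫ FObj.arr P.ζ = (π.map φ.hom ≫ FObj.arr ξ) ≫ ω
      rw [d.comm, ← φ.comm, Category.assoc]
      rfl)
    obtain ⟨y₃, α₃, h7, h8⟩ := fin ξ' hz b₀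
    obtain ⟨χ, hχ⟩ := K862.Rep.exists_hom (p := cutF ω p θ hθ ev hevA c e₁ e₂) (y' := y₃) (y := y₂) ψ (α' := α₃) h4
    have sq := isPullback_of_isTerm (isFibGrpd_fibCat h𝒳) (isFibGrpd_cut ω p θ hθ ev hev hevA c e₁ e₂ h𝒱) h7 h4 hχ
    haveI := Groth.Agent.Desc.MorDescent.descendsAlong_isFinite.{u}
    have hφ1' : Smooth (bmap 𝒳 φ.hom) := hφ1
    have hφ2' : Surjective (bmap 𝒳 φ.hom) := hφ2
    haveI : IsAffine (sch 𝒳 (FObj.pt z)) := hz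
    haveI : IsAffine (sch 𝒳 (FObj.pt ξ)) := hξ
    haveI hqc : QuasiCompact (bmap 𝒳 φ.hom) :=
      (inferInstance : QuasiCompact (show sch 𝒳 (FObj.pt z) ⟶ sch 𝒳 (FObj.pt ξ) from bmap 𝒳 φ.hom))
    have hq : (@Surjective ⊓ @Flat ⊓ @QuasiCompact : MorphismProperty Scheme.{u}) (bmap (fibCat π (etaOf E₁)) ψ) :=
      ⟨⟨hφ2', (inferInstance : Flat (bmap 𝒳 φ.hom))⟩, hqc⟩
    exact MorphismProperty.of_isPullback_of_descendsAlong (P := @IsFinite)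
      (Q := (@Surjective ⊓ @Flat ⊓ @QuasiCompact : MorphismProperty Scheme.{u})) sq.flip hq h8
  · rw [h5]
    haveI := h2
    haveI := hαe.1
    infer_instance

end Fn

end K864.Cut
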