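import Groth.Agent.StMod.K864.Univ

/-!
# Families over an étale object

`π : 𝒳 ⥤ᵇ ofSp M` with `Loc π` and `UnitIsIso π`, `m` an object of `ofSp M` étale over `M`.

* `CFam π m` : compatible families of closed subsets of the schemes `sch ξ`, `α : π ξ ⟶ m`;
* `exists_sepFn`, `exists_nbhd` for such families;
* `exists_open_of_not_hit` : the image of a closed family in `m` is closed;
* `exists_hom` : a compatible family of morphisms `sch ξ ⟶ T`, `T` any scheme, comes from a morphism `m.base.left ⟶ T`.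
-/

set_option autoImplicit false
set_option linter.unusedVariables false
set_option linter.style.haveILetI false
set_option backward.isDefEq.respectTransparency false
set_option backward.isDefEq.respectTransparency.types false

universe w v u

open CategoryTheory CategoryTheory.Limits AlgebraicGeometry Opposite StMod AlgSt AlgSp TopologicalSpace

namespace K864.Fam

open K906 K907.Free K907.Atl K907.Pt K907.Van K907.Closed K907.GM K864.Sep K864.Zm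

variable {S : Scheme.{u}} {𝒳 : BasedCategory.{v, w} (Over S)} {M : Sp S}

/-- A compatible family of closed sets over `m`. -/
structure CFam (π : 𝒳 ⥤ᵇ ofSp M) (m : (ofSp M).obj) where
  /-- the sets -/
  s : ∀ (ξ : 𝒳.obj) (α : π.obj ξ ⟶ m), Set ↥(sch 𝒳 ξ)
  map : ∀ {ξ' ξ : 𝒳.obj} (φ : ξ' ⟶ ξ) (α : π.obj ξ ⟶ m) (t : ↥(sch 𝒳 ξ')),
    t ∈ s ξ' (π.map φ ≫ α) ↔ bmap 𝒳 φ t ∈ s ξ α
  cl : ∀ (ξ : 𝒳.obj) (α : π.obj ξ ⟶ m), IsAffine (sch 𝒳 ξ) → IsClosed (s ξ α)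

namespace CFam

variable {π : 𝒳 ⥤ᵇ ofSp M} {m m' : (ofSp M).obj}

/-- Restriction. -/
def res (W : CFam π m) (k : m' ⟶ m) : CFam π m' where
  s ξ α := W.s ξ (α ≫ k)
  map φ α t := by
    rw [Category.assoc]
    exact W.map φ (α ≫ k) t
  cl ξ α h := W.cl ξ _ h

/-- Intersection. -/
def inter {ι : Type*} (W : ι → CFam π m) : CFam π m where
  s ξ α := ⋂ i, (W i).s ξ α
  map φ α t := by
    rw [Set.mem_iInter, Set.mem_iInter]
    exact forall_congr' fun i => (W i).map φ α t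
  cl ξ α h := isClosed_iInter fun i => (W i).cl ξ α h

/-- The preimage of a closed subset of `m`. -/
def ofBase (π : 𝒳 ⥤ᵇ ofSp M) (m : (ofSp M).obj) {C : Set ↥m.base.left} (hC : IsClosed C) : CFam π m where
  s ξ α := (baseOver π ξ α).left ⁻¹' C
  map {ξ' ξ} φ α t := by
    have h := bmap_comp_baseOver_left (π := π) φ α
    have h' := congrArg (fun k : (𝒳.p.obj ξ').left ⟶ m.base.left => k t) h
    rw [Set.mem_preimage, Set.mem_preimage]
    change _ ↔ (bmap 𝒳 φ ≫ (baseOver π ξ α).left) t ∈ C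
    rw [show (bmap 𝒳 φ ≫ (baseOver π ξ α).left) t = (baseOver π ξ' (π.map φ ≫ α)).left t from h']
  cl ξ α h := hC.preimage (baseOver π ξ α).left.continuous

/-- The family given by a closed set of points of `𝒳`. -/
def ofPts (h𝒳 : FibCat.IsFibGrpd 𝒳.p) (π : 𝒳 ⥤ᵇ ofSp M) (m : (ofSp M).obj) {W : Set (Points 𝒳)} (hW : IsCl h𝒳 W) :
    CFam π m where
  s ξ α := {t | pt h𝒳 ξ t ∈ W}
  map {ξ' ξ} φ α t := by
    change pt h𝒳 ξ' t ∈ W ↔ pt h𝒳 ξ (bmap 𝒳 φ t) ∈ W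
    rw [pt_map]
  cl ξ α h := hW ξ h

/-- The set of points of the fibre category. -/
def toSet (h𝒳 : FibCat.IsFibGrpd 𝒳.p) (W : CFam π m) : Set (Points (fibCat π m)) :=
  {x | ∃ (a : FObj π m) (t : ↥(sch 𝒳 a.pt)), pt (𝒳 := fibCat π m) (isFibGrpd_fibCat h𝒳) a t = x ∧ t ∈ W.s a.pt a.arr}

theorem mem_toSet (h𝒳 : FibCat.IsFibGrpd 𝒳.p) (W : CFam π m) (a : FObj π m) (t : ↥(sch 𝒳 a.pt)) :
    pt (𝒳 := fibCat π m) (isFibGrpd_fibCat h𝒳) a t ∈ W.toSet h𝒳 ↔ t ∈ W.s a.pt a.arr := by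
  have h𝒴 : FibCat.IsFibGrpd (fibCat π m).p := isFibGrpd_fibCat h𝒳
  constructor
  · rintro ⟨a', t', h, ht'⟩
    obtain ⟨r, c, c', -⟩ := (K735.Pts.mk_eq_mk_iff h𝒴).1 h
    have key : ∀ {η : FObj π m} {s : ↥(sch 𝒳 η.pt)} (c : (r.obj : FObj π m) ⟶ (fpt h𝒴 η s).obj),
        s ∈ W.s η.pt η.arr ↔ ptt (𝒳 := fibCat π m) r ∈ W.s (FObj.pt r.obj) (FObj.arr r.obj) := by
      intro η s c
      have h1 : bmap (fibCat π m) (c ≫ fptArr h𝒴 η s) (ptt r) = s := by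
        rw [bmap_comp]
        change bmap (fibCat π m) (fptArr h𝒴 η s) (bmap (fibCat π m) c (ptt r)) = s
        rw [eq_ptt (fpt h𝒴 η s) (bmap (fibCat π m) c (ptt r)), bmap_fptArr_ptt]
      let ψ : (r.obj : FObj π m) ⟶ η := c ≫ fptArr h𝒴 η s
      have h2 := W.map ψ.hom η.arr (ptt (𝒳 := fibCat π m) r)
      rw [show π.map ψ.hom ≫ η.arr = FObj.arr r.obj from ψ.comm] at h2
      rw [h2]
      change _ ↔ bmap (fibCat π m) (c ≫ fptArr h𝒴 η s) (ptt r) ∈ _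
      rw [h1]
    exact (key c').2 ((key c).1 ht')
  · intro h
    exact ⟨a, t, rfl, h⟩

end CFam

variable (h𝒳 : FibCat.IsFibGrpd 𝒳.p) {π : 𝒳 ⥤ᵇ ofSp M} (hL : Loc π) (hu : UnitIsIso π)

include h𝒳 hL hu in
/-- Disjoint closed families over `E` are separated by a function of `E`. -/
theorem exists_sepFn (E : EtOver M) (hE : IsAffine E.obj.left.left) (W₁ W₂ : CFam π (etaOf E))
    (hd : ∀ (ξ : 𝒳.obj) (α : π.obj ξ ⟶ etaOf E) (t : ↥(sch 𝒳 ξ)), IsAffine (sch 𝒳 ξ) →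
      t ∈ W₁.s ξ α → t ∉ W₂.s ξ α) :
    ∃ f : Γ(sch (ofSp M) (etaOf E), ⊤), ∀ (ξ : 𝒳.obj) (α : π.obj ξ ⟶ etaOf E) (t : ↥(sch 𝒳 ξ)), IsAffine (sch 𝒳 ξ) →
      (t ∈ W₁.s ξ α → f ∈ (sp ((baseOver π ξ α).left t)).asIdeal) ∧
      (t ∈ W₂.s ξ α → 1 - f ∈ (sp ((baseOver π ξ α).left t)).asIdeal) := by
  obtain ⟨hex, ⟨P⟩⟩ := hL E hE
  have h𝒴 : FibCat.IsFibGrpd (fibCat π (etaOf E)).p := isFibGrpd_fibCat h𝒳
  have hcl : ∀ W : CFam π (etaOf E), IsCl h𝒴 (W.toSet h𝒳) := by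
    intro W a ha
    have : prei h𝒴 (W.toSet h𝒳) a = W.s (FObj.pt a) (FObj.arr a) := by
      ext t
      exact W.mem_toSet h𝒳 a t
    rw [this]
    exact W.cl _ _ ha
  obtain ⟨Q, q, e, hq, he⟩ := exists_sep h𝒴 (smCov_of_pres.{0} P) (hcl W₁) (hcl W₂) (by
    rw [Set.disjoint_left]
    intro x hx₁ hx₂
    obtain ⟨p, rfl⟩ := Points.mk_surjective x
    have ha : IsAffine (sch 𝒳 (FObj.pt p.obj)) := by
      have e1 : (fibCat π (etaOf E)).p.obj p.obj = Over.mk p.str := p.lies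
      have e2 : (𝒳.p.obj (FObj.pt p.obj)) = Over.mk p.str := e1
      change IsAffine (𝒳.p.obj (FObj.pt p.obj)).left
      rw [e2]
      change IsAffine (Spec (CommRingCat.of p.K))
      infer_instance
    rw [K907.Disj.mk_eq_pt_self h𝒴 p (ptt p)] at hx₁ hx₂
    exact hd _ (FObj.arr p.obj) _ ha ((W₁.mem_toSet h𝒳 p.obj _).1 hx₁) ((W₂.mem_toSet h𝒳 p.obj _).1 hx₂))
  obtain ⟨s, hs⟩ := hex q hq e
  obtain ⟨f, hf⟩ := (isFn π E hu).2 s
  refine ⟨f, fun ξ α t hξ => ?_⟩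
  let a : FObj π (etaOf E) := ⟨ξ, α⟩
  have hk : (q.hom.app a).app ⊤ ((baseOver π ξ α).left.appTop f) = e.1 a := by
    rw [← hs, Mod.globSectMap_val, ← hf]
    rfl
  have := he a hξ _ hk
  constructor
  · intro ht
    have h3 := this.1 t ((W₁.mem_toSet h𝒳 a t).2 ht)
    exact (mem_sp_comp _ _ _).2 h3
  · intro ht
    have h3 := this.2 t ((W₂.mem_toSet h𝒳 a t).2 ht)
    refine (mem_sp_comp _ _ _).2 ?_
    rw [map_sub, map_one]
    exact h3

include h𝒳 hL hu in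
/-- Finitely many closed families without common point over `m`: near every point of `m` one of them is empty. -/
theorem exists_nbhd (n : ℕ) : ∀ (m : (ofSp M).obj) (W : Fin n → CFam π m), SpGeo.IsEt m → IsAffine m.base.left →
    ∀ (y : ↥m.base.left),
    (∀ (ξ : 𝒳.obj) (α : π.obj ξ ⟶ m) (t : ↥(sch 𝒳 ξ)), IsAffine (sch 𝒳 ξ) → ∃ i, t ∉ (W i).s ξ α) →
    ∃ (m' : (ofSp M).obj) (k : m' ⟶ m) (i : Fin n), IsOpenImmersion k.hom.left ∧ IsAffine m'.base.left ∧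
      y ∈ Set.range k.hom.left ∧ ∀ (ξ : 𝒳.obj) (α : π.obj ξ ⟶ m') (t : ↥(sch 𝒳 ξ)), IsAffine (sch 𝒳 ξ) →
        t ∉ (W i).s ξ (α ≫ k) := by
  induction n with
  | zero =>
    intro m W hm ha y hno
    exact (false_of_empty h𝒳 hu hm y fun ξ α t hξ => by
      obtain ⟨i, -⟩ := hno ξ α t hξ
      exact i.elim0).elim
  | succ n ih =>
    intro m W hm ha y hno
    obtain ⟨E, hE⟩ := SpGeo.exists_etaOf hm
    subst hE
    have hE' : IsAffine E.obj.left.left := ha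
    obtain ⟨f, hf⟩ := exists_sepFn h𝒳 hL hu E hE' (W 0) (CFam.inter fun i : Fin n => W i.succ)
      (fun ξ α t hξ h0 h1 => by
      obtain ⟨i, hi⟩ := hno ξ α t hξ
      refine Fin.cases (fun hi => hi h0) (fun j hi => hi (Set.mem_iInter.1 h1 j)) i hi)
    let f' : Γ((etaOf E).base.left, ⊤) := f
    by_cases hy : f' ∈ (sp y).asIdeal
    · -- `1 - f` is invertible at `y`
      have hy' : 1 - f' ∉ (sp y).asIdeal := by
        intro h1
        have := Ideal.add_mem _ hy h1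
        rw [add_sub_cancel] at this
        exact (sp y).isPrime.ne_top ((Ideal.eq_top_iff_one _).2 this)
      rw [mem_sp, not_not] at hy'
      let U : (etaOf E).base.left.Opens := (etaOf E).base.left.basicOpen (1 - f')
      have hUa : IsAffine (mo (etaOf E) U).base.left :=
        haveI : IsAffine (etaOf E).base.left := ha
        (isAffineOpen_top (etaOf E).base.left).basicOpen (1 - f')
      obtain ⟨m', k, i, h1, h2, ⟨z, hz⟩, h4⟩ := ih (mo (etaOf E) U) (fun i => (W i.succ).res (moι _ U))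
        (isEt_mo U hm) hUa ⟨y, hy'⟩ (fun ξ α t hξ => by
          by_contra hcon
          push Not at hcon
          have h5 := (hf ξ (α ≫ moι _ U) t hξ).2 (Set.mem_iInter.2 hcon)
          refine (mem_sp (X := (etaOf E).base.left) (1 - f') _).1 h5 ?_
          rw [baseOver_comp]
          exact ((baseOver π ξ α).left t).2)
      refine ⟨m', k ≫ moι _ U, i.succ, ?_, h2, ⟨z, ?_⟩, fun ξ α t hξ => ?_⟩
      · change IsOpenImmersion (k.hom.left ≫ (moι _ U).hom.left)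
        infer_instance
      · change (moι (etaOf E) U).hom.left (k.hom.left z) = y
        rw [hz]
        rfl
      · have h5 := h4 ξ α t hξ
        change t ∉ (W i.succ).s ξ ((α ≫ k) ≫ moι _ U) at h5
        rwa [Category.assoc] at h5
    · rw [mem_sp, not_not] at hy
      let U : (etaOf E).base.left.Opens := (etaOf E).base.left.basicOpen f'
      have hUa : IsAffine (mo (etaOf E) U).base.left :=
        haveI : IsAffine (etaOf E).base.left := ha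
        (isAffineOpen_top (etaOf E).base.left).basicOpen f'
      refine ⟨mo (etaOf E) U, moι _ U, 0, inferInstance, hUa, ?_, fun ξ α t hξ hcon => ?_⟩
      · rw [range_moι]
        exact hy
      · have h5 := (hf ξ (α ≫ moι _ U) t hξ).1 hcon
        refine (mem_sp f' _).1 h5 ?_
        rw [baseOver_comp]
        exact ((baseOver π ξ α).left t).2

/-- Arrows to `m` with image in `U` lift to the restriction `mo m U`. -/
theorem exists_lift_mo {a m : (ofSp M).obj} (U : m.base.left.Opens) (α : a ⟶ m) (h : Set.range α.hom.left ⊆ U) :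
    ∃ α' : a ⟶ mo m U, α' ≫ moι m U = α := by
  have hr : Set.range α.hom.left ⊆ Set.range U.ι := by
    rw [Scheme.Opens.range_ι]
    exact h
  let l : a.base.left ⟶ (U : Scheme.{u}) := IsOpenImmersion.lift U.ι α.hom.left hr
  have hl : l ≫ U.ι = α.hom.left := IsOpenImmersion.lift_fac _ _ _
  let l' : a.base ⟶ (mo m U).base := Over.homMk l (by
    change l ≫ U.ι ≫ m.base.hom = _
    rw [← Category.assoc, hl]
    exact Over.w α.hom)
  have hl' : l' ≫ (moι m U).hom = α.hom := Over.OverMorphism.ext hl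
  refine ⟨⟨l', ?_⟩, Stk.EltObj.hom_ext hl'⟩
  have h1 : M.obj.map (moι m U).hom.op m.sec = (mo m U).sec := (moι m U).map_sec
  rw [← h1, ← α.map_sec, ← hl', op_comp, Functor.map_comp]
  rfl

include h𝒳 in
/-- Points of a family read on the spectra of the residue fields. -/
theorem mem_iff_fpt {m : (ofSp M).obj} (W : CFam π m) (ξ : 𝒳.obj) (α : π.obj ξ ⟶ m) (t : ↥(sch 𝒳 ξ)) :
    t ∈ W.s ξ α ↔ ptt (fpt h𝒳 ξ t) ∈ W.s (fpt h𝒳 ξ t).obj (π.map (fptArr h𝒳 ξ t) ≫ α) := by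
  rw [W.map, bmap_fptArr_ptt]

theorem isAffine_fpt (h𝒳 : FibCat.IsFibGrpd 𝒳.p) (ξ : 𝒳.obj) (t : ↥(sch 𝒳 ξ)) :
    IsAffine (sch 𝒳 (fpt h𝒳 ξ t).obj) := by
  change IsAffine (𝒳.p.obj (fpt h𝒳 ξ t).obj).left
  rw [(fpt h𝒳 ξ t).lies]
  change IsAffine (Spec (CommRingCat.of (fpt h𝒳 ξ t).K))
  infer_instance

theorem baseOver_fpt (h𝒳 : FibCat.IsFibGrpd 𝒳.p) {m : (ofSp M).obj} (ξ : 𝒳.obj) (α : π.obj ξ ⟶ m) (t : ↥(sch 𝒳 ξ)) :
    (baseOver π (fpt h𝒳 ξ t).obj (π.map (fptArr h𝒳 ξ t) ≫ α)).left (ptt (fpt h𝒳 ξ t)) = (baseOver π ξ α).left t := by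
  have h := congrArg (fun k : (𝒳.p.obj (fpt h𝒳 ξ t).obj).left ⟶ m.base.left => k (ptt (fpt h𝒳 ξ t)))
    (bmap_comp_baseOver_left (π := π) (fptArr h𝒳 ξ t) α)
  refine Eq.trans h.symm ?_
  change (baseOver π ξ α).left (bmap 𝒳 (fptArr h𝒳 ξ t) (ptt (fpt h𝒳 ξ t))) = _
  rw [bmap_fptArr_ptt]

theorem range_hom_subset {m : (ofSp M).obj} {ξ : 𝒳.obj} (α : π.obj ξ ⟶ m) {U : m.base.left.Opens}
    (h : ∀ t : ↥(sch 𝒳 ξ), (baseOver π ξ α).left t ∈ U) : Set.range α.hom.left ⊆ U := by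
  rintro _ ⟨t, rfl⟩
  have e : 𝒳.p.obj ξ = (π.obj ξ).base := (π.w_obj ξ).symm
  have I : IsIso (eqToHom (π.w_obj ξ).symm : 𝒳.p.obj ξ ⟶ (π.obj ξ).base).left := inferInstance
  obtain ⟨t', ht'⟩ := (Scheme.homeoOfIso (asIso (eqToHom (π.w_obj ξ).symm :
    𝒳.p.obj ξ ⟶ (π.obj ξ).base).left)).surjective t
  have := h t'
  have e2 : (baseOver π ξ α).left t' = α.hom.left ((eqToHom (π.w_obj ξ).symm :
    𝒳.p.obj ξ ⟶ (π.obj ξ).base).left t') := rfl
  rw [e2] at this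
  rw [show (eqToHom (π.w_obj ξ).symm : 𝒳.p.obj ξ ⟶ (π.obj ξ).base).left t' = t from ht'] at this
  exact this

include h𝒳 hL hu in
/-- The image of a closed family in an affine étale object is closed. -/
theorem exists_open_of_not_hit_aux (E : EtOver M) (ha : IsAffine (etaOf E).base.left)
    (W : CFam π (etaOf E)) (y : ↥(etaOf E).base.left)
    (hno : ∀ (ξ : 𝒳.obj) (α : π.obj ξ ⟶ etaOf E) (t : ↥(sch 𝒳 ξ)), IsAffine (sch 𝒳 ξ) →
      (baseOver π ξ α).left t = y → t ∉ W.s ξ α) :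
    ∃ U : (etaOf E).base.left.Opens, y ∈ U ∧ ∀ (ξ : 𝒳.obj) (α : π.obj ξ ⟶ etaOf E) (t : ↥(sch 𝒳 ξ)),
      IsAffine (sch 𝒳 ξ) → (∀ t, (baseOver π ξ α).left t ∈ U) → t ∉ W.s ξ α := by
  have hm : SpGeo.IsEt (etaOf E) := SpGeo.isEt_etaOf E
  obtain ⟨-, ⟨P⟩⟩ := hL E ha
  haveI hζa : IsAffine (sch 𝒳 (FObj.pt P.ζ)) := P.affζ
  let b : sch 𝒳 (FObj.pt P.ζ) ⟶ (etaOf E).base.left := (baseOver π (FObj.pt P.ζ) (FObj.arr P.ζ)).left
  let φ : Γ((etaOf E).base.left, ⊤) →+* Γ(sch 𝒳 (FObj.pt P.ζ), ⊤) := b.appTop.hom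
  let p : Ideal Γ((etaOf E).base.left, ⊤) := (sp y).asIdeal
  let C : Set ↥(sch 𝒳 (FObj.pt P.ζ)) := W.s (FObj.pt P.ζ) (FObj.arr P.ζ)
  have hC : IsClosed C := W.cl _ _ hζa
  let J' : Ideal Γ(sch 𝒳 (FObj.pt P.ζ), ⊤) := van C ⊔ p.map φ
  have hs : ∃ s : Γ((etaOf E).base.left, ⊤), s ∉ p ∧ φ s ∈ J' := by
    by_contra hcon
    push Not at hcon
    have hp : p.IsPrime := (sp y).isPrime
    let N : Submonoid Γ(sch 𝒳 (FObj.pt P.ζ), ⊤) := p.primeCompl.map φ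
    have hd : Disjoint (J' : Set Γ(sch 𝒳 (FObj.pt P.ζ), ⊤)) (N : Set Γ(sch 𝒳 (FObj.pt P.ζ), ⊤)) := by
      rw [Set.disjoint_left]
      rintro _ hx ⟨s, hs, rfl⟩
      exact hcon s hs hx
    obtain ⟨q, hq, hle, hd'⟩ := Ideal.exists_le_prime_disjoint J' N hd
    obtain ⟨z, hz⟩ := (sp_bijective (X := sch 𝒳 (FObj.pt P.ζ))).2 ⟨q, hq⟩
    have hz' : (sp z).asIdeal = q := congrArg PrimeSpectrum.asIdeal hz
    have hzC : z ∈ C := mem_of_forall_van hC fun r hr => by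
      rw [hz']
      exact hle (Ideal.mem_sup_left hr)
    refine hno (FObj.pt P.ζ) (FObj.arr P.ζ) z hζa ?_ hzC
    apply (sp_bijective (X := (etaOf E).base.left)).1
    refine PrimeSpectrum.ext (Ideal.ext fun r => ?_)
    change r ∈ (sp (b z)).asIdeal ↔ r ∈ p
    rw [mem_sp_comp b z r, hz']
    constructor
    · intro h
      by_contra hr
      exact Set.disjoint_left.1 hd' h ⟨r, hr, rfl⟩
    · intro h
      exact hle (Ideal.mem_sup_right (Ideal.mem_map_of_mem φ h))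
  obtain ⟨s, hsp, hsJ⟩ := hs
  let D : (etaOf E).base.left.Opens := (etaOf E).base.left.basicOpen s
  have hyD : y ∈ D := by
    by_contra h
    exact hsp ((mem_sp s y).2 h)
  have hDa : IsAffine (mo (etaOf E) D).base.left :=
    haveI : IsAffine (etaOf E).base.left := ha
    (isAffineOpen_top (etaOf E).base.left).basicOpen s
  have hDe := isEt_mo D hm
  let y₁ : ↥(mo (etaOf E) D).base.left := ⟨y, hyD⟩
  obtain ⟨E₁, hE₁⟩ := SpGeo.exists_etaOf hDe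
  have key : ∃ f : Γ((mo (etaOf E) D).base.left, ⊤), ∀ (ξ : 𝒳.obj) (α : π.obj ξ ⟶ mo (etaOf E) D)
      (t : ↥(sch 𝒳 ξ)), IsAffine (sch 𝒳 ξ) →
      (t ∈ (W.res (moι _ D)).s ξ α → f ∈ (sp ((baseOver π ξ α).left t)).asIdeal) ∧
      (t ∈ (CFam.ofBase π (mo (etaOf E) D) (isClosed_closure (s := {y₁}))).s ξ α →
        1 - f ∈ (sp ((baseOver π ξ α).left t)).asIdeal) := by
    have aux : ∀ (m₁ : (ofSp M).obj) (e : etaOf E₁ = m₁) (ha : IsAffine m₁.base.left) (W₁ W₂ : CFam π m₁)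
        (hd : ∀ (ξ : 𝒳.obj) (α : π.obj ξ ⟶ m₁) (t : ↥(sch 𝒳 ξ)), IsAffine (sch 𝒳 ξ) →
          t ∈ W₁.s ξ α → t ∉ W₂.s ξ α),
        ∃ f : Γ(m₁.base.left, ⊤), ∀ (ξ : 𝒳.obj) (α : π.obj ξ ⟶ m₁) (t : ↥(sch 𝒳 ξ)), IsAffine (sch 𝒳 ξ) →
          (t ∈ W₁.s ξ α → f ∈ (sp ((baseOver π ξ α).left t)).asIdeal) ∧
          (t ∈ W₂.s ξ α → 1 - f ∈ (sp ((baseOver π ξ α).left t)).asIdeal) := by
      rintro _ rfl ha W₁ W₂ hd
      exact exists_sepFn h𝒳 hL hu E₁ ha W₁ W₂ hd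
    refine aux _ hE₁ hDa _ _ fun ξ α t hξ h1 h2 => ?_
    -- lift to the chart
    let a : FObj π (etaOf E) := ⟨ξ, α ≫ moι _ D⟩
    obtain ⟨z', f, d, hz', hf1, hf2⟩ := P.cov a hξ
    obtain ⟨t', ht'⟩ := (show Surjective (bmap 𝒳 f.hom) from hf2).surj t
    let z : ↥(sch 𝒳 (FObj.pt P.ζ)) := bmap 𝒳 d.hom t'
    have hzC : z ∈ C := by
      refine (W.map d.hom (FObj.arr P.ζ) t').1 ?_
      rw [show π.map d.hom ≫ FObj.arr P.ζ = z'.arr from d.comm,
        ← show π.map f.hom ≫ a.arr = z'.arr from f.comm]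
      refine (W.map f.hom a.arr t').2 ?_
      change bmap 𝒳 f.hom t' ∈ W.s ξ (α ≫ moι _ D)
      rw [ht']
      exact h1
    have hbz : b z = D.ι ((baseOver π ξ α).left t) := by
      have e1 := congrArg (fun k : (𝒳.p.obj z'.pt).left ⟶ (etaOf E).base.left => k t')
        (bmap_comp_baseOver_left (π := π) d.hom (FObj.arr P.ζ))
      have e2 := congrArg (fun k : (𝒳.p.obj z'.pt).left ⟶ (etaOf E).base.left => k t')
        (bmap_comp_baseOver_left (π := π) f.hom a.arr)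
      have e3 : (baseOver π z'.pt (π.map d.hom ≫ FObj.arr P.ζ)).left t' =
          (baseOver π z'.pt (π.map f.hom ≫ a.arr)).left t' := by
        rw [show π.map d.hom ≫ FObj.arr P.ζ = z'.arr from d.comm,
          ← show π.map f.hom ≫ a.arr = z'.arr from f.comm]
      have e4 : b z = (baseOver π a.pt a.arr).left t := by
        refine (Eq.trans e1 e3).trans (e2.symm.trans ?_)
        change (baseOver π a.pt a.arr).left (bmap 𝒳 f.hom t') = _
        rw [ht']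
      rw [e4]
      have e5 := baseOver_moι π D α
      exact congrArg (fun k : (𝒳.p.obj ξ).left ⟶ (etaOf E).base.left => k t) e5
    have h3 : φ s ∈ (sp z).asIdeal := by
      refine (sup_le (fun r hr => mem_van.1 hr z hzC) (Ideal.map_le_iff_le_comap.2 fun r hr => ?_) :
        J' ≤ (sp z).asIdeal) hsJ
      change φ r ∈ (sp z).asIdeal
      refine (mem_sp_comp b z r).1 ?_
      rw [mem_sp]
      intro hcon
      -- `b z` lies in the closure of `y`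
      have h4 : D.ι ((baseOver π ξ α).left t) ∈ closure {y} := by
        have h5 : (baseOver π ξ α).left t ∈ closure {y₁} := h2
        have h6 := map_mem_closure D.ι.continuous h5 (t := {y}) (by
          rintro _ rfl
          rfl)
        exact h6
      rw [← hbz] at h4
      obtain ⟨x, hx, hx'⟩ := mem_closure_iff.1 h4 _ ((etaOf E).base.left.basicOpen r).isOpen hcon
      rw [Set.mem_singleton_iff] at hx'
      subst hx'
      exact (mem_sp r x).1 hr hx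
    have h4 := (mem_sp_comp b z s).2 h3
    refine (mem_sp s (b z)).1 h4 ?_
    rw [hbz]
    exact ((baseOver π ξ α).left t).2
  obtain ⟨f, hf⟩ := key
  have hfy : f ∉ (sp y₁).asIdeal := by
    intro hfy
    let C₀ : Set ↥(mo (etaOf E) D).base.left :=
      closure {y₁} ∩ (((mo (etaOf E) D).base.left.basicOpen f : (mo (etaOf E) D).base.left.Opens) :
        Set ↥(mo (etaOf E) D).base.left)ᶜ
    have hC₀ : IsClosed C₀ := isClosed_closure.inter
      ((mo (etaOf E) D).base.left.basicOpen f).isOpen.isClosed_compl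
    refine notMem_of_not_hit h𝒳 hL hu hDe hDa hC₀ (fun ξ α t hξ ht => ?_) y₁
      ⟨subset_closure rfl, (mem_sp f y₁).1 hfy⟩
    have h1 := (hf ξ α t hξ).2 ht.1
    have h2 : f ∈ (sp ((baseOver π ξ α).left t)).asIdeal := (mem_sp f _).2 ht.2
    have := Ideal.add_mem _ h1 h2
    rw [sub_add_cancel] at this
    exact (sp ((baseOver π ξ α).left t)).isPrime.ne_top ((Ideal.eq_top_iff_one _).2 this)
  let U₁ : (mo (etaOf E) D).base.left.Opens := (mo (etaOf E) D).base.left.basicOpen f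
  refine ⟨D.ι ''ᵁ U₁, ⟨y₁, ?_, rfl⟩, fun ξ α t hξ hα ht => ?_⟩
  · by_contra h
    exact hfy ((mem_sp f y₁).2 h)
  · have hD : ∀ t, (baseOver π ξ α).left t ∈ D := by
      intro t
      obtain ⟨x, -, hx⟩ := hα t
      rw [← hx]
      exact x.2
    obtain ⟨α', hα'⟩ := exists_lift_mo D α (range_hom_subset α hD)
    have h1 := (hf ξ α' t hξ).1 (by
      change t ∈ W.s ξ (α' ≫ moι _ D)
      rw [hα']
      exact ht)
    obtain ⟨x, hx, hx'⟩ := hα t
    have e5 := baseOver_moι π D α'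
    rw [hα'] at e5
    have e6 : (baseOver π ξ α).left t = D.ι ((baseOver π ξ α').left t) :=
      congrArg (fun k : (𝒳.p.obj ξ).left ⟶ (etaOf E).base.left => k t) e5
    have e7 : x = (baseOver π ξ α').left t := by
      apply D.ι.isOpenEmbedding.injective
      exact hx'.trans e6
    rw [e7] at hx
    exact (mem_sp f _).1 h1 hx

theorem subsingleton_fpt (p : FPt 𝒳) (s s' : ↥(sch 𝒳 p.obj)) : s = s' := (eq_ptt p s).trans (eq_ptt p s').symm

include h𝒳 hL hu in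
/-- The image of a closed family in an étale object is closed. -/
theorem exists_open_of_not_hit {m : (ofSp M).obj} (hm : SpGeo.IsEt m) (W : CFam π m) (y : ↥m.base.left)
    (hno : ∀ (ξ : 𝒳.obj) (α : π.obj ξ ⟶ m) (t : ↥(sch 𝒳 ξ)), (baseOver π ξ α).left t = y → t ∉ W.s ξ α) :
    ∃ U : m.base.left.Opens, y ∈ U ∧ ∀ (ξ : 𝒳.obj) (α : π.obj ξ ⟶ m) (t : ↥(sch 𝒳 ξ)),
      (baseOver π ξ α).left t ∈ U → t ∉ W.s ξ α := by
  obtain ⟨_, ⟨U₀', hU₀, rfl⟩, hyU, -⟩ := m.base.left.isBasis_affineOpens.exists_subset_of_mem_open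
    (Set.mem_univ y) isOpen_univ
  let U₀ : m.base.left.Opens := U₀'
  have hUa : IsAffine (mo m U₀).base.left := hU₀
  have hbt : ∀ {ξ : 𝒳.obj} (α : π.obj ξ ⟶ mo m U₀) (t : ↥(sch 𝒳 ξ)),
      (baseOver π ξ (α ≫ moι m U₀)).left t = U₀.ι ((baseOver π ξ α).left t) := fun {ξ} α t =>
    congrArg (fun k : (𝒳.p.obj ξ).left ⟶ m.base.left => k t) (baseOver_moι π U₀ α)
  have aux : ∃ U : (mo m U₀).base.left.Opens, (⟨y, hyU⟩ : ↥(mo m U₀).base.left) ∈ U ∧
      ∀ (ξ : 𝒳.obj) (α : π.obj ξ ⟶ mo m U₀) (t : ↥(sch 𝒳 ξ)),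
      IsAffine (sch 𝒳 ξ) → (∀ t, (baseOver π ξ α).left t ∈ U) → t ∉ (W.res (moι m U₀)).s ξ α := by
    obtain ⟨E, hE⟩ := SpGeo.exists_etaOf (isEt_mo U₀ hm)
    have gen : ∀ (m₁ : (ofSp M).obj) (e : etaOf E = m₁) (ha : IsAffine m₁.base.left) (W₁ : CFam π m₁)
        (y₁ : ↥m₁.base.left) (hno : ∀ (ξ : 𝒳.obj) (α : π.obj ξ ⟶ m₁) (t : ↥(sch 𝒳 ξ)), IsAffine (sch 𝒳 ξ) →
        (baseOver π ξ α).left t = y₁ → t ∉ W₁.s ξ α), ∃ U : m₁.base.left.Opens, y₁ ∈ U ∧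
        ∀ (ξ : 𝒳.obj) (α : π.obj ξ ⟶ m₁) (t : ↥(sch 𝒳 ξ)),
        IsAffine (sch 𝒳 ξ) → (∀ t, (baseOver π ξ α).left t ∈ U) → t ∉ W₁.s ξ α := by
      rintro _ rfl ha W₁ y₁ hno
      exact exists_open_of_not_hit_aux h𝒳 hL hu E ha W₁ y₁ hno
    refine gen _ hE hUa _ _ fun ξ α t hξ h => ?_
    refine hno ξ (α ≫ moι m U₀) t ?_
    rw [hbt, h]
    rfl
  obtain ⟨U₁, h1, h2⟩ := aux
  refine ⟨U₀.ι ''ᵁ U₁, ⟨_, h1, rfl⟩, fun ξ α t ht htW => ?_⟩
  rw [mem_iff_fpt h𝒳] at htW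
  have h3 : ∀ s : ↥(sch 𝒳 (fpt h𝒳 ξ t).obj),
      (baseOver π (fpt h𝒳 ξ t).obj (π.map (fptArr h𝒳 ξ t) ≫ α)).left s = (baseOver π ξ α).left t := by
    intro s
    rw [eq_ptt (fpt h𝒳 ξ t) s, baseOver_fpt]
  obtain ⟨z, hz, hz'⟩ := ht
  obtain ⟨α', hα'⟩ := exists_lift_mo U₀ (π.map (fptArr h𝒳 ξ t) ≫ α) (range_hom_subset _ fun s => by
    rw [h3 s, ← hz']
    exact z.2)
  rw [← hα'] at htW
  refine h2 _ α' _ (isAffine_fpt h𝒳 ξ t) (fun s => ?_) htW
  have h4 := hbt α' s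
  rw [hα', h3 s] at h4
  have h5 : z = (baseOver π (fpt h𝒳 ξ t).obj α').left s := by
    apply U₀.ι.isOpenEmbedding.injective
    exact hz'.trans h4
  rw [← h5]
  exact hz

end K864.Fam
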