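import Groth.Agent.StMod.K864.Fam
import Groth.Agent.StMod.K864.SchGlue
import Groth.Agent.StMod.K908.Fib

/-!
# Compatible families of morphisms over an étale object

* `exists_hom` : `m` étale over `M`, `c ξ α : sch ξ ⟶ T` compatible for `α : π ξ ⟶ m`, `T` any scheme; then
  `c ξ α = (baseOver π ξ α).left ≫ g` for a morphism `g : m.base.left ⟶ T`.
-/

set_option autoImplicit false
set_option linter.unusedVariables false
set_option linter.style.haveILetI false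
set_option backward.isDefEq.respectTransparency false
set_option backward.isDefEq.respectTransparency.types false

universe w v u

open CategoryTheory CategoryTheory.Limits AlgebraicGeometry Opposite StMod AlgSt AlgSp TopologicalSpace

namespace K864.Fam

open K906 K907.Free K907.Atl K907.Pt K907.Van K907.Closed K907.GM K864.Sep K864.Zm K864.SchGlue

variable {S : Scheme.{u}} {𝒳 : BasedCategory.{v, w} (Over S)} {M : Sp S}

/-- Arrows to `m` factor through `k : m' ⟶ m` if `k` is an open immersion whose image contains the image. -/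
theorem exists_lift_opn {a m m' : (ofSp M).obj} (k : m' ⟶ m) [IsOpenImmersion k.hom.left] (α : a ⟶ m)
    (h : Set.range α.hom.left ⊆ Set.range k.hom.left) : ∃ α' : a ⟶ m', α' ≫ k = α := by
  let l : a.base.left ⟶ m'.base.left := IsOpenImmersion.lift k.hom.left α.hom.left h
  have hl : l ≫ k.hom.left = α.hom.left := IsOpenImmersion.lift_fac _ _ _
  let l' : a.base ⟶ m'.base := Over.homMk l (by
    rw [← Over.w k.hom, ← Category.assoc, hl]
    exact Over.w α.hom)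
  have hl' : l' ≫ k.hom = α.hom := Over.OverMorphism.ext hl
  refine ⟨⟨l', ?_⟩, Stk.EltObj.hom_ext hl'⟩
  rw [← k.map_sec, ← α.map_sec, ← hl', op_comp, Functor.map_comp]
  rfl

/-- The transition between restrictions. -/
noncomputable def moLE {m : (ofSp M).obj} {U V : m.base.left.Opens} (h : V ≤ U) : mo m V ⟶ mo m U :=
  ⟨Over.homMk (m.base.left.homOfLE h) (by
    change m.base.left.homOfLE h ≫ U.ι ≫ m.base.hom = V.ι ≫ m.base.hom
    rw [Scheme.homOfLE_ι_assoc]), by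
    change M.obj.map _ (M.obj.map _ m.sec) = M.obj.map _ m.sec
    have e : (Over.homMk (m.base.left.homOfLE h) (by
        change m.base.left.homOfLE h ≫ U.ι ≫ m.base.hom = V.ι ≫ m.base.hom
        rw [Scheme.homOfLE_ι_assoc]) : (mo m V).base ⟶ (mo m U).base) ≫ (moι m U).hom = (moι m V).hom := by
      apply Over.OverMorphism.ext
      exact Scheme.homOfLE_ι _ h
    have e' := congrArg (fun k : (mo m V).base ⟶ m.base => M.obj.map k.op m.sec) e
    simp only [op_comp, Functor.map_comp] at e'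
    exact e'⟩

theorem moLE_left {m : (ofSp M).obj} {U V : m.base.left.Opens} (h : V ≤ U) :
    (moLE h : mo m V ⟶ mo m U).hom.left = m.base.left.homOfLE h := rfl

theorem moLE_moι {m : (ofSp M).obj} {U V : m.base.left.Opens} (h : V ≤ U) :
    (moLE h : mo m V ⟶ mo m U) ≫ moι m U = moι m V := by
  apply Stk.EltObj.hom_ext
  apply Over.OverMorphism.ext
  exact Scheme.homOfLE_ι _ h

variable (h𝒳 : FibCat.IsFibGrpd 𝒳.p) {π : 𝒳 ⥤ᵇ ofSp M} (hL : Loc π) (hu : UnitIsIso π)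

include h𝒳 hL hu in
/-- Local existence of the morphism. -/
theorem exists_hom_local {m : (ofSp M).obj} (hm : SpGeo.IsEt m) (ha : IsAffine m.base.left) {T : Scheme.{u}}
    (c : ∀ (ξ : 𝒳.obj) (α : π.obj ξ ⟶ m), sch 𝒳 ξ ⟶ T)
    (hc : ∀ {ξ' ξ : 𝒳.obj} (φ : ξ' ⟶ ξ) (α : π.obj ξ ⟶ m), bmap 𝒳 φ ≫ c ξ α = c ξ' (π.map φ ≫ α))
    (y : ↥m.base.left) :
    ∃ (m' : (ofSp M).obj) (k : m' ⟶ m), IsOpenImmersion k.hom.left ∧ IsAffine m'.base.left ∧
      y ∈ Set.range k.hom.left ∧ ∃ g : m'.base.left ⟶ T, ∀ (ξ : 𝒳.obj) (α : π.obj ξ ⟶ m'),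
        (baseOver π ξ α).left ≫ g = c ξ (α ≫ k) := by
  obtain ⟨E, hE⟩ := SpGeo.exists_etaOf hm
  subst hE
  obtain ⟨-, ⟨P⟩⟩ := hL E ha
  haveI hζa : IsAffine (sch 𝒳 (FObj.pt P.ζ)) := P.affζ
  let φ : sch 𝒳 (FObj.pt P.ζ) ⟶ T := c (FObj.pt P.ζ) (FObj.arr P.ζ)
  have hV : ∀ z : T, ∃ V : T.Opens, IsAffineOpen V ∧ z ∈ V := by
    intro z
    obtain ⟨_, ⟨V₀, hV₀, rfl⟩, hzV, -⟩ := T.isBasis_affineOpens.exists_subset_of_mem_open
      (Set.mem_univ z) isOpen_univ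
    exact ⟨V₀, hV₀, hzV⟩
  choose V hVa hVm using hV
  have hcpt : ∀ {ξ' ξ : 𝒳.obj} (φ : ξ' ⟶ ξ) (α : π.obj ξ ⟶ etaOf E) (t : ↥(sch 𝒳 ξ')),
      c ξ α (bmap 𝒳 φ t) = c ξ' (π.map φ ≫ α) t := by
    intro ξ' ξ φ α t
    exact congrArg (fun k : sch 𝒳 ξ' ⟶ T => k t) (hc φ α)
  let Wf : T.Opens → CFam π (etaOf E) := fun V =>
    { s := fun ξ α => c ξ α ⁻¹' (V : Set T)ᶜ
      map := by
        intro ξ' ξ φ α t
        rw [Set.mem_preimage, Set.mem_preimage, hcpt]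
      cl := fun ξ α _ => V.isOpen.isClosed_compl.preimage (c ξ α).continuous }
  obtain ⟨s, hs⟩ := (isCompact_univ (X := ↥(sch 𝒳 (FObj.pt P.ζ)))).elim_nhds_subcover'
    (fun t _ => (φ ⁻¹ᵁ V (φ t) : (sch 𝒳 (FObj.pt P.ζ)).Opens))
    (fun t _ => (φ ⁻¹ᵁ V (φ t)).isOpen.mem_nhds (hVm (φ t)))
  let e := s.equivFin
  obtain ⟨m', k, i, h1, h2, h3, h4⟩ := exists_nbhd h𝒳 hL hu s.card (etaOf E)
    (fun i => Wf (V (φ (e.symm i).1.1))) hm ha y (fun ξ α t hξ => by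
      let a : FObj π (etaOf E) := ⟨ξ, α⟩
      obtain ⟨z', f, d, hz', hf1, hf2⟩ := P.cov a hξ
      obtain ⟨t', ht'⟩ := (show Surjective (bmap 𝒳 f.hom) from hf2).surj t
      have hmem := hs (Set.mem_univ (bmap 𝒳 d.hom t'))
      simp only [Set.mem_iUnion] at hmem
      obtain ⟨x, hx, hmem⟩ := hmem
      refine ⟨e ⟨x, hx⟩, ?_⟩
      change ¬ (c ξ α t ∉ V (φ (e.symm (e ⟨x, hx⟩)).1.1))
      rw [not_not, Equiv.symm_apply_apply]
      have h5 := hcpt f.hom a.arr t'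
      have h6 := hcpt d.hom (FObj.arr P.ζ) t'
      have e3 : c z'.pt (π.map d.hom ≫ FObj.arr P.ζ) t' = c z'.pt (π.map f.hom ≫ a.arr) t' := by
        rw [show π.map d.hom ≫ FObj.arr P.ζ = z'.arr from d.comm,
          ← show π.map f.hom ≫ a.arr = z'.arr from f.comm]
      have e4 : c a.pt a.arr t = φ (bmap 𝒳 d.hom t') := by
        rw [← ht']
        exact h5.trans (e3.symm.trans h6.symm)
      change c a.pt a.arr t ∈ _
      rw [e4]
      exact hmem)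
  let V' : T.Opens := V (φ (e.symm i).1.1)
  haveI hV' : IsAffine V' := hVa _
  have h5 : ∀ (ξ : 𝒳.obj) (α : π.obj ξ ⟶ m') (t : ↥(sch 𝒳 ξ)), c ξ (α ≫ k) t ∈ V' := by
    intro ξ α t
    have h6 : t ∉ (Wf V').s ξ (α ≫ k) := by
      rw [mem_iff_fpt h𝒳]
      have h7 := h4 (fpt h𝒳 ξ t).obj (π.map (fptArr h𝒳 ξ t) ≫ α) (ptt (fpt h𝒳 ξ t)) (isAffine_fpt h𝒳 ξ t)
      rwa [Category.assoc] at h7
    by_contra h
    exact h6 h
  have hrange : ∀ (ξ : 𝒳.obj) (α : π.obj ξ ⟶ m'), Set.range (c ξ (α ≫ k)) ⊆ Set.range V'.ι := by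
    rintro ξ α _ ⟨t, rfl⟩
    rw [Scheme.Opens.range_ι]
    exact h5 ξ α t
  have hm' : SpGeo.IsEt m' := SpGeo.isEt_of_hom hm k inferInstance
  obtain ⟨g, hg⟩ := exists_hom_affine hu hm' (V := V')
    (fun ξ α => IsOpenImmersion.lift V'.ι (c ξ (α ≫ k)) (hrange ξ α)) (fun {ξ' ξ} φ α => by
      rw [← cancel_mono V'.ι, Category.assoc, IsOpenImmersion.lift_fac, IsOpenImmersion.lift_fac, hc, Category.assoc])
  refine ⟨m', k, h1, h2, h3, g ≫ V'.ι, fun ξ α => ?_⟩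
  rw [← Category.assoc, hg, IsOpenImmersion.lift_fac]

include h𝒳 in
/-- Restriction of an object to the preimage of an open of `m`. -/
theorem exists_restr_mo {m : (ofSp M).obj} (U : m.base.left.Opens) (ξ : 𝒳.obj) (α : π.obj ξ ⟶ m) (t : ↥(sch 𝒳 ξ))
    (ht : (baseOver π ξ α).left t ∈ U) :
    ∃ (ξ' : 𝒳.obj) (φ : ξ' ⟶ ξ) (α' : π.obj ξ' ⟶ mo m U), IsOpenImmersion (bmap 𝒳 φ) ∧ t ∈ Set.range (bmap 𝒳 φ) ∧
      α' ≫ moι m U = π.map φ ≫ α := by
  haveI := h𝒳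
  obtain ⟨ξ', φ, hφ, hr⟩ := K908.Fib.exists_restr ξ ((baseOver π ξ α).left ⁻¹ᵁ U)
  have hmem : ∀ s : ↥(sch 𝒳 ξ'), (baseOver π ξ' (π.map φ ≫ α)).left s ∈ U := by
    intro s
    have h := congrArg (fun k : (𝒳.p.obj ξ').left ⟶ m.base.left => k s) (bmap_comp_baseOver_left (π := π) φ α)
    have h1 : bmap 𝒳 φ s ∈ (bmap 𝒳 φ).opensRange := ⟨s, rfl⟩
    rw [hr] at h1
    rw [show (baseOver π ξ' (π.map φ ≫ α)).left s = (baseOver π ξ α).left (bmap 𝒳 φ s) from h.symm]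
    exact h1
  obtain ⟨α', hα'⟩ := exists_lift_mo U (π.map φ ≫ α) (range_hom_subset _ hmem)
  refine ⟨ξ', φ, α', hφ, ?_, hα'⟩
  have : t ∈ (bmap 𝒳 φ).opensRange := by
    rw [hr]
    exact ht
  exact this

include h𝒳 hL hu in
/-- A compatible family of morphisms comes from a morphism. -/
theorem exists_hom {m : (ofSp M).obj} (hm : SpGeo.IsEt m) {T : Scheme.{u}}
    (c : ∀ (ξ : 𝒳.obj) (α : π.obj ξ ⟶ m), sch 𝒳 ξ ⟶ T)
    (hc : ∀ {ξ' ξ : 𝒳.obj} (φ : ξ' ⟶ ξ) (α : π.obj ξ ⟶ m), bmap 𝒳 φ ≫ c ξ α = c ξ' (π.map φ ≫ α)) :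
    ∃ g : m.base.left ⟶ T, ∀ (ξ : 𝒳.obj) (α : π.obj ξ ⟶ m), (baseOver π ξ α).left ≫ g = c ξ α := by
  let P : ∀ U : m.base.left.Opens, ((U : Scheme.{u}) ⟶ T) → Prop := fun U g =>
    ∀ (ξ : 𝒳.obj) (α : π.obj ξ ⟶ mo m U), (baseOver π ξ α).left ≫ (show (mo m U).base.left ⟶ T from g) =
      c ξ (α ≫ moι m U)
  have hloc : ∀ y : ↥m.base.left, ∃ U : m.base.left.Opens, y ∈ U ∧ ∃ g, P U g := by
    intro y
    obtain ⟨_, ⟨U₀', hU₀, rfl⟩, hyU, -⟩ := m.base.left.isBasis_affineOpens.exists_subset_of_mem_open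
      (Set.mem_univ y) isOpen_univ
    let U₀ : m.base.left.Opens := U₀'
    have hUa : IsAffine (mo m U₀).base.left := hU₀
    obtain ⟨m', k, h1, h2, ⟨z, hz⟩, g, hg⟩ := exists_hom_local h𝒳 hL hu (isEt_mo U₀ hm) hUa
      (fun ξ α => c ξ (α ≫ moι m U₀)) (fun {ξ' ξ} φ α => by rw [hc, Category.assoc]) ⟨y, hyU⟩
    have I : IsOpenImmersion (k ≫ moι m U₀).hom.left := by
      change IsOpenImmersion (k.hom.left ≫ (moι m U₀).hom.left)
      infer_instance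
    let U : m.base.left.Opens := (k ≫ moι m U₀).hom.left.opensRange
    obtain ⟨j, hj⟩ := exists_lift_opn (k ≫ moι m U₀) (moι m U) (by
      rw [range_moι]
      rfl)
    refine ⟨U, ⟨z, ?_⟩, j.hom.left ≫ g, fun ξ α => ?_⟩
    · change U₀.ι (k.hom.left z) = y
      rw [hz]
      rfl
    · have h3 := hg ξ (α ≫ j)
      rw [baseOver_comp, Over.comp_left, Category.assoc] at h3
      refine h3.trans ?_
      change c ξ (((α ≫ j) ≫ k) ≫ moι m U₀) = _
      rw [Category.assoc, Category.assoc, hj]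
  obtain ⟨g, hg⟩ := glue_of_opens P (fun U V h g hg ξ α => by
      have h1 := hg ξ (α ≫ moLE h)
      rw [baseOver_comp, Over.comp_left, Category.assoc, Category.assoc, moLE_moι] at h1
      exact h1) (fun U g g' hg hg' => hom_ext h𝒳 hL hu (isEt_mo U hm) fun ξ α => (hg ξ α).trans (hg' ξ α).symm) hloc
  refine ⟨g, fun ξ α => hom_ext_of_open _ _ fun t => ?_⟩
  obtain ⟨U, hU, g', hg'⟩ := hloc ((baseOver π ξ α).left t)
  obtain ⟨ξ', φ, α', h1, h2, h3⟩ := exists_restr_mo h𝒳 U ξ α t hU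
  refine ⟨_, bmap 𝒳 φ, h1, h2, ?_⟩
  rw [hc, ← h3, ← hg' ξ' α', ← hg U g' hg']
  have h4 := bmap_comp_baseOver_left (π := π) φ α
  rw [← Category.assoc, h4, ← h3, baseOver_moι, Category.assoc]

end K864.Fam
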