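import Mathlib.AlgebraicGeometry.Sites.EtalePoint
import Mathlib.AlgebraicGeometry.Morphisms.FlatMono
import Mathlib.AlgebraicGeometry.Morphisms.Etale
import Mathlib.AlgebraicGeometry.Morphisms.QuasiCompact
import Mathlib.AlgebraicGeometry.Morphisms.QuasiFinite
import Mathlib.AlgebraicGeometry.AlgClosed.Basic

/-!
# Lemmas on schemes

* `exists_pow_mul_mem_range` : `j : V ⟶ W` an open immersion, `W` affine, `g` a function on `W` with `D(g) ⊆ V`: every function on
  `V` multiplied by a power of `g` extends to `W`;
* `isIso_of_unique_section` : an étale scheme over an algebraically closed field with exactly one section;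
* `finite_sections` : an étale quasi-compact scheme over an algebraically closed field has finitely many sections.
-/

set_option autoImplicit false
set_option linter.unusedVariables false
set_option linter.style.haveILetI false
set_option backward.isDefEq.respectTransparency false
set_option backward.isDefEq.respectTransparency.types false

universe u

open CategoryTheory CategoryTheory.Limits AlgebraicGeometry Opposite TopologicalSpace

namespace K864.SchLem

theorem exists_pow_mul_mem_range {V W : Scheme.{u}} [IsAffine W] [CompactSpace V] (j : V ⟶ W) [IsOpenImmersion j]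
    (g : Γ(W, ⊤)) (hg : (W.basicOpen g : Set W) ⊆ Set.range j) (b : Γ(V, ⊤)) :
    ∃ (n : ℕ) (w : Γ(W, ⊤)), j.appTop w = (j.appTop g) ^ n * b := by
  have hle : W.basicOpen g ≤ j.opensRange := hg
  haveI : IsIso (j.app (W.basicOpen g)) := Scheme.Hom.isIso_app j _ hle
  have hpre : j ⁻¹ᵁ (W.basicOpen g) = V.basicOpen (j.appTop g) := Scheme.preimage_basicOpen_top j g
  -- the restriction of `b`
  let b₁ : Γ(V, j ⁻¹ᵁ (W.basicOpen g)) := V.presheaf.map (homOfLE le_top).op b
  obtain ⟨h, hh⟩ : ∃ h : Γ(W, W.basicOpen g), j.app (W.basicOpen g) h = b₁ :=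
    ⟨(inv (j.app (W.basicOpen g))) b₁, by rw [← CommRingCat.comp_apply, IsIso.inv_hom_id]; rfl⟩
  haveI := (isAffineOpen_top W).isLocalization_basicOpen g
  obtain ⟨⟨w, ⟨_, m, rfl⟩⟩, hw⟩ := IsLocalization.surj (Submonoid.powers g) h
  have hw' : h * W.presheaf.map (homOfLE (W.basicOpen_le g)).op (g ^ m) =
      W.presheaf.map (homOfLE (W.basicOpen_le g)).op w := hw
  have h1 : (V.presheaf.map (homOfLE (V.basicOpen_le (j.appTop g))).op) (j.appTop w - (j.appTop g) ^ m * b) = 0 := by
    rw [map_sub, sub_eq_zero]
    have h2 := congrArg (j.app (W.basicOpen g)) hw'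
    rw [map_mul, hh] at h2
    have h3 : ∀ x : Γ(W, ⊤), j.app (W.basicOpen g) (W.presheaf.map (homOfLE (W.basicOpen_le g)).op x) =
        V.presheaf.map (homOfLE le_top).op (j.appTop x) := by
      intro x
      have := Scheme.Hom.naturality j (homOfLE (W.basicOpen_le g)).op
      exact congrArg (fun k => k.hom x) this
    rw [h3, h3] at h2
    have h4 := congrArg (V.presheaf.map (eqToHom hpre.symm).op) h2
    rw [map_mul] at h4
    have h5 : ∀ x : Γ(V, ⊤), V.presheaf.map (eqToHom hpre.symm).op (V.presheaf.map (homOfLE (show j ⁻¹ᵁ (W.basicOpen g) ≤ ⊤ from le_top)).op x) =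
        V.presheaf.map (homOfLE (V.basicOpen_le (j.appTop g))).op x := by
      intro x
      rw [← CommRingCat.comp_apply, ← Functor.map_comp]
      rfl
    have h6 : V.presheaf.map (eqToHom hpre.symm).op b₁ = V.presheaf.map (homOfLE (V.basicOpen_le (j.appTop g))).op b := h5 b
    rw [h6, h5, h5] at h4
    rw [← h4, map_mul, map_pow j.appTop.hom, mul_comm]
  obtain ⟨n, hn⟩ := exists_pow_mul_eq_zero_of_res_basicOpen_eq_zero_of_isCompact V (U := ⊤) CompactSpace.isCompact_univ
    (j.appTop w - (j.appTop g) ^ m * b) (j.appTop g) h1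
  refine ⟨n + m, g ^ n * w, ?_⟩
  rw [map_mul, map_pow]
  linear_combination hn

/-- A section of an étale morphism is an open immersion. -/
theorem isOpenImmersion_of_section {W T : Scheme.{u}} (h : W ⟶ T) [Etale h] (σ : T ⟶ W) (hσ : σ ≫ h = 𝟙 T) :
    IsOpenImmersion σ := by
  have h1 : Etale (σ ≫ h) := by rw [hσ]; infer_instance
  have h2 : Etale σ := Etale.of_comp σ h
  have h3 : Mono σ := mono_of_mono_fac hσ
  exact IsOpenImmersion.of_flat_of_mono σ

variable {K : Type u} [Field K] [IsAlgClosed K]

theorem isIso_of_unique_section {X : Scheme.{u}} (f : X ⟶ Spec (CommRingCat.of K)) [Etale f]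
    (s : Spec (CommRingCat.of K) ⟶ X) (hs : s ≫ f = 𝟙 _)
    (hu : ∀ s' : Spec (CommRingCat.of K) ⟶ X, s' ≫ f = 𝟙 _ → s' = s) : IsIso f := by
  haveI := isOpenImmersion_of_section f s hs
  haveI : Surjective s := by
    refine ⟨fun x => ?_⟩
    obtain ⟨l, h1, h2⟩ := Scheme.exists_fac_of_etale_of_isSepClosed f (𝟙 (Spec (CommRingCat.of K))) x
      (Subsingleton.elim (α := PrimeSpectrum K) _ _)
    rw [hu l h1] at h2
    exact ⟨_, h2⟩
  haveI : IsIso s := (isIso_iff_isOpenImmersion_and_epi_base s).2 ⟨inferInstance, by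
    rw [TopCat.epi_iff_surjective]
    exact s.surjective⟩
  have : f = inv s := by
    rw [← cancel_epi s, hs, IsIso.hom_inv_id]
  rw [this]
  infer_instance

theorem finite_sections {X : Scheme.{u}} (f : X ⟶ Spec (CommRingCat.of K)) [LocallyOfFiniteType f] [LocallyQuasiFinite f]
    [QuasiCompact f] : Finite {s : Spec (CommRingCat.of K) ⟶ X // s ≫ f = 𝟙 _} := by
  have h1 : Finite X := by
    have h2 := f.finite_preimage_singleton (default : PrimeSpectrum K)
    have h3 : f ⁻¹' {(default : PrimeSpectrum K)} = Set.univ := by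
      ext x
      simp only [Set.mem_preimage, Set.mem_singleton_iff, Set.mem_univ, iff_true]
      exact Subsingleton.elim (α := PrimeSpectrum K) _ _
    rw [h3] at h2
    exact Set.finite_univ_iff.1 h2
  have h4 : Finite (closedPoints X) := inferInstance
  exact Finite.of_equiv _ (pointEquivClosedPoint f).symm

end K864.SchLem
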