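import Groth.Agent.StMod.K862.Step1
import Groth.Agent.StMod.K864.SchLem

/-!
# The ring of global functions integral on the atlas

`p : 𝒱 ⥤ᵇ 𝒴` representable quasi-finite separated, `𝒴` with exact global sections, `c` a global function on `𝒱` which on the atlas
extends to the normalization and vanishes outside `V` there.

* `exists_ring` : the ring `B` of global functions on `𝒱` which on the atlas come from the normalization.
-/

set_option autoImplicit false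
set_option linter.unusedVariables false
set_option linter.style.haveILetI false
set_option backward.isDefEq.respectTransparency false
set_option backward.isDefEq.respectTransparency.types false

universe v'' w'' v' w' v w u

open CategoryTheory CategoryTheory.Limits AlgebraicGeometry Opposite StMod AlgSt Polynomial

namespace K864.GFun

open K862.Rep K862.PushO K862.Over K862.FunC K862.Integ K862.Step1 K908.Aff K906 K907.Sec K907.Free K907.Tens K907.Closed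
  K563.NormFun K907.Atl

variable {S : Scheme.{u}} {𝒴 : BasedCategory.{v, w} (Over S)} {𝒱 : BasedCategory.{v', w'} (Over S)}

/-- Product of global functions. -/
noncomputable def mulSec (c c' : (OQ 𝒱).obj.GlobSect) : (OQ 𝒱).obj.GlobSect :=
  ⟨fun x => (vO c x * vO c' x : Γ(sch 𝒱 x, ⊤)), fun x' x φ => by
    change (O 𝒱).mapTop φ (vO c x * vO c' x : Γ(sch 𝒱 x, ⊤)) = (vO c x' * vO c' x' : Γ(sch 𝒱 x', ⊤))
    rw [O_mapTop, ← vO_map c φ, ← vO_map c' φ]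
    exact map_mul (bmap 𝒱 φ).appTop.hom _ _⟩

/-- A global function from a compatible family of functions. -/
noncomputable def famSec (r : ∀ v : 𝒱.obj, Γ(sch 𝒱 v, ⊤))
    (hr : ∀ {v' v : 𝒱.obj} (φ : v' ⟶ v), (bmap 𝒱 φ).appTop (r v) = r v') : (OQ 𝒱).obj.GlobSect :=
  ⟨fun x => (r x : Γ(sch 𝒱 x, ⊤)), fun x' x φ => by
    change (O 𝒱).mapTop φ (r x : Γ(sch 𝒱 x, ⊤)) = (r x' : Γ(sch 𝒱 x', ⊤))
    rw [O_mapTop]
    exact hr φ⟩

theorem vO_famSec (r : ∀ v : 𝒱.obj, Γ(sch 𝒱 v, ⊤)) (hr : ∀ {v' v : 𝒱.obj} (φ : v' ⟶ v), (bmap 𝒱 φ).appTop (r v) = r v')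
    (v : 𝒱.obj) : vO (famSec r hr) v = r v := rfl

theorem vO_mulSec (c c' : (OQ 𝒱).obj.GlobSect) (v : 𝒱.obj) : vO (mulSec c c') v = vO c v * vO c' v := rfl

theorem vO_oneSec (v : 𝒱.obj) : vO (oneSec 𝒱) v = 1 := rfl

/-- The values on `y` of global functions lying in a subring. -/
noncomputable def gset (y : 𝒱.obj) (R : Subring Γ(sch 𝒱 y, ⊤)) : Subring Γ(sch 𝒱 y, ⊤) where
  carrier := {b | (∃ c : (OQ 𝒱).obj.GlobSect, vO c y = b) ∧ b ∈ R}
  mul_mem' := by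
    rintro _ _ ⟨⟨c, rfl⟩, h⟩ ⟨⟨c', rfl⟩, h'⟩
    exact ⟨⟨mulSec c c', rfl⟩, R.mul_mem h h'⟩
  one_mem' := ⟨⟨oneSec 𝒱, rfl⟩, R.one_mem⟩
  add_mem' := by
    rintro _ _ ⟨⟨c, rfl⟩, h⟩ ⟨⟨c', rfl⟩, h'⟩
    exact ⟨⟨c + c', rfl⟩, R.add_mem h h'⟩
  zero_mem' := ⟨⟨0, rfl⟩, R.zero_mem⟩
  neg_mem' := by
    rintro _ ⟨⟨c, rfl⟩, h⟩
    exact ⟨⟨-c, rfl⟩, R.neg_mem h⟩

variable {y : 𝒱.obj} {R : Subring Γ(sch 𝒱 y, ⊤)}

/-- The global function with a given value. -/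
noncomputable def sec (b : gset y R) : (OQ 𝒱).obj.GlobSect := b.2.1.choose

theorem vO_sec (b : gset y R) : vO (sec b) y = b.1 := b.2.1.choose_spec

/-- Evaluation. -/
noncomputable def evG (h : ∀ c c' : (OQ 𝒱).obj.GlobSect, vO c y = vO c' y → c = c') (v : 𝒱.obj) :
    gset y R →+* Γ(sch 𝒱 v, ⊤) where
  toFun b := vO (sec b) v
  map_one' := by
    rw [h (sec (1 : gset y R)) (oneSec 𝒱) (by rw [vO_sec]; rfl)]
    rfl
  map_mul' b b' := by
    rw [h (sec (b * b')) (mulSec (sec b) (sec b')) (by rw [vO_sec, vO_mulSec, vO_sec, vO_sec]; rfl)]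
    rfl
  map_zero' := by
    rw [h (sec (0 : gset y R)) 0 (by rw [vO_sec]; rfl)]
    rfl
  map_add' b b' := by
    rw [h (sec (b + b')) (sec b + sec b') (by rw [vO_sec, vO_add, vO_sec, vO_sec]; rfl)]
    rfl

theorem evG_apply (h : ∀ c c' : (OQ 𝒱).obj.GlobSect, vO c y = vO c' y → c = c') (v : 𝒱.obj) (b : gset y R)
    (c : (OQ 𝒱).obj.GlobSect) (hc : vO c y = b.1) : evG h v b = vO c v := by
  change vO (sec b) v = _
  rw [h (sec b) c (by rw [vO_sec, hc])]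

theorem cov1_of_pres (P : Pres 𝒴) : Cov1 P.ζ := by
  intro x hx
  obtain ⟨z', f, d, h1, h2, h3⟩ := P.cov x hx
  exact ⟨z', f, d, h1, ⟨inferInstance, h3⟩⟩

/-- The ring of global functions on `𝒱` which come from the normalization on the atlas. -/
theorem exists_ring (h𝒴 : FibCat.IsFibGrpd 𝒴.p) (h𝒱 : FibCat.IsFibGrpd 𝒱.p) {p : 𝒱 ⥤ᵇ 𝒴} (hp : IsRep QfSep p) (P : Pres 𝒴)
    (hex : K907.Free.Exact 𝒴) {A₀ : Type u} [CommRing A₀] (s : Fn A₀ 𝒴) (hs : IsFn s) (ch : Ch p)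
    (c : (OQ 𝒱).obj.GlobSect)
    (hc : vO c (ch.y P.ζ P.affζ) ∈ N (str p (ch.α P.ζ P.affζ)) (cpl ch P.ζ P.affζ)) :
    ∃ (B : Type u) (_ : CommRing B) (_ : Algebra A₀ B) (_ : Algebra.IsIntegral A₀ B)
      (ev : ∀ v : 𝒱.obj, B →+* Γ(sch 𝒱 v, ⊤)),
      (∀ {v' v : 𝒱.obj} (φ : v' ⟶ v) (b : B), (bmap 𝒱 φ).appTop (ev v b) = ev v' b) ∧
      (∀ (v : 𝒱.obj) (a : A₀), ev v (algebraMap A₀ B a) = (pullFn p s).σ v a) ∧
      (∃ b : B, ∀ v, ev v b = vO c v) ∧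
      (∀ (r : ∀ v : 𝒱.obj, Γ(sch 𝒱 v, ⊤)) (_ : ∀ {v' v : 𝒱.obj} (φ : v' ⟶ v), (bmap 𝒱 φ).appTop (r v) = r v'),
        ∃ (n : ℕ) (b : B), ∀ v, ev v b = vO c v ^ n * r v) := by
  have hζ := P.affζ
  haveI := (ch.qf P.ζ P.affζ).1.1.1
  haveI := (ch.qf P.ζ P.affζ).1.1.2
  let y := ch.y P.ζ P.affζ
  let F := str p (ch.α P.ζ P.affζ)
  have hext : ∀ c c' : (OQ 𝒱).obj.GlobSect, vO c y = vO c' y → c = c' := fun c c' h =>
    globSect_ext_term h𝒴 h𝒱 (cov1_of_pres P) (ch.term P.ζ P.affζ) (OQ 𝒱) h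
  let R : Subring Γ(sch 𝒱 y, ⊤) := F.toNormalization.appTop.hom.range
  have hfac : ∀ a : Γ(sch 𝒴 P.ζ, ⊤), F.appTop a = F.toNormalization.appTop (F.fromNormalization.appTop a) := by
    intro a
    rw [← appTop_comp, Scheme.Hom.toNormalization_fromNormalization]
  have hmem : ∀ a : A₀, (pullFn p s).σ y a ∈ gset y R := by
    intro a
    refine ⟨⟨fnSec (pullFn p s) a, rfl⟩, ?_⟩
    rw [pullFn_σ s (ch.α P.ζ P.affζ)]
    change F.appTop _ ∈ _
    rw [hfac]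
    exact ⟨_, rfl⟩
  let al : A₀ →+* gset y R := ((pullFn p s).σ y).codRestrict (gset y R) hmem
  letI : Algebra A₀ (gset y R) := al.toAlgebra
  refine ⟨gset y R, inferInstance, inferInstance, ⟨?_⟩, fun v => evG hext v, ?_, ?_, ?_, ?_⟩
  · intro b
    obtain ⟨c', hc'⟩ := b.2.1
    obtain ⟨w, hw⟩ := b.2.2
    have hmN : vO c' y ∈ N F ∅ := by
      rw [mem_N_iff]
      exact ⟨w, hw.trans hc'.symm, fun z hz => hz.elim⟩
    obtain ⟨q, hq, hq0⟩ := exists_monic h𝒴 h𝒱 (hp.mono qfSep_le) P hex s hs c' (ch.term P.ζ P.affζ)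
      (isIntegralElem_of_mem_N F hmN)
    refine ⟨q, hq, ?_⟩
    apply Subtype.ext
    have h1 := hq0 y
    have h2 := hom_eval₂ q (algebraMap A₀ (gset y R)) (gset y R).subtype b
    refine h2.trans ?_
    rw [hc'] at h1
    exact h1
  · intro v' v φ b
    exact vO_map (sec b) φ
  · intro v a
    exact evG_apply hext v _ (fnSec (pullFn p s) a) rfl
  · rw [mem_N_iff] at hc
    obtain ⟨g, hg, -⟩ := hc
    exact ⟨⟨vO c y, ⟨c, rfl⟩, ⟨g, hg⟩⟩, fun v => evG_apply hext v _ c rfl⟩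
  · intro r hr
    rw [mem_N_iff] at hc
    obtain ⟨g, hg, hg'⟩ := hc
    haveI : IsAffine F.normalization := isAffine_of_isAffineHom F.fromNormalization
    haveI : QuasiCompact F := (ch.qf P.ζ P.affζ).1.2.1
    haveI : CompactSpace ↥(sch 𝒱 y) := (quasiCompact_iff_compactSpace (f := F)).1 inferInstance
    obtain ⟨n, w, hw⟩ := K864.SchLem.exists_pow_mul_mem_range F.toNormalization g (by
      intro z hz
      by_contra hcon
      have h3 := hg' z hcon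
      exact (mem_basicOpen_iff z g).1 hz h3) (r y)
    have hg2 : F.toNormalization.appTop g = vO c y := hg
    rw [hg2] at hw
    exact ⟨n, ⟨vO c y ^ n * r y, ⟨mulSec (powSec c n) (famSec r hr), rfl⟩, ⟨w, hw⟩⟩, fun v =>
      evG_apply hext v _ (mulSec (powSec c n) (famSec r hr)) rfl⟩

end K864.GFun
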