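import Groth.Agent.StMod.K864.Locus

/-!
# Glueing good moduli spaces over a saturated open cover

`D : GMDat 𝒳` : open loci `Q i` covering `𝒳`, maps `φ i` from the open substacks to schemes `Y i`, saturation.

* `V i j` : the open of `Y i` over which the open substack `j` lies; `mem_loc_iff`;
* `g i j : V i j ⟶ Y j` the transition maps;
* `exists_glued` : the glued scheme `Y₀`;
* `exists_c` : the maps `sch x ⟶ Y₀`.
-/

set_option autoImplicit false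
set_option linter.unusedVariables false
set_option linter.style.haveILetI false
set_option backward.isDefEq.respectTransparency false
set_option backward.isDefEq.respectTransparency.types false

universe w v u

open CategoryTheory CategoryTheory.Limits AlgebraicGeometry Opposite StMod AlgSt AlgSp TopologicalSpace

namespace K864.Glu

open K906 K907.Free K907.Atl K907.Pt K907.Closed K899.OpenCrit K864.Zm K864.Sep K864.Locus K864.SchGlue

variable {S : Scheme.{u}}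

/-- Open loci of `𝒳` with maps to schemes. -/
structure GMDat (𝒳 : BasedCategory.{v, w} (Over S)) where
  h𝒳 : FibCat.IsFibGrpd 𝒳.p
  /-- index type -/
  ι : Type u
  /-- the open loci -/
  Q : ι → 𝒳.obj → Prop
  hQ : ∀ i, HasOpenLocus (Q i)
  /-- the targets -/
  Y : ι → Over S
  /-- the maps -/
  φ : ∀ i, fullSub 𝒳 (Q i) ⥤ᵇ ofSch (Y i)
  hL : ∀ i, Loc (φ i)
  hu : ∀ i, UnitIsIso (φ i)
  cov : ∀ (x : 𝒳.obj) (t : ↥(sch 𝒳 x)), ∃ i, t ∈ loc (hQ i) x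
  sat : ∀ (i j : ι) (x x' : 𝒳.obj) (hx : Q i x) (hx' : Q i x') (t : ↥(sch 𝒳 x)) (t' : ↥(sch 𝒳 x')),
    (zm (φ i) ⟨x, hx⟩).left t = (zm (φ i) ⟨x', hx'⟩).left t' → t ∈ loc (hQ j) x → t' ∈ loc (hQ j) x'

variable {𝒳 : BasedCategory.{v, w} (Over S)} (D : GMDat 𝒳)

namespace GMDat

/-- The map of an object to `Y i`. -/
def f (i : D.ι) (x : 𝒳.obj) (hx : D.Q i x) : sch 𝒳 x ⟶ (D.Y i).left := (zm (D.φ i) ⟨x, hx⟩).left

theorem f_map (i : D.ι) {x' x : 𝒳.obj} (a : x' ⟶ x) (hx : D.Q i x) (hx' : D.Q i x') :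
    bmap 𝒳 a ≫ D.f i x hx = D.f i x' hx' :=
  K864.Top.map_zm_left (D.φ i) (ξ' := ⟨x', hx'⟩) (ξ := ⟨x, hx⟩) (ObjectProperty.homMk a)

theorem f_hom (i : D.ι) {x : 𝒳.obj} (hx : D.Q i x) : D.f i x hx ≫ (D.Y i).hom = (𝒳.p.obj x).hom :=
  Over.w (zm (D.φ i) ⟨x, hx⟩)

/-- The open of `Y i` over which the open substack `j` lies. -/
def V (i j : D.ι) : (D.Y i).left.Opens :=
  sSup {U | ∀ (x : 𝒳.obj) (hx : D.Q i x) (t : ↥(sch 𝒳 x)), D.f i x hx t ∈ U → t ∈ loc (D.hQ j) x}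

theorem mem_loc_of_mem_V {i j : D.ι} {x : 𝒳.obj} {hx : D.Q i x} {t : ↥(sch 𝒳 x)} (h : D.f i x hx t ∈ D.V i j) :
    t ∈ loc (D.hQ j) x := by
  obtain ⟨U, hU, hx'⟩ := Opens.mem_sSup.1 h
  exact hU x hx t hx'

theorem mem_V_of_mem_loc {i j : D.ι} {x : 𝒳.obj} {hx : D.Q i x} {t : ↥(sch 𝒳 x)} (h : t ∈ loc (D.hQ j) x) :
    D.f i x hx t ∈ D.V i j := by
  obtain ⟨U, h1, h2⟩ := K864.Top.exists_open (isFib (D.hQ i) D.h𝒳) (D.hL i) (D.hu i)
    (fun ξ => ((loc (D.hQ j) ξ.obj : (sch 𝒳 ξ.obj).Opens) : Set ↥(sch 𝒳 ξ.obj))ᶜ)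
    (fun {ξ' ξ} a t => not_congr (mem_loc_map (D.hQ j) D.h𝒳 a.hom t))
    (fun ξ => (loc (D.hQ j) ξ.obj).isOpen.isClosed_compl) (D.f i x hx t)
    (fun ξ t' ht' hcon => hcon (D.sat i j x ξ.obj hx ξ.property t t' ht'.symm h))
  refine Opens.mem_sSup.2 ⟨U, fun x' hx' t' ht' => ?_, h1⟩
  by_contra hcon
  exact h2 ⟨x', hx'⟩ t' ht' hcon

theorem mem_loc_iff {i j : D.ι} {x : 𝒳.obj} (hx : D.Q i x) (t : ↥(sch 𝒳 x)) :
    t ∈ loc (D.hQ j) x ↔ D.f i x hx t ∈ D.V i j := ⟨D.mem_V_of_mem_loc, D.mem_loc_of_mem_V⟩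

theorem q_of_fac {i j : D.ι} {x : 𝒳.obj} (hx : D.Q i x) (l : sch 𝒳 x ⟶ (D.V i j : Scheme.{u}))
    (hl : l ≫ (D.V i j).ι = D.f i x hx) : D.Q j x := by
  rw [iff_forall (D.hQ j)]
  intro t
  rw [D.mem_loc_iff hx, ← hl]
  exact (l t).2

theorem exists_fac {i j : D.ι} {x : 𝒳.obj} (hx : D.Q i x) (hx' : D.Q j x) :
    ∃ l : sch 𝒳 x ⟶ (D.V i j : Scheme.{u}), l ≫ (D.V i j).ι = D.f i x hx := by
  have hr : Set.range (D.f i x hx) ⊆ Set.range (D.V i j).ι := by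
    rw [Scheme.Opens.range_ι]
    rintro _ ⟨t, rfl⟩
    exact (D.mem_loc_iff hx t).1 ((iff_forall (D.hQ j)).1 hx' t)
  exact ⟨IsOpenImmersion.lift (D.V i j).ι (D.f i x hx) hr, IsOpenImmersion.lift_fac _ _ _⟩

theorem exists_g (i j : D.ι) : ∃ g : (D.V i j : Scheme.{u}) ⟶ (D.Y j).left,
    ∀ (x : 𝒳.obj) (hx : D.Q i x) (hx' : D.Q j x) (l : sch 𝒳 x ⟶ (D.V i j : Scheme.{u})),
      l ≫ (D.V i j).ι = D.f i x hx → l ≫ g = D.f j x hx' := by
  obtain ⟨g, hg⟩ := K864.Top.exists_desc (isFib (D.hQ i) D.h𝒳) (D.hL i) (D.hu i) (D.V i j).ι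
    (T := (D.Y j).left) (fun ξ l hl => D.f j ξ.obj (D.q_of_fac ξ.property l hl))
    (fun {ξ' ξ} a l hl => D.f_map j a.hom _ _)
  exact ⟨g, fun x hx hx' l hl => hg ⟨x, hx⟩ l hl⟩

/-- The transition maps. -/
noncomputable def g (i j : D.ι) : (D.V i j : Scheme.{u}) ⟶ (D.Y j).left := (D.exists_g i j).choose

theorem fac_g {i j : D.ι} {x : 𝒳.obj} (hx : D.Q i x) (hx' : D.Q j x) (l : sch 𝒳 x ⟶ (D.V i j : Scheme.{u}))
    (hl : l ≫ (D.V i j).ι = D.f i x hx) : l ≫ D.g i j = D.f j x hx' := (D.exists_g i j).choose_spec x hx hx' l hl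

/-- Extensionality over the target `Y i`. -/
theorem ext {i : D.ι} {W : Scheme.{u}} (p : W ⟶ (D.Y i).left) [Etale p] {T : Scheme.{u}} {a b : W ⟶ T}
    (h : ∀ (x : 𝒳.obj) (hx : D.Q i x) (l : sch 𝒳 x ⟶ W), l ≫ p = D.f i x hx → l ≫ a = l ≫ b) : a = b :=
  K864.Top.desc_ext (isFib (D.hQ i) D.h𝒳) (D.hL i) (D.hu i) p fun ξ l hl => h ξ.obj ξ.property l hl

theorem mem_of_forall {i : D.ι} {W : Scheme.{u}} (p : W ⟶ (D.Y i).left) [Etale p] {T : Scheme.{u}} (a : W ⟶ T)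
    (T' : T.Opens) (h : ∀ (x : 𝒳.obj) (hx : D.Q i x) (l : sch 𝒳 x ⟶ W), l ≫ p = D.f i x hx →
      ∀ t : ↥(sch 𝒳 x), a (l t) ∈ T') (w : W) : a w ∈ T' :=
  K864.Top.mem_of_forall (isFib (D.hQ i) D.h𝒳) (D.hL i) (D.hu i) p a T'
    (fun ξ l hl t => h ξ.obj ξ.property l hl t) w

theorem g_hom (i j : D.ι) : D.g i j ≫ (D.Y j).hom = (D.V i j).ι ≫ (D.Y i).hom := by
  refine D.ext (D.V i j).ι fun x hx l hl => ?_
  have hx' := D.q_of_fac hx l hl
  rw [← Category.assoc, D.fac_g hx hx' l hl, ← Category.assoc, hl, f_hom, f_hom]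

theorem range_fac {i j k : D.ι} {W : Scheme.{u}} (p : W ⟶ (D.Y i).left) [Etale p] (q : W ⟶ (D.Y j).left)
    (h : ∀ (x : 𝒳.obj) (hx : D.Q i x) (l : sch 𝒳 x ⟶ W), l ≫ p = D.f i x hx →
      ∃ hx' : D.Q j x, D.Q k x ∧ l ≫ q = D.f j x hx') :
    ∃ r : W ⟶ (D.V j k : Scheme.{u}), r ≫ (D.V j k).ι = q := by
  have hr : Set.range q ⊆ Set.range (D.V j k).ι := by
    rw [Scheme.Opens.range_ι]
    rintro _ ⟨w, rfl⟩
    refine D.mem_of_forall p q (D.V j k) (fun x hx l hl t => ?_) w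
    obtain ⟨hx', hk, h1⟩ := h x hx l hl
    have h2 : q (l t) = D.f j x hx' t := congrArg (fun r : sch 𝒳 x ⟶ (D.Y j).left => r t) h1
    rw [h2, ← D.mem_loc_iff]
    exact (iff_forall (D.hQ k)).1 hk t
  exact ⟨IsOpenImmersion.lift (D.V j k).ι q hr, IsOpenImmersion.lift_fac _ _ _⟩

theorem g_self (i : D.ι) : (D.V i i).ι = D.g i i := by
  refine D.ext (D.V i i).ι fun x hx l hl => ?_
  rw [hl, D.fac_g hx hx l hl]

/-- The glueing datum. -/
noncomputable def gdat : GDat.{u} where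
  J := D.ι
  U i := (D.Y i).left
  P i j := (D.V i j : Scheme.{u})
  p₁ i j := (D.V i j).ι
  p₂ i j := D.g i j
  opn i j := inferInstance
  dia i := D.g_self i
  refl i := by
    obtain ⟨r, hr⟩ := D.range_fac (i := i) (j := i) (k := i) (𝟙 (D.Y i).left) (𝟙 (D.Y i).left)
      (fun x hx l hl => ⟨hx, hx, hl⟩)
    exact ⟨r, hr⟩
  symm i j := by
    obtain ⟨r, hr⟩ := D.range_fac (i := i) (j := j) (k := i) (D.V i j).ι (D.g i j)
      (fun x hx l hl => ⟨D.q_of_fac hx l hl, hx, D.fac_g hx _ l hl⟩)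
    refine ⟨r, hr, D.ext (D.V i j).ι fun x hx l hl => ?_⟩
    have hx' := D.q_of_fac hx l hl
    rw [hl, ← Category.assoc, D.fac_g hx' hx (l ≫ r)]
    rw [Category.assoc, hr, D.fac_g hx hx' l hl]
  trans i j k := by
    have h1 : ∀ (x : 𝒳.obj) (hx : D.Q i x) (l : sch 𝒳 x ⟶ pullback (D.V i j).ι (D.V i k).ι),
        l ≫ (pullback.fst _ _ ≫ (D.V i j).ι) = D.f i x hx → D.Q j x ∧ D.Q k x ∧
        (∀ hj : D.Q j x, l ≫ (pullback.fst _ _ ≫ D.g i j) = D.f j x hj) ∧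
        (∀ hk : D.Q k x, l ≫ (pullback.snd _ _ ≫ D.g i k) = D.f k x hk) := by
      intro x hx l hl
      have e1 : (l ≫ pullback.fst (D.V i j).ι (D.V i k).ι) ≫ (D.V i j).ι = D.f i x hx := by
        rw [Category.assoc, hl]
      have e2 : (l ≫ pullback.snd (D.V i j).ι (D.V i k).ι) ≫ (D.V i k).ι = D.f i x hx := by
        rw [Category.assoc, ← pullback.condition, hl]
      refine ⟨D.q_of_fac hx _ e1, D.q_of_fac hx _ e2, fun hj => ?_, fun hk => ?_⟩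
      · rw [← Category.assoc, D.fac_g hx hj _ e1]
      · rw [← Category.assoc, D.fac_g hx hk _ e2]
    obtain ⟨r, hr⟩ := D.range_fac (i := i) (j := j) (k := k)
      (pullback.fst (D.V i j).ι (D.V i k).ι ≫ (D.V i j).ι) (pullback.fst (D.V i j).ι (D.V i k).ι ≫ D.g i j)
      (fun x hx l hl => by
        obtain ⟨hj, hk, h3, h4⟩ := h1 x hx l hl
        exact ⟨hj, hk, h3 hj⟩)
    refine ⟨r, hr, D.ext (pullback.fst (D.V i j).ι (D.V i k).ι ≫ (D.V i j).ι) fun x hx l hl => ?_⟩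
    obtain ⟨hj, hk, h3, h4⟩ := h1 x hx l hl
    rw [h4 hk, ← Category.assoc, D.fac_g hj hk (l ≫ r)]
    rw [Category.assoc, hr, h3 hj]

/-- The glued scheme with its charts. -/
structure Glued where
  /-- the scheme -/
  Y₀ : Over S
  /-- the charts -/
  e : ∀ i, D.Y i ⟶ Y₀
  opn : ∀ i, IsOpenImmersion (e i).left
  surj : ∀ y : Y₀.left, ∃ (i : D.ι) (x : (D.Y i).left), (e i).left x = y
  comp : ∀ i j, (D.V i j).ι ≫ (e i).left = D.g i j ≫ (e j).left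
  lift : ∀ (i j : D.ι) (T : Scheme.{u}) (a : T ⟶ (D.Y i).left) (b : T ⟶ (D.Y j).left),
    a ≫ (e i).left = b ≫ (e j).left → ∃ l : T ⟶ (D.V i j : Scheme.{u}), l ≫ (D.V i j).ι = a ∧ l ≫ D.g i j = b

theorem nonempty_glued : Nonempty D.Glued := by
  obtain ⟨Y, s, e, h1, h2, h3, h4, h5⟩ := exists_glue D.gdat (S := S) (fun i => (D.Y i).hom)
    (fun i j => (D.g_hom i j).symm)
  exact ⟨{ Y₀ := Over.mk s, e := fun i => Over.homMk (e i) (h1 i), opn := h2, surj := h3, comp := h4, lift := h5 }⟩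

namespace Glued

variable {D} (G : D.Glued)

instance (i : D.ι) : IsOpenImmersion (G.e i).left := G.opn i

/-- The maps agree on objects in two of the open substacks. -/
theorem f_e {i j : D.ι} {x : 𝒳.obj} (hx : D.Q i x) (hx' : D.Q j x) :
    D.f i x hx ≫ (G.e i).left = D.f j x hx' ≫ (G.e j).left := by
  obtain ⟨l, hl⟩ := D.exists_fac hx hx'
  rw [← hl, Category.assoc, G.comp, ← Category.assoc, D.fac_g hx hx' l hl]

/-- Restriction of objects to the open loci. -/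
theorem exists_restr (i : D.ι) (x : 𝒳.obj) (t : ↥(sch 𝒳 x)) (ht : t ∈ loc (D.hQ i) x) :
    ∃ (y : 𝒳.obj) (a : y ⟶ x) (_ : IsOpenImmersion (bmap 𝒳 a)), (bmap 𝒳 a).opensRange = loc (D.hQ i) x ∧
      D.Q i y ∧ t ∈ Set.range (bmap 𝒳 a) := by
  haveI := D.h𝒳
  obtain ⟨y, a, ha, hr⟩ := K908.Fib.exists_restr x (loc (D.hQ i) x)
  refine ⟨y, a, ha, hr, ?_, ?_⟩
  · rw [iff_range (D.hQ i) a, ← hr]
    rfl
  · have : t ∈ (bmap 𝒳 a).opensRange := by
      rw [hr]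
      exact ht
    exact this

/-- The maps of the schemes under the objects of `𝒳` to the glued scheme. -/
theorem exists_c (x : 𝒳.obj) : ∃ c : sch 𝒳 x ⟶ G.Y₀.left, ∀ (i : D.ι) (y : 𝒳.obj) (a : y ⟶ x) (hy : D.Q i y),
    bmap 𝒳 a ≫ c = D.f i y hy ≫ (G.e i).left := by
  haveI := D.h𝒳
  let P : ∀ U : (sch 𝒳 x).Opens, ((U : Scheme.{u}) ⟶ G.Y₀.left) → Prop := fun U g =>
    ∀ (i : D.ι) (y : 𝒳.obj) (a : y ⟶ x) (hy : D.Q i y) (l : sch 𝒳 y ⟶ (U : Scheme.{u})),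
      l ≫ U.ι = bmap 𝒳 a → l ≫ g = D.f i y hy ≫ (G.e i).left
  have hloc : ∀ t : ↥(sch 𝒳 x), ∃ U : (sch 𝒳 x).Opens, t ∈ U ∧ ∃ g, P U g := by
    intro t
    obtain ⟨i, hi⟩ := D.cov x t
    obtain ⟨y₀, a₀, h1, h2, h3, h4⟩ := exists_restr i x t hi
    let U : (sch 𝒳 x).Opens := loc (D.hQ i) x
    have hr : Set.range U.ι ⊆ Set.range (bmap 𝒳 a₀) := by
      rw [Scheme.Opens.range_ι]
      change ((loc (D.hQ i) x : (sch 𝒳 x).Opens) : Set ↥(sch 𝒳 x)) ⊆ _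
      rw [← h2]
      rfl
    let j : (U : Scheme.{u}) ⟶ sch 𝒳 y₀ := IsOpenImmersion.lift (bmap 𝒳 a₀) U.ι hr
    have hj : j ≫ bmap 𝒳 a₀ = U.ι := IsOpenImmersion.lift_fac _ _ _
    refine ⟨U, hi, j ≫ D.f i y₀ h3 ≫ (G.e i).left, fun k y a hy l hl => ?_⟩
    obtain ⟨b, hb⟩ := K908.Fib.exists_lift_open a₀ a (by
      rw [← hl]
      rintro _ ⟨s, rfl⟩
      exact hr ⟨l s, rfl⟩)
    have hy' : D.Q i y := (D.hQ i).of_hom b h3
    have e1 : l ≫ j = bmap 𝒳 b := by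
      rw [← cancel_mono (bmap 𝒳 a₀), Category.assoc, hj, hl, ← bmap_comp, hb]
    rw [← Category.assoc, e1, ← Category.assoc, D.f_map i b h3 hy']
    exact G.f_e hy' hy
  obtain ⟨c, hc⟩ := glue_of_opens P (fun U V h g hg i y a hy l hl => by
      rw [← Category.assoc]
      refine hg i y a hy (l ≫ (sch 𝒳 x).homOfLE h) ?_
      rw [Category.assoc, Scheme.homOfLE_ι, hl]) (fun U g g' hg hg' => hom_ext_of_open _ _ fun t => by
        obtain ⟨i, hi⟩ := D.cov x (U.ι t)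
        obtain ⟨y₀, a₀, h1, h2⟩ := K908.Fib.exists_restr x (U ⊓ loc (D.hQ i) x)
        have hy : D.Q i y₀ := by
          rw [iff_range (D.hQ i) a₀]
          change ((bmap 𝒳 a₀).opensRange : Set ↥(sch 𝒳 x)) ⊆ _
          rw [h2]
          exact Set.inter_subset_right
        have hr : Set.range (bmap 𝒳 a₀) ⊆ Set.range U.ι := by
          rw [Scheme.Opens.range_ι]
          change ((bmap 𝒳 a₀).opensRange : Set ↥(sch 𝒳 x)) ⊆ _
          rw [h2]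
          exact Set.inter_subset_left
        let l := IsOpenImmersion.lift U.ι (bmap 𝒳 a₀) hr
        have hl : l ≫ U.ι = bmap 𝒳 a₀ := IsOpenImmersion.lift_fac _ _ _
        have hlo : IsOpenImmersion l := by
          have : IsOpenImmersion (l ≫ U.ι) := by
            rw [hl]
            exact h1
          exact IsOpenImmersion.of_comp l U.ι
        refine ⟨_, l, hlo, ?_, (hg i y₀ a₀ hy l hl).trans (hg' i y₀ a₀ hy l hl).symm⟩
        have hmem : U.ι t ∈ (bmap 𝒳 a₀).opensRange := by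
          rw [h2]
          exact ⟨t.2, hi⟩
        obtain ⟨s, hs⟩ := hmem
        refine ⟨s, ?_⟩
        apply U.ι.isOpenEmbedding.injective
        rw [← hs]
        exact congrArg (fun k : sch 𝒳 y₀ ⟶ sch 𝒳 x => k s) hl) hloc
  refine ⟨c, fun i y a hy => hom_ext_of_open _ _ fun s => ?_⟩
  obtain ⟨U, hU, g, hg⟩ := hloc (bmap 𝒳 a s)
  obtain ⟨y', b, h1, h2⟩ := K908.Fib.exists_restr y (bmap 𝒳 a ⁻¹ᵁ U)
  have hs : s ∈ (bmap 𝒳 b).opensRange := by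
    rw [h2]
    exact hU
  refine ⟨_, bmap 𝒳 b, h1, hs, ?_⟩
  have hr : Set.range (bmap 𝒳 (b ≫ a)) ⊆ Set.range U.ι := by
    rw [Scheme.Opens.range_ι, bmap_comp]
    rintro _ ⟨r, rfl⟩
    have : bmap 𝒳 b r ∈ (bmap 𝒳 b).opensRange := ⟨r, rfl⟩
    rw [h2] at this
    exact this
  let l := IsOpenImmersion.lift U.ι (bmap 𝒳 (b ≫ a)) hr
  have hl : l ≫ U.ι = bmap 𝒳 (b ≫ a) := IsOpenImmersion.lift_fac _ _ _
  have hy' : D.Q i y' := (D.hQ i).of_hom b hy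
  rw [← Category.assoc, ← bmap_comp, ← hl, Category.assoc, hc U g hg, hg i y' (b ≫ a) hy' l hl, ← Category.assoc,
    D.f_map i b hy hy']

/-- The map to the glued scheme. -/
noncomputable def c (x : 𝒳.obj) : sch 𝒳 x ⟶ G.Y₀.left := (G.exists_c x).choose

theorem bmap_c {x y : 𝒳.obj} (a : y ⟶ x) (i : D.ι) (hy : D.Q i y) :
    bmap 𝒳 a ≫ G.c x = D.f i y hy ≫ (G.e i).left := (G.exists_c x).choose_spec i y a hy

theorem c_eq {x : 𝒳.obj} (i : D.ι) (hx : D.Q i x) : G.c x = D.f i x hx ≫ (G.e i).left := by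
  have h := G.bmap_c (𝟙 x) i hx
  have e : bmap 𝒳 (𝟙 x) = 𝟙 _ := by
    rw [bmap, CategoryTheory.Functor.map_id]
    rfl
  rw [e, Category.id_comp] at h
  exact h

/-- Equality of morphisms out of `sch x` is tested on the open loci. -/
theorem ext_loc {x : 𝒳.obj} {T : Scheme.{u}} {a b : sch 𝒳 x ⟶ T}
    (h : ∀ (i : D.ι) (y : 𝒳.obj) (u : y ⟶ x), D.Q i y → bmap 𝒳 u ≫ a = bmap 𝒳 u ≫ b) : a = b := by
  refine hom_ext_of_open _ _ fun t => ?_
  obtain ⟨i, hi⟩ := D.cov x t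
  obtain ⟨y₀, a₀, h1, h2, h3, h4⟩ := exists_restr i x t hi
  exact ⟨_, bmap 𝒳 a₀, h1, h4, h i y₀ a₀ h3⟩

theorem bmap_c' {x' x : 𝒳.obj} (a : x' ⟶ x) : bmap 𝒳 a ≫ G.c x = G.c x' := by
  refine ext_loc (D := D) fun i y u hy => ?_
  rw [← Category.assoc, ← bmap_comp, G.bmap_c (u ≫ a) i hy, G.bmap_c u i hy]

theorem c_hom (x : 𝒳.obj) : G.c x ≫ G.Y₀.hom = (𝒳.p.obj x).hom := by
  refine ext_loc (D := D) fun i y u hy => ?_
  rw [← Category.assoc, G.bmap_c u i hy, Category.assoc, Over.w, D.f_hom]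
  exact (Over.w (𝒳.p.map u)).symm

/-- The map to the glued scheme, over `S`. -/
noncomputable def cS (x : 𝒳.obj) : 𝒳.p.obj x ⟶ G.Y₀ := Over.homMk (G.c x) (G.c_hom x)

theorem map_cS {x' x : 𝒳.obj} (a : x' ⟶ x) : 𝒳.p.map a ≫ G.cS x = G.cS x' := Over.OverMorphism.ext (G.bmap_c' a)

/-- The functor to the glued scheme. -/
noncomputable def π : 𝒳 ⥤ᵇ ofSch G.Y₀ where
  obj x := ⟨𝒳.p.obj x, ⟨G.cS x⟩⟩
  map {x' x} a := ⟨𝒳.p.map a, ULift.ext _ _ (G.map_cS a)⟩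
  map_id x := Stk.EltObj.hom_ext (𝒳.p.map_id x)
  map_comp a b := Stk.EltObj.hom_ext (𝒳.p.map_comp a b)
  w := rfl

theorem zm_π (x : 𝒳.obj) : zm G.π x = G.cS x := by
  unfold zm
  exact Category.id_comp _

/-- The restriction to the open substacks. -/
theorem comp_subIncl (i : D.ι) : BasedFunctor.comp (subIncl 𝒳 (D.Q i)) G.π =
    BasedFunctor.comp (D.φ i) (ofSpMap ((yon S).map (G.e i))) := by
  refine functor_ext fun x => ?_
  have h1 : zm (BasedFunctor.comp (subIncl 𝒳 (D.Q i)) G.π) x = G.cS x.obj := Category.id_comp _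
  rw [h1, zm_comp]
  have h2 : zg ((yon S).map (G.e i)) ((D.φ i).obj x) = ((D.φ i).obj x).sec.down ≫ G.e i := rfl
  rw [h2, ← Category.assoc]
  apply Over.OverMorphism.ext
  exact G.c_eq i x.property

/-- The preimage of the chart `i` is the open locus `i`. -/
theorem mem_loc_iff (i : D.ι) (x : 𝒳.obj) (t : ↥(sch 𝒳 x)) :
    t ∈ loc (D.hQ i) x ↔ G.c x t ∈ Set.range (G.e i).left := by
  constructor
  · intro ht
    obtain ⟨y, a, h1, h2, hy, s, hs⟩ := exists_restr i x t ht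
    refine ⟨D.f i y hy s, ?_⟩
    have h3 := congrArg (fun k : sch 𝒳 y ⟶ G.Y₀.left => k s) (G.bmap_c a i hy)
    rw [← hs]
    exact h3.symm
  · rintro ⟨z, hz⟩
    obtain ⟨j, hj⟩ := D.cov x t
    obtain ⟨y, a, h1, h2, hy, s, hs⟩ := exists_restr j x t hj
    have h3 := congrArg (fun k : sch 𝒳 y ⟶ G.Y₀.left => k s) (G.bmap_c a j hy)
    have h4 : (G.e j).left (D.f j y hy s) = (G.e i).left z := by
      rw [hz, ← hs]
      exact h3.symm
    obtain ⟨w, hw1, hw2⟩ := Scheme.Pullback.exists_preimage_pullback (f := (G.e j).left) (g := (G.e i).left)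
      (D.f j y hy s) z h4
    obtain ⟨l, hl1, hl2⟩ := G.lift j i _ (pullback.fst (G.e j).left (G.e i).left)
      (pullback.snd (G.e j).left (G.e i).left) pullback.condition
    have h5 : D.f j y hy s ∈ D.V j i := by
      rw [← hw1, ← hl1]
      exact (l w).2
    have h6 := D.mem_loc_of_mem_V h5
    rw [← hs, ← mem_loc_map (D.hQ i) D.h𝒳 a s]
    exact h6

end Glued

end GMDat

end K864.Glu
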