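import Groth.Agent.StMod.K864.SubRel
import Groth.Agent.StMod.K906.UnitLoc
import Groth.Agent.StMod.K906.PresQc
import Groth.Agent.AlgSt.K740.SpDM

/-!
# The glued map is a good moduli space

`D : GMDat 𝒳`, `G : D.Glued`.

* `cart`, `locFac` : the squares over the charts; quasi-compactness and quasi-separatedness of `G.π`;
* `isGoodModuli` : `G.π` is a good moduli space if all `D.φ i` are.
-/

set_option autoImplicit false
set_option linter.unusedVariables false
set_option linter.style.haveILetI false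
set_option backward.isDefEq.respectTransparency false
set_option backward.isDefEq.respectTransparency.types false

universe w v u

open CategoryTheory CategoryTheory.Limits AlgebraicGeometry Opposite StMod AlgSt AlgSp TopologicalSpace

namespace K864.Glu

open K906 K907.Free K907.Atl K907.Pt K907.Closed K899.OpenCrit K864.Zm K864.Sep K864.Locus K864.SchGlue K734.Fib
  K864.LocCart K864.SubRel

variable {S : Scheme.{u}}

section FF

variable {Z Z' : Over S} (e : Z ⟶ Z') [Mono e]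

omit [Mono e] in
theorem faithful_ofSchMap : (ofSpMap ((yon S).map e)).toFunctor.Faithful :=
  ⟨fun {a b f g} h => Stk.EltObj.hom_ext (congrArg (fun k => k.hom) h)⟩

theorem full_ofSchMap : (ofSpMap ((yon S).map e)).toFunctor.Full :=
  ⟨fun {a b} f => by
    let h : a.base ⟶ b.base := f.hom
    have h1 : h ≫ (b.sec.down ≫ e) = a.sec.down ≫ e := congrArg ULift.down f.map_sec
    exact ⟨⟨h, ULift.ext _ _ ((cancel_mono e).1 (by
      change (h ≫ b.sec.down) ≫ e = _
      rw [Category.assoc, h1]))⟩, rfl⟩⟩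

end FF

variable {𝒳 : BasedCategory.{v, w} (Over S)} {D : GMDat 𝒳} (G : D.Glued)

namespace GMDat.Glued

instance mono_e (i : D.ι) : Mono (G.e i) := by
  constructor
  intro T a b h
  apply Over.OverMorphism.ext
  rw [← cancel_mono (G.e i).left]
  exact congrArg (fun k : T ⟶ G.Y₀ => k.left) h

/-- Objects mapping to an object over the chart `i` lie in the open locus `i`. -/
theorem q_of_arr (i : D.ι) (η' : (ofSch (D.Y i)).obj) (ξ : 𝒳.obj)
    (α : G.π.obj ξ ⟶ (ofSpMap ((yon S).map (G.e i))).obj η') : D.Q i ξ := by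
  rw [iff_forall (D.hQ i)]
  intro t
  rw [G.mem_loc_iff]
  have h1 : α.hom ≫ (η'.sec.down ≫ G.e i) = G.cS ξ := congrArg ULift.down α.map_sec
  have h2 : (α.hom.left ≫ η'.sec.down.left) ≫ (G.e i).left = G.c ξ := by
    rw [Category.assoc]
    exact congrArg (fun k : 𝒳.p.obj ξ ⟶ G.Y₀ => k.left) h1
  exact ⟨(α.hom.left ≫ η'.sec.down.left) t, congrArg (fun k : sch 𝒳 ξ ⟶ G.Y₀.left => k t) h2⟩

/-- The square over a chart. -/
noncomputable def cart (i : D.ι) : Cart₀ G.π (D.φ i) (subIncl 𝒳 (D.Q i)) (ofSpMap ((yon S).map (G.e i))) where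
  iso := eqToIso (G.comp_subIncl i)
  afull := inferInstanceAs (ObjectProperty.ι (D.Q i)).Full
  afaith := inferInstanceAs (ObjectProperty.ι (D.Q i)).Faithful
  cfull := full_ofSchMap (G.e i)
  cfaith := faithful_ofSchMap (G.e i)
  lift x y' e he := ⟨⟨x, G.q_of_arr i y' x e.inv⟩, Iso.refl _, IsVert.id _⟩

end GMDat.Glued

section Main

variable {𝒳 : AlgSt.Cat S} {D : GMDat 𝒳} (G : D.Glued)

local notation "Alg" => AlgSt.IsAlgStack Scheme.fppfPrecoverage

namespace GMDat.Glued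

theorem locFac : LocFac (𝒴 := ofSch G.Y₀) (𝒴' := fun i => ofSch (D.Y i))
    (fun i => ofSpMap ((yon S).map (G.e i))) := by
  intro T y t
  let w₀ : Over T := Over.mk (𝟙 T)
  let r : T ⟶ G.Y₀ := zm y w₀
  obtain ⟨i, z, hz⟩ := G.surj (r.left t)
  refine ⟨i, r.left ⁻¹ᵁ (G.e i).left.opensRange, ⟨z, hz⟩, fun w hw => ?_⟩
  have h1 : w.hom ≫ r = zm y w := map_zm y (ξ' := w) (ξ := w₀) (Over.homMk w.hom (Category.comp_id _))
  have hr : Set.range (zm y w).left ⊆ Set.range (G.e i).left := by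
    rw [← h1]
    rintro _ ⟨s, rfl⟩
    exact hw ⟨s, rfl⟩
  let l : w.left.left ⟶ (D.Y i).left := IsOpenImmersion.lift (G.e i).left (zm y w).left hr
  have hl : l ≫ (G.e i).left = (zm y w).left := IsOpenImmersion.lift_fac _ _ _
  let l' : w.left ⟶ D.Y i := Over.homMk l (by
    rw [← Over.w (G.e i), ← Category.assoc, hl]
    exact Over.w (zm y w))
  have hl' : l' ≫ G.e i = zm y w := Over.OverMorphism.ext hl
  let y'' : (ofSch (D.Y i)).obj := ⟨w.left, ⟨l'⟩⟩
  have e : (ofSpMap ((yon S).map (G.e i))).obj y'' = y.obj w := by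
    refine obj_ext (T := w.left) rfl (y.w_obj w) ?_
    change 𝟙 _ ≫ (l' ≫ G.e i) = _
    rw [Category.id_comp, hl']
    rfl
  exact ⟨y'', eqToIso e, IsVert.eqToHom e⟩

variable (h𝒳 : Alg 𝒳) (hA : ∀ i, Alg (fullSub 𝒳 (D.Q i)))

include h𝒳 hA in
theorem isQuasiCompactMor (hq : ∀ i, AlgSt.IsQuasiCompactMor Scheme.fppfPrecoverage (D.φ i)) :
    AlgSt.IsQuasiCompactMor Scheme.fppfPrecoverage G.π :=
  isQuasiCompactMor_of_loc (𝒳' := fun i => fullSub 𝒳 (D.Q i)) (𝒴' := fun i => ofSch (D.Y i)) h𝒳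
    (K740.SpDM.isAlgStack_ofSp (IsAlgSpace.yon_obj _)) hA
    (fun i => K740.SpDM.isAlgStack_ofSp (IsAlgSpace.yon_obj _)) G.cart G.locFac hq

include h𝒳 hA in
theorem isQuasiSeparatedMor (hq : ∀ i, AlgSt.IsQuasiSeparatedMor (D.φ i)) : AlgSt.IsQuasiSeparatedMor G.π :=
  isQuasiSeparatedMor_of_loc (𝒳' := fun i => fullSub 𝒳 (D.Q i)) (𝒴' := fun i => ofSch (D.Y i)) h𝒳
    (K740.SpDM.isAlgStack_ofSp (IsAlgSpace.yon_obj _)) hA
    (fun i => K740.SpDM.isAlgStack_ofSp (IsAlgSpace.yon_obj _)) G.cart G.locFac hq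

/-- The étale morphism under an object. -/
theorem toMap_sch {Z : Over S} (m : (ofSch Z).obj) : SpGeo.toMap m = (yon S).map m.sec.down := by
  apply (J S).uliftYonedaEquiv.injective
  rw [K906.SpGeo.toMap, Equiv.apply_symm_apply]
  apply ULift.ext
  change m.sec.down = 𝟙 m.base ≫ m.sec.down
  rw [Category.id_comp]

theorem isEt_iff {Z : Over S} (m : (ofSch Z).obj) : SpGeo.IsEt m ↔ Etale m.sec.down.left := by
  unfold SpGeo.IsEt
  rw [toMap_sch]
  exact repWith_yon_map_iff @Etale _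

/-- Near every point an étale object lies over a chart. -/
theorem exists_hit {m : (ofSch G.Y₀).obj} (hm : SpGeo.IsEt m) (x : ↥m.base.left) :
    ∃ (i : D.ι) (η' : (ofSch (D.Y i)).obj) (g : (ofSpMap ((yon S).map (G.e i))).obj η' ⟶ m),
      K906.FlatLoc.Hits (𝒴 := ofSch G.Y₀) g x ∧ SpGeo.IsEt η' ∧ IsAffine η'.base.left := by
  let r : m.base.left ⟶ G.Y₀.left := m.sec.down.left
  have hr : Etale r := (isEt_iff m).1 hm
  obtain ⟨i, z, hz⟩ := G.surj (r x)
  obtain ⟨_, ⟨U', hU', rfl⟩, hxU, hUU⟩ := m.base.left.isBasis_affineOpens.exists_subset_of_mem_open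
    (show x ∈ ((r ⁻¹ᵁ (G.e i).left.opensRange : m.base.left.Opens) : Set ↥m.base.left) from ⟨z, hz⟩)
    (r ⁻¹ᵁ (G.e i).left.opensRange).isOpen
  let U : m.base.left.Opens := U'
  have hUa : IsAffine U := hU'
  have hrr : Set.range (U.ι ≫ r) ⊆ Set.range (G.e i).left := by
    rintro _ ⟨s, rfl⟩
    exact hUU s.2
  let l : (U : Scheme.{u}) ⟶ (D.Y i).left := IsOpenImmersion.lift (G.e i).left (U.ι ≫ r) hrr
  have hl : l ≫ (G.e i).left = U.ι ≫ r := IsOpenImmersion.lift_fac _ _ _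
  let l' : Over.mk (U.ι ≫ m.base.hom) ⟶ D.Y i := Over.homMk l (by
    rw [← Over.w (G.e i), ← Category.assoc, hl, Category.assoc]
    change U.ι ≫ r ≫ G.Y₀.hom = U.ι ≫ m.base.hom
    congr 1
    exact Over.w m.sec.down)
  let η' : (ofSch (D.Y i)).obj := ⟨Over.mk (U.ι ≫ m.base.hom), ⟨l'⟩⟩
  let g : (ofSpMap ((yon S).map (G.e i))).obj η' ⟶ m := ⟨Over.homMk U.ι rfl, by
    apply ULift.ext
    change (Over.homMk U.ι rfl : Over.mk (U.ι ≫ m.base.hom) ⟶ m.base) ≫ m.sec.down = l' ≫ G.e i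
    apply Over.OverMorphism.ext
    exact hl.symm⟩
  have hle : Etale l := by
    have : Etale (l ≫ (G.e i).left) := by
      rw [hl]
      infer_instance
    exact Etale.of_comp l (G.e i).left
  refine ⟨i, η', g, ⟨hUa, inferInstanceAs (Flat U.ι), ?_⟩, (isEt_iff η').2 hle, hUa⟩
  change x ∈ Set.range U.ι
  rw [Scheme.Opens.range_ι]
  exact hxU

include h𝒳 hA in
/-- The glued map is a good moduli space. -/
theorem isGoodModuli (hqc : ∀ i, AlgSt.IsQuasiCompactMor Scheme.fppfPrecoverage (D.φ i))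
    (hqs : ∀ i, AlgSt.IsQuasiSeparatedMor (D.φ i)) (hG : ∀ i, IsGoodModuli (D.φ i)) : IsGoodModuli G.π := by
  have h1 := G.isQuasiCompactMor h𝒳 hA hqc
  have h2 := G.isQuasiSeparatedMor h𝒳 hA hqs
  have hf : FibCat.IsFibGrpd (ofSch G.Y₀).p := Stk.isFibGrpd_ofPsh _
  have hP : ∀ η : (ofSch G.Y₀).obj, IsAffine (sch (ofSch G.Y₀) η) → Nonempty (Pres (fibCat G.π η)) := fun η hη =>
    K906.nonempty_pres h𝒳.isStack.1 hf (fun T => K742.QC.isAlgStack_overCat T) h1 h2 hη
  constructor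
  · intro A B u hu E hE
    have hE1 : IsAffine (sch (ofSch G.Y₀) (etaOf E)) := hE
    obtain ⟨P⟩ := hP (etaOf E) hE1
    refine K906.FlatLoc.surjective_relSectMap_of_flat_local h𝒳.isStack.1 hf hE1 P u.hom fun x => ?_
    obtain ⟨i, η', g, hg, he, ha⟩ := G.exists_hit (SpGeo.isEt_etaOf E) x
    refine ⟨_, g, hg, surjective_relSectMap_of_sub (eqToIso (G.comp_subIncl i)) (fun ξ α => G.q_of_arr i η' ξ α)
      (full_ofSchMap (G.e i)) (faithful_ofSchMap (G.e i)) u.hom ?_⟩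
    obtain ⟨E', rfl⟩ := SpGeo.exists_etaOf he
    exact (hG i).1 (F := subQ (D.Q i) A) (G := subQ (D.Q i) B) ⟨subHom (D.Q i) u.hom⟩
      (isSurj_subHom (D.Q i) u.hom hu) E' ha
  · intro E
    refine K906.UnitLoc.bijective_unitSect_of_charts h𝒳.isStack.1 hf fun η₁ k hη₁ hk => ?_
    have he₁ : SpGeo.IsEt η₁ := SpGeo.isEt_of_hom (SpGeo.isEt_etaOf E) k (by
      have : IsOpenImmersion k.hom.left := hk
      infer_instance)
    obtain ⟨P⟩ := hP η₁ hη₁
    refine K906.FlatLoc.bijective_unitSect_of_flat_local h𝒳.isStack.1 hf hη₁ P fun x => ?_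
    obtain ⟨i, η', g, hg, he, ha⟩ := G.exists_hit he₁ x
    refine ⟨_, g, hg, bijective_unitSect_of_sub (eqToIso (G.comp_subIncl i)) (fun ξ α => G.q_of_arr i η' ξ α)
      (full_ofSchMap (G.e i)) (faithful_ofSchMap (G.e i)) ?_⟩
    obtain ⟨E', rfl⟩ := SpGeo.exists_etaOf he
    exact (hG i).2 E'

end GMDat.Glued

end Main

end K864.Glu
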