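import Groth.Agent.AlgSt.K742.QC2
import Groth.Agent.AlgSt.K734.FibFp2
import Groth.Agent.AlgSt.K740.SpIso
import Groth.Agent.AlgSt.K739.Alg
import Groth.Agent.CurvSt.K899.OpenCrit
import Groth.Agent.AlgSt.K738.RepSep

/-!
# Quasi-compactness and quasi-separatedness are local on the target in the Zariski sense

* `Cart₀ f f' a c` : the square `a ⋙ f ≅ f' ⋙ c` has fully faithful `a`, `c` and is cartesian on objects;
* `Cart₀.diag` : the same for the diagonals;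
* `LocFac c` : every `overCat T ⥤ᵇ 𝒴` factors locally on `T` through some `c i`;
* `isQuasiCompactMor_of_loc`, `isQuasiSeparatedMor_of_loc`.
-/

set_option autoImplicit false
set_option linter.unusedVariables false
set_option backward.isDefEq.respectTransparency false
set_option backward.isDefEq.respectTransparency.types false

universe v₇ u₇ v₆ u₆ v₅ u₅ v₄ u₄ v₃ u₃ v₂ u₂ v u

open CategoryTheory CategoryTheory.Limits AlgebraicGeometry Opposite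

namespace K864.LocCart

open K734.Fib

section Gen

variable {C : Type u} [Category.{v} C]
variable {𝒳 : BasedCategory.{v₂, u₂} C} {𝒴 : BasedCategory.{v₃, u₃} C}
variable {𝒳' : BasedCategory.{v₅, u₅} C} {𝒴' : BasedCategory.{v₆, u₆} C}

/-- A square with fully faithful `a`, `c`, cartesian on objects. -/
structure Cart₀ (f : 𝒳 ⥤ᵇ 𝒴) (f' : 𝒳' ⥤ᵇ 𝒴') (a : 𝒳' ⥤ᵇ 𝒳) (c : 𝒴' ⥤ᵇ 𝒴) where
  /-- the square commutes -/
  iso : BasedFunctor.comp a f ≅ BasedFunctor.comp f' c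
  afull : a.toFunctor.Full
  afaith : a.toFunctor.Faithful
  cfull : c.toFunctor.Full
  cfaith : c.toFunctor.Faithful
  lift : ∀ (x : 𝒳.obj) (y' : 𝒴'.obj) (e : c.obj y' ≅ f.obj x), IsVert 𝒴 e.hom →
    ∃ (x' : 𝒳'.obj) (e' : a.obj x' ≅ x), IsVert 𝒳 e'.hom

variable {f : 𝒳 ⥤ᵇ 𝒴} {f' : 𝒳' ⥤ᵇ 𝒴'} {a : 𝒳' ⥤ᵇ 𝒳} {c : 𝒴' ⥤ᵇ 𝒴}

/-- The functor between the self products. -/
def Cart₀.prod (h : Cart₀ f f' a c) : FibCat.fp f' f' ⥤ᵇ FibCat.fp f f := fpMap a a c h.iso h.iso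

/-- The square of the diagonals. -/
def Cart₀.diag (h : Cart₀ f f' a c) : Cart₀ (FibCat.diag f) (FibCat.diag f') a h.prod where
  iso := liftExt (Iso.refl _) (Iso.refl _) (fun x => by
    have e1 : ((BasedFunctor.comp a (FibCat.diag f)).obj x).obj.iso.hom = 𝟙 _ := rfl
    have e2 : ((BasedFunctor.comp (FibCat.diag f') h.prod).obj x).obj.iso.hom = 𝟙 _ := by
      change ((fpMap a a c h.iso h.iso).obj ((FibCat.diag f').obj x)).obj.iso.hom = _
      rw [fpMap_obj_iso]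
      have e3 : ((FibCat.diag f').obj x).obj.iso = Iso.refl _ := rfl
      rw [e3]
      change (app h.iso x).hom ≫ c.map (𝟙 _) ≫ (app h.iso x).inv = _
      rw [CategoryTheory.Functor.map_id]
      erw [Category.id_comp]
      exact Iso.hom_inv_id _
    rw [e1, e2]
    erw [Category.comp_id, Category.id_comp]
    rfl)
  afull := h.afull
  afaith := h.afaith
  cfull := full_fpMap a a c h.iso h.iso h.afull h.afull h.cfaith
  cfaith := faithful_fpMap a a c h.iso h.iso h.afaith h.afaith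
  lift x y' e he := ⟨y'.obj.fst, (FibCat.fpFst f f).mapIso e, vert_fp_iff_fst.1 he⟩

end Gen

section Fact

variable {S : Scheme.{u}}
variable {𝒴 : BasedCategory.{v₃, u₃} (Over S)} {𝒴' : BasedCategory.{v₆, u₆} (Over S)}
  {𝒜 : BasedCategory.{v₂, u₂} (Over S)}

/-- Factorization through a fully faithful functor. -/
theorem exists_lift_ff (c : 𝒴' ⥤ᵇ 𝒴) (hc : c.toFunctor.Full) (hc' : c.toFunctor.Faithful) (G : 𝒜 ⥤ᵇ 𝒴)
    (h : ∀ a, ∃ (y' : 𝒴'.obj) (e : c.obj y' ≅ G.obj a), IsVert 𝒴 e.hom) :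
    ∃ G' : 𝒜 ⥤ᵇ 𝒴', Nonempty (BasedFunctor.comp G' c ≅ G) := by
  let Q : 𝒴.obj → Prop := fun y => ∃ (y' : 𝒴'.obj) (e : c.obj y' ≅ y), IsVert 𝒴 e.hom
  let c₁ : 𝒴' ⥤ᵇ AlgSt.fullSub 𝒴 Q := K899.OpenCrit.liftSub Q c fun y' => ⟨y', Iso.refl _, IsVert.id _⟩
  have hc₁ : c₁.toFunctor.Full := ⟨fun {x y} f => by
    obtain ⟨g, hg⟩ := c.toFunctor.map_surjective f.hom
    exact ⟨g, ObjectProperty.hom_ext _ hg⟩⟩
  have hc₁' : c₁.toFunctor.Faithful := ⟨fun {x y f g} h =>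
    c.toFunctor.map_injective (congrArg (fun k => k.hom) h)⟩
  have hs : EssSurjOver c₁ := by
    rintro ⟨y, y', e, he⟩
    refine ⟨y', ⟨ObjectProperty.homMk e.hom, ObjectProperty.homMk e.inv, ObjectProperty.hom_ext _ e.hom_inv_id,
      ObjectProperty.hom_ext _ e.inv_hom_id⟩, ?_⟩
    exact IsVert.of_map (AlgSt.subIncl 𝒴 Q) he
  have hE : FibCat.IsEquivOver c₁ := isEquivOver_of hc₁ hc₁' hs
  obtain ⟨G₀, -, -, ⟨β⟩⟩ := exists_inverse hE
  refine ⟨BasedFunctor.comp (K899.OpenCrit.liftSub Q G h) G₀, ⟨?_⟩⟩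
  exact (wr (wl (K899.OpenCrit.liftSub Q G h) β) (AlgSt.subIncl 𝒴 Q) : _)

end Fact

section QC

variable {S : Scheme.{u}} {𝒳 𝒴 : AlgSt.Cat S} {ι : Type*} {𝒳' 𝒴' : ι → AlgSt.Cat S}

local notation "Alg" => AlgSt.IsAlgStack Scheme.fppfPrecoverage

/-- Every `overCat T ⥤ᵇ 𝒴` factors locally on `T` through some `c i`. -/
def LocFac (c : ∀ i, 𝒴' i ⥤ᵇ 𝒴) : Prop :=
  ∀ (T : Over S) (y : FibCat.overCat T ⥤ᵇ 𝒴) (t : T.left), ∃ (i : ι) (U : T.left.Opens), t ∈ U ∧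
    ∀ w : Over T, Set.range w.hom.left ⊆ (U : Set T.left) →
      ∃ (y'' : (𝒴' i).obj) (e : (c i).obj y'' ≅ y.obj w), IsVert 𝒴 e.hom

variable {f : 𝒳 ⥤ᵇ 𝒴} {f' : ∀ i, 𝒳' i ⥤ᵇ 𝒴' i} {a : ∀ i, 𝒳' i ⥤ᵇ 𝒳} {c : ∀ i, 𝒴' i ⥤ᵇ 𝒴}

theorem LocFac.diag (h : LocFac c) (H : ∀ i, Cart₀ f (f' i) (a i) (c i)) : LocFac (fun i => (H i).prod) := by
  intro T y t
  obtain ⟨i, U, htU, hU⟩ := h T (BasedFunctor.comp (BasedFunctor.comp y (FibCat.fpFst f f)) f) t
  refine ⟨i, U, htU, fun w hw => ?_⟩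
  obtain ⟨y'', e, he⟩ := hU w hw
  let z := y.obj w
  have hz : IsVert 𝒴 z.obj.iso.hom := iso_vert z
  let e₁ : (c i).obj y'' ≅ f.obj z.obj.fst := e
  have he₁ : IsVert 𝒴 e₁.hom := he
  obtain ⟨x₁, d₁, hd₁⟩ := (H i).lift z.obj.fst y'' e₁ he₁
  obtain ⟨x₂, d₂, hd₂⟩ := (H i).lift z.obj.snd y'' (e₁ ≪≫ z.obj.iso) (he₁.comp hz)
  have hcf := (H i).cfull
  have hcf' := (H i).cfaith
  let j : (c i).obj ((f' i).obj x₁) ≅ (c i).obj ((f' i).obj x₂) :=
    (app (H i).iso x₁).symm ≪≫ f.mapIso d₁ ≪≫ z.obj.iso ≪≫ (f.mapIso d₂).symm ≪≫ app (H i).iso x₂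
  have hj : IsVert 𝒴 j.hom :=
    (app_vert (H i).iso x₁).inv.comp ((hd₁.map f).comp (hz.comp
      ((IsVert.inv (e := f.mapIso d₂) (hd₂.map f)).comp (app_vert (H i).iso x₂))))
  let j' : (f' i).obj x₁ ≅ (f' i).obj x₂ := (c i).toFunctor.preimageIso j
  have hj0 : (c i).map j'.hom = j.hom := Functor.map_preimage _ _
  have hj' : IsVert (𝒴' i) j'.hom := by
    refine IsVert.of_map (c i) ?_
    rw [hj0]; exact hj
  refine ⟨mkObj x₁ x₂ j' hj', mkIsoFp d₁ d₂ ?_, vert_fp_iff_fst.2 hd₁⟩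
  have e0 := fpMap_obj_iso (a i) (a i) (c i) (H i).iso (H i).iso (mkObj x₁ x₂ j' hj')
  change f.map d₁.hom ≫ z.obj.iso.hom =
    (((fpMap (a i) (a i) (c i) (H i).iso (H i).iso).obj (mkObj x₁ x₂ j' hj')).obj.iso : _ ≅ _).hom ≫ f.map d₂.hom
  rw [e0]
  simp only [mkObj_fst, mkObj_snd, mkObj_iso, Iso.trans_hom, Iso.symm_hom, Functor.mapIso_hom]
  erw [hj0]
  simp only [j, Iso.trans_hom, Iso.symm_hom, Functor.mapIso_hom, Category.assoc, Functor.mapIso_inv]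
  erw [Iso.hom_inv_id_assoc, Iso.hom_inv_id_assoc, ← Functor.map_comp, Iso.inv_hom_id, CategoryTheory.Functor.map_id,
    Category.comp_id]

/-- One chart. -/
theorem isQuasiCompact_fp {𝒳 𝒴 𝒳' 𝒴' : AlgSt.Cat S} (h𝒳 : Alg 𝒳) (h𝒴 : Alg 𝒴) (h𝒳' : Alg 𝒳') (h𝒴' : Alg 𝒴')
    {f : 𝒳 ⥤ᵇ 𝒴} {f' : 𝒳' ⥤ᵇ 𝒴'} {a : 𝒳' ⥤ᵇ 𝒳} {c : 𝒴' ⥤ᵇ 𝒴} (H : Cart₀ f f' a c) {T : Over S}
    (y : FibCat.overCat T ⥤ᵇ 𝒴) (y' : FibCat.overCat T ⥤ᵇ 𝒴') (α : BasedFunctor.comp y' c ≅ y)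
    (h : AlgSt.IsQuasiCompact (FibCat.fp y' f')) : AlgSt.IsQuasiCompact (FibCat.fp y f) := by
  have hT := K742.QC.isAlgStack_overCat T
  refine K742.QCTop.isQuasiCompact_of_isSurjective (K742.QC.isAlgStack_fp hT h𝒳' h𝒴' _ _)
    (K742.QC.isAlgStack_fp hT h𝒳 h𝒴 _ _) (fpMap (BasedFunctor.id _) a c α.symm H.iso) ?_ h
  refine K742.Pt.EssSurjOver.isSurjective fun z => ?_
  have hz : IsVert 𝒴 z.obj.iso.hom := iso_vert z
  obtain ⟨x', d, hd⟩ := H.lift z.obj.snd (y'.obj z.obj.fst) (app α z.obj.fst ≪≫ z.obj.iso)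
    ((app_vert α z.obj.fst).comp hz)
  have hcf := H.cfull
  have hcf' := H.cfaith
  let j : c.obj (y'.obj z.obj.fst) ≅ c.obj (f'.obj x') :=
    app α z.obj.fst ≪≫ z.obj.iso ≪≫ (f.mapIso d).symm ≪≫ app H.iso x'
  have hj : IsVert 𝒴 j.hom := (app_vert α z.obj.fst).comp (hz.comp
      ((IsVert.inv (e := f.mapIso d) (hd.map f)).comp (app_vert H.iso x')))
  let j' : y'.obj z.obj.fst ≅ f'.obj x' := c.toFunctor.preimageIso j
  have hj0 : c.map j'.hom = j.hom := Functor.map_preimage _ _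
  have hj' : IsVert 𝒴' j'.hom := by
    refine IsVert.of_map c ?_
    rw [hj0]; exact hj
  refine ⟨mkObj z.obj.fst x' j' hj', rfl, ⟨mkHomFp (𝟙 _) d.hom ?_⟩⟩
  have e0 := fpMap_obj_iso (BasedFunctor.id _) a c α.symm H.iso (mkObj z.obj.fst x' j' hj')
  change y.map (𝟙 _) ≫ z.obj.iso.hom =
    (((fpMap (BasedFunctor.id _) a c α.symm H.iso).obj (mkObj z.obj.fst x' j' hj')).obj.iso : _ ≅ _).hom ≫ f.map d.hom
  rw [e0]
  simp only [mkObj_fst, mkObj_snd, mkObj_iso, Iso.trans_hom, Iso.symm_hom, Functor.mapIso_hom]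
  erw [hj0]
  simp only [j, Iso.trans_hom, Iso.symm_hom, Category.assoc, Functor.mapIso_inv]
  have e1 : (app α.symm z.obj.fst).hom ≫ (app α z.obj.fst).hom = 𝟙 _ := (app α z.obj.fst).inv_hom_id
  erw [reassoc_of% e1, Iso.hom_inv_id_assoc, ← Functor.map_comp, Iso.inv_hom_id, CategoryTheory.Functor.map_id, CategoryTheory.Functor.map_id,
    Category.comp_id, Category.id_comp]

/-- The points over an open of the base come from the restriction. -/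
theorem mk_mem_range {𝒳 𝒴 : AlgSt.Cat S} {f : 𝒳 ⥤ᵇ 𝒴} {T T' : Over S} (k : T' ⟶ T) [IsOpenImmersion k.left]
    (y : FibCat.overCat T ⥤ᵇ 𝒴) (q : AlgSt.FPt (FibCat.fp y f))
    (hq : Set.range q.obj.obj.fst.hom.left ⊆ Set.range k.left) :
    AlgSt.Points.mk q ∈ Set.range (AlgSt.Points.map (fpPreL (AlgSt.overMap k) y f)) := by
  let z := q.obj
  let w : Over T := z.obj.fst
  let l : w.left.left ⟶ T'.left := IsOpenImmersion.lift k.left w.hom.left hq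
  have hl : l ≫ k.left = w.hom.left := IsOpenImmersion.lift_fac _ _ _
  let l' : w.left ⟶ T' := Over.homMk l (by
    rw [← Over.w k, ← Category.assoc, hl]
    exact Over.w w.hom)
  have hl' : l' ≫ k = w.hom := Over.OverMorphism.ext hl
  let w' : Over T' := Over.mk l'
  let θ : (AlgSt.overMap k).obj w' ≅ w := Over.isoMk (Iso.refl _) (by
    change 𝟙 _ ≫ w.hom = l' ≫ k
    rw [hl', Category.id_comp])
  have hθ : IsVert (FibCat.overCat T) θ.hom := isVert_iff.2 ⟨rfl, rfl⟩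
  let e : (BasedFunctor.comp (AlgSt.overMap k) y).obj w' ≅ f.obj z.obj.snd := y.mapIso θ ≪≫ z.obj.iso
  have he : IsVert 𝒴 e.hom := (hθ.map y).comp (iso_vert z)
  let z' : (FibCat.fp (BasedFunctor.comp (AlgSt.overMap k) y) f).obj := mkObj w' z.obj.snd e he
  have hz' : (FibCat.fp (BasedFunctor.comp (AlgSt.overMap k) y) f).p.obj z' = (FibCat.fp y f).p.obj z := rfl
  have e0 := fpMap_obj_iso (F := y) (G := f) (F' := BasedFunctor.comp (AlgSt.overMap k) y) (G' := f)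
    (AlgSt.overMap k) (BasedFunctor.id _) (BasedFunctor.id _) (Iso.refl _) (Iso.refl _) z'
  let ψ : (fpPreL (AlgSt.overMap k) y f).obj z' ⟶ z := mkHomFp θ.hom (𝟙 z.obj.snd) (by
    change y.map θ.hom ≫ z.obj.iso.hom = (((fpPreL (AlgSt.overMap k) y f).obj z').obj.iso : _ ≅ _).hom ≫ f.map (𝟙 _)
    unfold fpPreL
    rw [e0]
    simp only [Iso.trans_hom, Iso.symm_hom]
    change _ = (𝟙 _ ≫ e.hom ≫ 𝟙 _) ≫ f.map (𝟙 _)
    rw [CategoryTheory.Functor.map_id]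
    erw [Category.id_comp, Category.comp_id, Category.comp_id]
    rfl)
  refine ⟨AlgSt.Points.mk { K := q.K, str := q.str, obj := z', lies := hz'.trans q.lies }, ?_⟩
  exact AlgSt.Points.sound ⟨AlgSt.FPt.map (fpPreL (AlgSt.overMap k) y f)
    { K := q.K, str := q.str, obj := z', lies := hz'.trans q.lies }, 𝟙 _, ψ, trivial⟩

/-- Quasi-compactness of a morphism is local on the target. -/
theorem isQuasiCompactMor_of_loc (h𝒳 : Alg 𝒳) (h𝒴 : Alg 𝒴) (h𝒳' : ∀ i, Alg (𝒳' i)) (h𝒴' : ∀ i, Alg (𝒴' i))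
    (H : ∀ i, Cart₀ f (f' i) (a i) (c i)) (hc : LocFac c)
    (hq : ∀ i, AlgSt.IsQuasiCompactMor Scheme.fppfPrecoverage (f' i)) :
    AlgSt.IsQuasiCompactMor Scheme.fppfPrecoverage f := by
  refine K742.QC.isQuasiCompactMor_of_affine h𝒳 h𝒴 f fun T hT y => ?_
  have hA := K742.QC.isAlgStack_fp (K742.QC.isAlgStack_overCat T) h𝒳 h𝒴 y f
  refine K742.QCTop.isQuasiCompact_of_compactSpace hA ?_
  have key : ∀ t : T.left, ∃ (U : T.left.Opens), t ∈ U ∧ ∃ K : Set (AlgSt.Points (FibCat.fp y f)), IsCompact K ∧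
      ∀ q : AlgSt.FPt (FibCat.fp y f), Set.range q.obj.obj.fst.hom.left ⊆ U → AlgSt.Points.mk q ∈ K := by
    intro t
    obtain ⟨i, U, htU, hU⟩ := hc T y t
    obtain ⟨_, ⟨U', hU', rfl⟩, htU', hUU⟩ := T.left.isBasis_affineOpens.exists_subset_of_mem_open
      (show t ∈ (U : Set T.left) from htU) U.isOpen
    let V : T.left.Opens := U'
    have hVa : IsAffine V := hU'
    let T' : Over S := Over.mk (V.ι ≫ T.hom)
    let k : T' ⟶ T := Over.homMk V.ι rfl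
    have hk : IsOpenImmersion k.left := inferInstanceAs (IsOpenImmersion V.ι)
    have hcT : CompactSpace T'.left := inferInstanceAs (CompactSpace V)
    obtain ⟨y', ⟨α⟩⟩ := exists_lift_ff (c i) (H i).cfull (H i).cfaith (BasedFunctor.comp (AlgSt.overMap k) y)
      (fun w => hU ((AlgSt.overMap k).obj w) (by
        rintro _ ⟨s, rfl⟩
        exact hUU (w.hom.left s).2))
    have hT' := K742.QC.isAlgStack_overCat T'
    have h1 := hq i _ hT' (K742.QC.isQuasiCompact_overCat T') y'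
    have h2 := isQuasiCompact_fp h𝒳 h𝒴 (h𝒳' i) (h𝒴' i) (H i) _ y' α h1
    have h3 : CompactSpace (AlgSt.Points (FibCat.fp (BasedFunctor.comp (AlgSt.overMap k) y) f)) :=
      K742.QCTop.compactSpace_of_isQuasiCompact (K742.QC.isAlgStack_fp hT' h𝒳 h𝒴 _ _) h2
    refine ⟨V, htU', Set.range (AlgSt.Points.map (fpPreL (AlgSt.overMap k) y f)), isCompact_range
      (K735.Top.continuous_map (K735.Top.chartCont_of_isAlgStack hA) _), fun q hq => mk_mem_range k y q ?_⟩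
    change _ ⊆ Set.range V.ι
    rw [Scheme.Opens.range_ι]
    exact hq
  choose U hU K hK hUK using key
  obtain ⟨s, hs⟩ := (isCompact_univ (X := T.left)).elim_nhds_subcover (fun t => (U t : Set T.left))
    (fun t _ => (U t).isOpen.mem_nhds (hU t))
  have h4 : (Set.univ : Set (AlgSt.Points (FibCat.fp y f))) = ⋃ t ∈ s, K t := by
    refine (Set.eq_univ_of_forall fun x => ?_).symm
    obtain ⟨q, rfl⟩ := AlgSt.Points.mk_surjective x
    have hsub : Subsingleton ↥q.obj.obj.fst.left.left := by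
      have e1 : q.obj.obj.fst.left = Over.mk q.str := q.lies
      rw [e1]
      exact inferInstanceAs (Subsingleton ↥(Spec (CommRingCat.of q.K)))
    have hne : Nonempty ↥q.obj.obj.fst.left.left := by
      have e1 : q.obj.obj.fst.left = Over.mk q.str := q.lies
      rw [e1]
      exact inferInstanceAs (Nonempty ↥(Spec (CommRingCat.of q.K)))
    obtain ⟨p⟩ := hne
    have h5 := hs.2 (Set.mem_univ (q.obj.obj.fst.hom.left p))
    simp only [Set.mem_iUnion] at h5 ⊢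
    obtain ⟨t, ht, h6⟩ := h5
    refine ⟨t, ht, hUK t q ?_⟩
    rintro _ ⟨p', rfl⟩
    rw [Subsingleton.elim p' p]
    exact h6
  exact ⟨by rw [h4]; exact s.isCompact_biUnion fun t _ => hK t⟩

/-- Quasi-separatedness of a morphism is local on the target. -/
theorem isQuasiSeparatedMor_of_loc (h𝒳 : Alg 𝒳) (h𝒴 : Alg 𝒴) (h𝒳' : ∀ i, Alg (𝒳' i)) (h𝒴' : ∀ i, Alg (𝒴' i))
    (H : ∀ i, Cart₀ f (f' i) (a i) (c i)) (hc : LocFac c)
    (hq : ∀ i, AlgSt.IsQuasiSeparatedMor (f' i)) : AlgSt.IsQuasiSeparatedMor f := by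
  have hAf : Alg (FibCat.fp f f) := K742.QC.isAlgStack_fp h𝒳 h𝒳 h𝒴 f f
  have hAf' : ∀ i, Alg (FibCat.fp (f' i) (f' i)) := fun i => K742.QC.isAlgStack_fp (h𝒳' i) (h𝒳' i) (h𝒴' i) _ _
  have hd : AlgSt.RepByAlgSp1 (FibCat.diag f) := K739.Alg.repByAlgSp1_diag_of_isAlgStack h𝒳 h𝒴 f
  have hd' : ∀ i, AlgSt.RepByAlgSp1 (FibCat.diag (f' i)) := fun i =>
    K739.Alg.repByAlgSp1_diag_of_isAlgStack (h𝒳' i) (h𝒴' i) (f' i)
  have hqc : ∀ i, AlgSt.RepByAlgSpWith AlgSp.IsQuasiCompactMor (FibCat.diag (f' i)) := fun i =>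
    K739.Alg.repByAlgSpWith_mono inf_le_left (hq i)
  have hqs : ∀ i, AlgSt.RepByAlgSpWith AlgSp.IsQuasiSeparatedMor (FibCat.diag (f' i)) := fun i =>
    K739.Alg.repByAlgSpWith_mono inf_le_right (hq i)
  have h1 : AlgSt.RepByAlgSpWith AlgSp.IsQuasiCompactMor (FibCat.diag f) := by
    rw [K742.QC.repByAlgSpWith_isQuasiCompactMor_iff h𝒳 hAf _ hd]
    refine isQuasiCompactMor_of_loc h𝒳 hAf h𝒳' hAf' (fun i => (H i).diag) (hc.diag H) fun i => ?_
    rw [← K742.QC.repByAlgSpWith_isQuasiCompactMor_iff (h𝒳' i) (hAf' i) _ (hd' i)]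
    exact hqc i
  have h2 : AlgSt.RepByAlgSpWith AlgSp.IsQuasiSeparatedMor (FibCat.diag f) := by
    have hAd : Alg (FibCat.fp (FibCat.diag f) (FibCat.diag f)) := K742.QC.isAlgStack_fp h𝒳 h𝒳 hAf _ _
    have hAd' : ∀ i, Alg (FibCat.fp (FibCat.diag (f' i)) (FibCat.diag (f' i))) := fun i =>
      K742.QC.isAlgStack_fp (h𝒳' i) (h𝒳' i) (hAf' i) _ _
    have hdd : AlgSt.RepByAlgSp1 (FibCat.diag (FibCat.diag f)) :=
      K739.Alg.repByAlgSp1_diag_of_isAlgStack h𝒳 hAf (FibCat.diag f)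
    have hdd' : ∀ i, AlgSt.RepByAlgSp1 (FibCat.diag (FibCat.diag (f' i))) := fun i =>
      K739.Alg.repByAlgSp1_diag_of_isAlgStack (h𝒳' i) (hAf' i) (FibCat.diag (f' i))
    refine ((K738.tfae_quasiSeparated hd).out 0 1).2 ?_
    rw [K742.QC.repByAlgSpWith_isQuasiCompactMor_iff h𝒳 hAd _ hdd]
    refine isQuasiCompactMor_of_loc h𝒳 hAd h𝒳' hAd' (fun i => (H i).diag.diag) ((hc.diag H).diag fun i => (H i).diag)
      fun i => ?_
    rw [← K742.QC.repByAlgSpWith_isQuasiCompactMor_iff (h𝒳' i) (hAd' i) _ (hdd' i)]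
    exact ((K738.tfae_quasiSeparated (hd' i)).out 0 1).1 (hqs i)
  exact K740.SpIso.repByAlgSpWith_inf h1 h2

end QC

end K864.LocCart
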