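import Groth.Agent.StMod.K864.Step
import Groth.Agent.StMod.K864.ExtFam
import Groth.Agent.StMod.K864.RankOne
import Groth.Agent.StMod.K864.Sep

/-!
# Étale-local sections at a closed point

`p : 𝒱 ⥤ᵇ fibCat π E` representable, étale, separated, quasi-compact, with a function `ν` to an affine scheme embedding the fibres,
`v₀` an object of `𝒱` over an algebraically closed field whose image in `𝒳_E` is a closed point. After an étale localization `p`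
has a section through `v₀`.
-/

set_option autoImplicit false
set_option linter.unusedVariables false
set_option linter.style.haveILetI false
set_option backward.isDefEq.respectTransparency false
set_option backward.isDefEq.respectTransparency.types false

universe v' w' v w u

open CategoryTheory CategoryTheory.Limits AlgebraicGeometry Opposite StMod AlgSt AlgSp

namespace K864.Step

open K862.Rep K862.Lev K862.Move K862.Integ K862.Step1 K908.Aff K907.Disj K907.FibTerm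
  K906 K906.SpGeo K907.Sec K907.Tens K907.GM K907.Atl K907.Pt K907.Closed K864.Lvl K864.Sep K899.OpenCrit

variable {S : Scheme.{u}} {M : Sp S} {𝒳 : BasedCategory.{v, w} (Over S)} {π : 𝒳 ⥤ᵇ ofSp M}

/-- The étale-local section. -/
theorem exists_section (h𝒳 : FibCat.IsFibGrpd 𝒳.p) (hu : UnitIsIso π) (hL : Loc π) (E : EtOver M) (hE : IsAffine E.obj.left.left)
    {𝒱 : BasedCategory.{v', w'} (Over S)} (h𝒱 : FibCat.IsFibGrpd 𝒱.p) (p : 𝒱 ⥤ᵇ fibCat π (etaOf E))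
    (hrep : IsRep (@Etale ⊓ (@IsSeparated ⊓ @QuasiCompact)) p) {T : Scheme.{u}} [IsAffine T]
    (ν : ∀ v : 𝒱.obj, sch 𝒱 v ⟶ T) (hν : ∀ {v' v : 𝒱.obj} (φ : v' ⟶ v), bmap 𝒱 φ ≫ ν v = ν v')
    (hsep : ∀ {y : 𝒱.obj} {ξ : (fibCat π (etaOf E)).obj} {φ : p.obj y ⟶ ξ}, IsTerm p φ → ∀ {W : Scheme.{u}}
      {a b : W ⟶ sch 𝒱 y}, a ≫ str p φ = b ≫ str p φ → a ≫ ν y = b ≫ ν y → a = b)
    {K : Type u} [Field K] [IsAlgClosed K] (v₀ : 𝒱.obj) (κ : sch 𝒱 v₀ ≅ Spec (CommRingCat.of K)) (t₀ : ↥(sch 𝒱 v₀))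
    (hcl : IsCl (isFibGrpd_fibCat h𝒳) {Points.map p (pt h𝒱 v₀ t₀)}) :
    ∃ (E₂ : EtOver M) (_ : IsAffine E₂.obj.left.left) (ω : etaOf E₂ ⟶ etaOf E) (_ : Etale ω.hom.left)
      (β₀ : π.obj (FObj.pt (p.obj v₀)) ⟶ etaOf E₂) (_ : β₀ ≫ ω = FObj.arr (p.obj v₀))
      (c : ∀ ξ : (fibCat π (etaOf E₂)).obj, sch (fibCat π (etaOf E₂)) ξ ⟶ T),
      (∀ {ξ' ξ : (fibCat π (etaOf E₂)).obj} (φ : ξ' ⟶ ξ), bmap (fibCat π (etaOf E₂)) φ ≫ c ξ = c ξ') ∧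
      ∀ ξ : (fibCat π (etaOf E₂)).obj, IsAffine (sch (fibCat π (etaOf E₂)) ξ) →
        ∃ (v : 𝒱.obj) (j : p.obj v ⟶ (fibMap π ω).obj ξ), IsIso (str p j) ∧ str p j ≫ c ξ = ν v := by
  obtain ⟨hex, ⟨P⟩⟩ := hL E hE
  obtain ⟨E₁, hE₁, ω₁, hω₁, R, hR, hF, β₁, hβ₁, y₂, α₂, hα₂, hiso⟩ :=
    exists_cut h𝒳 hu E hE hex P h𝒱 p hrep ν hν hsep v₀ κ t₀ hcl
  obtain ⟨hex₁, ⟨P₁⟩⟩ := hL E₁ hE₁
  have h𝒴₁ : FibCat.IsFibGrpd (fibCat π (etaOf E₁)).p := isFibGrpd_fibCat h𝒳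
  have hu₁ : IsAffine (sch (fibCat π (etaOf E₁)) (⟨_, β₁⟩ : FObj π (etaOf E₁))) :=
    IsAffine.of_isIso ((eqSch p v₀).symm ≪≫ κ).hom
  obtain ⟨a, ha, hall⟩ := K864.RankOne.exists_rank_one hR h𝒴₁ P₁ (fn π E₁) (isFn π E₁ hu) hex₁ (psub (lv ω₁ p) R) hF hu₁
    (y := y₂) α₂ hα₂ hiso
  haveI := hE₁
  obtain ⟨E₂, j, β₂, hE₂, hj, hjr, hβ₂⟩ := exists_moveB E₁ β₁ a ha
  haveI := hj
  have hunit : ∀ ξ : (fibCat π (etaOf E₂)).obj, IsUnit ((fn π E₁).σ ((fibMap π j).obj ξ) a) := by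
    intro ξ
    rw [fn_fibMap]
    have h1 : IsUnit (j.hom.left.appTop a) := (isUnit_appTop_iff j.hom.left a).2 hjr.subset
    exact h1.map ((fn π E₂).σ ξ)
  have huni : ∀ (ξ : (fibCat π (etaOf E₂)).obj) (hξ : IsAffine (sch (fibCat π (etaOf E₂)) ξ)),
      ∃ (y : (fullSub (Lv ω₁ p) R).obj) (α : (psub (lv ω₁ p) R).obj y ⟶ (fibMap π j).obj ξ),
        IsTerm (psub (lv ω₁ p) R) (w := y) α ∧ IsIso (str (psub (lv ω₁ p) R) (y := y) α) := by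
    intro ξ hξ
    obtain ⟨y, α, h1, -⟩ := hF ((fibMap π j).obj ξ) hξ
    exact ⟨y, α, h1, hall ((fibMap π j).obj ξ) hξ (hunit ξ) y α h1⟩
  choose y α hα hαi using huni
  obtain ⟨c, hc1, hc2⟩ := K864.ExtFam.exists_ext_fam (𝒴 := fibCat π (etaOf E₂)) (isFibGrpd_fibCat h𝒳) (T := T)
    (fun ξ hξ => haveI := hαi ξ hξ
      inv (str (psub (lv ω₁ p) R) (y := y ξ hξ) (α ξ hξ)) ≫ ν (FObj.pt (y ξ hξ).obj.obj)) (by
      intro ξ' ξ h' h φ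
      haveI := hαi ξ h
      haveI := hαi ξ' h'
      obtain ⟨χ, hχ⟩ := K862.Rep.exists_hom (p := psub (lv ω₁ p) R) (y' := y ξ' h') (y := y ξ h) ((fibMap π j).map φ)
        (α' := α ξ' h') (hα ξ h)
      have h1 : bmap 𝒱 (FObj.Hom.hom χ.hom.hom) ≫ str (psub (lv ω₁ p) R) (y := y ξ h) (α ξ h) =
          str (psub (lv ω₁ p) R) (y := y ξ' h') (α ξ' h') ≫ bmap 𝒳 φ.hom := by
        refine (str_map (psub (lv ω₁ p) R) χ (α ξ h)).symm.trans ?_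
        rw [hχ, str_comp]
        rfl
      change bmap 𝒳 φ.hom ≫ inv _ ≫ _ = inv _ ≫ _
      rw [IsIso.eq_inv_comp, ← Category.assoc, ← h1, Category.assoc, IsIso.hom_inv_id_assoc, hν])
  refine ⟨E₂, hE₂, j ≫ ω₁, ?_, β₂, ?_, c, hc1, ?_⟩
  · change Etale (j.hom.left ≫ ω₁.hom.left)
    infer_instance
  · rw [← Category.assoc, hβ₂, hβ₁]
  · intro ξ hξ
    haveI := hαi ξ hξ
    have h1 : π.map (α ξ hξ).hom ≫ FObj.arr ξ ≫ j = FObj.arr (y ξ hξ).obj.obj := (α ξ hξ).comm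
    have h2 : FObj.arr (y ξ hξ).obj.obj ≫ ω₁ = FObj.arr (p.obj (FObj.pt (y ξ hξ).obj.obj)) := (y ξ hξ).obj.property
    let jj : p.obj (FObj.pt (y ξ hξ).obj.obj) ⟶ (fibMap π (j ≫ ω₁)).obj ξ := FObj.mkHom (α ξ hξ).hom (by
      change π.map (α ξ hξ).hom ≫ FObj.arr ξ ≫ j ≫ ω₁ = _
      rw [← h2, ← h1, Category.assoc, Category.assoc])
    have h3 : str p jj = str (psub (lv ω₁ p) R) (y := y ξ hξ) (α ξ hξ) := rfl
    refine ⟨_, jj, ?_, ?_⟩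
    · rw [h3]
      infer_instance
    · rw [h3, hc2 ξ hξ]
      exact IsIso.hom_inv_id_assoc _ _

end K864.Step
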