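import Groth.Agent.StMod.K864.Cut

/-!
# Étale localization at a closed point

`p : 𝒱 ⥤ᵇ fibCat π E` representable, étale, separated, quasi-compact, with a function `ν` to an affine scheme embedding the fibres,
`v₀` an object of `𝒱` over an algebraically closed field whose image in `𝒳_E` is a closed point.

* `exists_cut` : after an étale localization a part of `p` is finite étale and an isomorphism over `p v₀`.
-/

set_option autoImplicit false
set_option linter.unusedVariables false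
set_option linter.style.haveILetI false
set_option backward.isDefEq.respectTransparency false
set_option backward.isDefEq.respectTransparency.types false

universe v' w' v w u

open CategoryTheory CategoryTheory.Limits AlgebraicGeometry Opposite StMod AlgSt AlgSp Polynomial TensorProduct

namespace K864.Step

open K862.Rep K862.PushO K862.Over K862.FunC K862.Integ K862.Lev K862.Move K862.FinIdem K862.Step1 K908.Aff K907.Disj K907.FibTerm
  K906 K906.SpGeo K907.Sec K907.Tens K907.GM K907.Atl K907.Pt K907.Closed K864.GFun K864.SepAlg K864.Lvl K864.Cut K899.OpenCrit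

variable {S : Scheme.{u}} {M : Sp S} {𝒳 : BasedCategory.{v, w} (Over S)} {π : 𝒳 ⥤ᵇ ofSp M}

/-- The global functions of the spectrum of a field. -/
noncomputable def kk (K : Type u) [Field K] : Γ(Spec (CommRingCat.of K), ⊤) ≃+* K :=
  (Scheme.ΓSpecIso (CommRingCat.of K)).commRingCatIsoToRingEquiv

/-- The étale localization. -/
theorem exists_cut (h𝒳 : FibCat.IsFibGrpd 𝒳.p) (hu : UnitIsIso π) (E : EtOver M) (hE : IsAffine E.obj.left.left)
    (hex : K907.Free.Exact (fibCat π (etaOf E))) (P : Pres (fibCat π (etaOf E)))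
    {𝒱 : BasedCategory.{v', w'} (Over S)} (h𝒱 : FibCat.IsFibGrpd 𝒱.p) (p : 𝒱 ⥤ᵇ fibCat π (etaOf E))
    (hrep : IsRep (@Etale ⊓ (@IsSeparated ⊓ @QuasiCompact)) p) {T : Scheme.{u}} [IsAffine T]
    (ν : ∀ v : 𝒱.obj, sch 𝒱 v ⟶ T) (hν : ∀ {v' v : 𝒱.obj} (φ : v' ⟶ v), bmap 𝒱 φ ≫ ν v = ν v')
    (hsep : ∀ {y : 𝒱.obj} {ξ : (fibCat π (etaOf E)).obj} {φ : p.obj y ⟶ ξ}, IsTerm p φ → ∀ {W : Scheme.{u}}
      {a b : W ⟶ sch 𝒱 y}, a ≫ str p φ = b ≫ str p φ → a ≫ ν y = b ≫ ν y → a = b)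
    {K : Type u} [Field K] [IsAlgClosed K] (v₀ : 𝒱.obj) (κ : sch 𝒱 v₀ ≅ Spec (CommRingCat.of K)) (t₀ : ↥(sch 𝒱 v₀))
    (hcl : IsCl (isFibGrpd_fibCat h𝒳) {Points.map p (pt h𝒱 v₀ t₀)}) :
    ∃ (E₁ : EtOver M) (_ : IsAffine E₁.obj.left.left) (ω : etaOf E₁ ⟶ etaOf E) (_ : Etale ω.hom.left)
      (R : (Lv ω p).obj → Prop) (_ : FibCat.IsFibGrpd (fullSub (Lv ω p) R).p)
      (_ : IsRep (@IsFinite ⊓ @Etale) (psub (lv ω p) R)) (β₀ : π.obj (FObj.pt (p.obj v₀)) ⟶ etaOf E₁)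
      (_ : β₀ ≫ ω = FObj.arr (p.obj v₀)) (y₂ : (fullSub (Lv ω p) R).obj)
      (α₂ : (psub (lv ω p) R).obj y₂ ⟶ (⟨_, β₀⟩ : FObj π (etaOf E₁))),
      IsTerm (psub (lv ω p) R) (w := y₂) α₂ ∧ IsIso (str (psub (lv ω p) R) (y := y₂) α₂) := by
  have h𝒴 : FibCat.IsFibGrpd (fibCat π (etaOf E)).p := isFibGrpd_fibCat h𝒳
  let u : (fibCat π (etaOf E)).obj := p.obj v₀
  let κu : sch (fibCat π (etaOf E)) u ≅ Spec (CommRingCat.of K) := (eqSch p v₀).symm ≪≫ κ
  have huaff : IsAffine (sch (fibCat π (etaOf E)) u) := IsAffine.of_isIso κu.hom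
  have hv₀aff : IsAffine (sch 𝒱 v₀) := IsAffine.of_isIso κ.hom
  obtain ⟨y, α, hα, hαe⟩ := hrep u huaff
  have hα1 : Etale (str p α) := hαe.1
  have hα2 : QuasiCompact (str p α) := hαe.2.2
  obtain ⟨χ₀, hχ₀⟩ := exists_hom (𝟙 u) (α' := 𝟙 (p.obj v₀)) hα
  have hχ₀s : bmap 𝒱 χ₀ ≫ str p α = (eqSch p v₀).hom := by
    rw [← str_map, hχ₀]
    have : (𝟙 (p.obj v₀)) ≫ (𝟙 u) = 𝟙 (p.obj v₀) := Category.comp_id _
    rw [this, str_id]
  let i : sch 𝒱 y ⟶ Spec (CommRingCat.of K) := str p α ≫ κu.hom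
  let s₀ : Spec (CommRingCat.of K) ⟶ sch 𝒱 y := κ.inv ≫ bmap 𝒱 χ₀
  have hs₀ : s₀ ≫ i = 𝟙 _ := by
    change (κ.inv ≫ bmap 𝒱 χ₀) ≫ str p α ≫ (eqSch p v₀).inv ≫ κ.hom = 𝟙 _
    rw [Category.assoc, ← Category.assoc (bmap 𝒱 χ₀), hχ₀s, Iso.hom_inv_id_assoc, Iso.inv_hom_id]
  have hfin : Finite {s : Spec (CommRingCat.of K) ⟶ sch 𝒱 y // s ≫ i = 𝟙 _} := by
    haveI : LocallyQuasiFinite i := by
      haveI : Etale i := inferInstance
      exact Groth.Agent.Desc.LQF.of_etale i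
    exact K864.SchLem.finite_sections i
  obtain ⟨m, ⟨eqv⟩⟩ := Finite.exists_equiv_fin {s : Spec (CommRingCat.of K) ⟶ sch 𝒱 y // s ≫ i = 𝟙 _}
  let fam : Fin (m + 1) → {s : Spec (CommRingCat.of K) ⟶ sch 𝒱 y // s ≫ i = 𝟙 _} :=
    Fin.cons ⟨s₀, hs₀⟩ (fun k => eqv.symm k)
  have hfam0 : (fam 0).1 = s₀ := rfl
  have hfam : ∀ s : {s : Spec (CommRingCat.of K) ⟶ sch 𝒱 y // s ≫ i = 𝟙 _}, ∃ k, fam k = s := fun s =>
    ⟨(eqv s).succ, by simp [fam]⟩
  have hsκ : ∀ {s : Spec (CommRingCat.of K) ⟶ sch 𝒱 y}, s ≫ i = 𝟙 _ → s ≫ str p α = κu.inv := by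
    intro s hs
    rw [← cancel_mono κu.hom, Category.assoc, Iso.inv_hom_id]
    exact hs
  -- the function `c`
  have hp : IsRep QfSep p := hrep.mono qfSep_of_etale
  obtain ⟨ch⟩ := nonempty_ch hp
  obtain ⟨cs, hc1, hc2⟩ := exists_fun h𝒴 h𝒱 ch {pt h𝒱 v₀ t₀} hp P hex hcl (by
    rintro d rfl
    rfl)
  haveI := P.affζ
  obtain ⟨B, _, _, hBint, ev, hev, hevA, ⟨c, hc⟩, hext⟩ := exists_ring (A₀ := AE E) h𝒴 h𝒱 hp P hex (fn π E) (isFn π E hu) ch cs hc1
  let kv : Γ(sch 𝒱 v₀, ⊤) ≃+* K := (Scheme.Γ.mapIso κ.op.symm).commRingCatIsoToRingEquiv.trans (kk K)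
  have hkv : ∀ a, kv a = kk K (κ.inv.appTop a) := fun a => rfl
  have hcv₀ : kk K (s₀.appTop (ev y c)) ≠ 0 := by
    intro h0
    have h1 : vO cs v₀ = 0 := by
      apply kv.injective
      rw [map_zero, hkv, ← hc, ← hev χ₀, ← appTop_comp]
      exact h0
    have h2 := one_sub_mem h𝒴 h𝒱 P (ch.term P.ζ P.affζ) {pt h𝒱 v₀ t₀} (oneSec _ - cs) (by
      intro v hv
      rw [mem_N_iff] at hc2
      obtain ⟨g₂, hg₂, hg₂'⟩ := hc2
      have h3 := hg₂' _ ⟨v, hv, rfl⟩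
      rw [K563.NormFun.toSpecΓ_apply, hg₂] at h3
      exact h3) v₀ hv₀aff t₀ rfl
    rw [vO_sub, h1, sub_zero] at h2
    exact (((sch 𝒱 v₀).toSpecΓ t₀).isPrime.ne_top ((Ideal.eq_top_iff_one _).2 h2))
  -- the characters
  let chi : (Spec (CommRingCat.of K) ⟶ sch 𝒱 y) → (B →+* K) := fun s => (kk K).toRingHom.comp (s.appTop.hom.comp (ev y))
  have hchi : ∀ s b, chi s b = kk K (s.appTop (ev y b)) := fun s b => rfl
  let ι : AE E →+* K := (kk K).toRingHom.comp (κu.inv.appTop.hom.comp ((fn π E).σ u))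
  have hι : ∀ k, (chi (fam k).1).comp (algebraMap (AE E) B) = ι := by
    intro k
    ext a
    change kk K ((fam k).1.appTop (ev y (algebraMap (AE E) B a))) = kk K (κu.inv.appTop ((fn π E).σ u a))
    have h1 : ev y (algebraMap (AE E) B a) = (str p α).appTop ((fn π E).σ u a) :=
      (hevA y a).trans (pullFn_σ (fn π E) α a)
    exact congrArg (kk K) ((congrArg (fam k).1.appTop h1).trans ((appTop_comp _ _ _).symm.trans
      (congrArg (fun t => (Scheme.Hom.appTop t) ((fn π E).σ u a)) (hsκ (fam k).2))))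
  obtain ⟨A₁, _, _, hA₁, ι₁, hι₁, q, e₁, d₁, e₂, hq, hqc, he₁, hd₁, hev₁, he₂, hsepA⟩ :=
    exists_alg ι (fun k => chi (fam k).1) hι c hcv₀
  have hφ : (algebraMap (AE E) A₁).Etale := RingHom.etale_algebraMap.2 hA₁
  obtain ⟨E₁, ω, θ, hE₁, hω, hθ⟩ := exists_etAlg E (algebraMap (AE E) A₁) hφ
  haveI := hE₁
  have hθ' : ∀ x : AE E, θ (algebraMap (AE E) A₁ x) = ω.hom.left.appTop x := hθ
  -- the point of `E₁`
  let kx : K →+* Γ(sch (fibCat π (etaOf E)) u, ⊤) := κu.hom.appTop.hom.comp (kk K).symm.toRingHom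
  have hkx : ∀ z : K, κu.inv.appTop (kx z) = (kk K).symm z := by
    intro z
    change κu.inv.appTop (κu.hom.appTop ((kk K).symm z)) = _
    rw [← appTop_comp, Iso.inv_hom_id]
    exact congrArg (fun f => f.hom ((kk K).symm z)) (Scheme.Hom.id_appTop (X := Spec (CommRingCat.of K)))
  have hkx' : ∀ z : Γ(sch (fibCat π (etaOf E)) u, ⊤), kx (kk K (κu.inv.appTop z)) = z := by
    intro z
    change κu.hom.appTop ((kk K).symm (kk K (κu.inv.appTop z))) = z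
    rw [RingEquiv.symm_apply_apply, ← appTop_comp, Iso.hom_inv_id]
    exact congrArg (fun f => f.hom z) (Scheme.Hom.id_appTop (X := sch (fibCat π (etaOf E)) u))
  obtain ⟨t, ht⟩ := exists_hom_aff (X := sch (fibCat π (etaOf E)) u) (Y := E₁.obj.left.left)
    ((kx.comp ι₁).comp θ.symm.toRingHom)
  have ht' : ∀ r : A₁, t.appTop (θ r) = kx (ι₁ r) := by
    intro r
    have h1 := congrArg (fun z => z (θ r)) ht
    refine h1.trans ?_
    change kx (ι₁ (θ.symm (θ r))) = _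
    rw [RingEquiv.symm_apply_apply]
  have hte : t ≫ ω.hom.left = str π (FObj.arr u) := by
    haveI : IsAffine (etaOf E).base.left := hE
    refine hom_ext_aff fun a => ?_
    have h1 : (t ≫ ω.hom.left).appTop a = t.appTop (θ (algebraMap (AE E) A₁ a)) := by
      rw [hθ']
      exact appTop_comp _ _ _
    rw [h1, ht']
    have h2 : ι₁ (algebraMap (AE E) A₁ a) = ι a := congrArg (fun z => z a) hι₁
    rw [h2]
    exact hkx' _
  obtain ⟨β₀, hβ1, hβ2⟩ := exists_ofSp_hom (T := π.obj (FObj.pt u)) ω (FObj.arr u) ((eqSch π (FObj.pt u)).inv ≫ t) (by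
    rw [Category.assoc, hte, ← str_left])
  have hβs : str π (y := FObj.pt u) β₀ = t := by
    rw [str_left] at hβ1
    exact (cancel_epi (eqSch π (FObj.pt u)).inv).1 hβ1
  let u₁ : (fibCat π (etaOf E₁)).obj := ⟨FObj.pt u, β₀⟩
  let α' : p.obj y ⟶ (fibMap π ω).obj u₁ := FObj.mkHom α.hom (by
    change π.map α.hom ≫ β₀ ≫ ω = FObj.arr (p.obj y)
    rw [hβ2]
    exact α.comm)
  have hα' : IsTerm p α' := by
    intro z β
    let β' : p.obj z ⟶ u := FObj.mkHom β.hom (by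
      rw [← β.comm]
      change π.map β.hom ≫ FObj.arr u = π.map β.hom ≫ β₀ ≫ ω
      rw [hβ2])
    obtain ⟨χ, hχ, hχu⟩ := hα z β'
    have e1 : (p.map χ).hom ≫ α.hom = β.hom := congrArg (fun k => FObj.Hom.hom k) hχ
    refine ⟨χ, FObj.hom_ext e1, fun χ' hχ' => hχu χ' ?_⟩
    have e2 : (p.map χ').hom ≫ α.hom = β.hom := congrArg (fun k => FObj.Hom.hom k) hχ'
    exact FObj.hom_ext e2
  obtain ⟨b, hb, y₂, k, α₂, h1, h2, h3, h4, h5⟩ := exists_part ω p θ hθ' ev hev hevA c e₁ e₂ h𝒱 hα'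
  have hstr' : str p α' = str p α := rfl
  have hcut : str (cutF ω p θ hθ' ev hevA c e₁ e₂) (y := y₂) α₂ = bmap 𝒱 (FObj.Hom.hom k.hom) ≫ str p α := h5
  -- the value of the cutting function at a section
  have hval : ∀ {s : Spec (CommRingCat.of K) ⟶ sch 𝒱 y}, s ≫ i = 𝟙 _ → ∃ φ : B ⊗[AE E] A₁ →+* K,
      φ.comp (Algebra.TensorProduct.includeLeftRingHom) = chi s ∧
      φ.comp (Algebra.TensorProduct.includeRight (R := AE E) (A := B) (B := A₁)).toRingHom = ι₁ ∧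
      kk K (s.appTop (fnn ω p θ hθ' ev hevA c e₁ e₂ ⟨⟨y, b⟩, hb⟩)) = e₁.eval₂ ι₁ (chi s c) * φ e₂ := by
    intro s hs
    have hτ : ((kk K).toRingHom.comp (s.appTop.hom.comp (tau p θ (⟨y, b⟩ : (fibCat (pv p) (etaOf E₁)).obj)))) = ι₁ := by
      ext r
      change kk K (s.appTop ((str (pv p) b).appTop (θ r))) = ι₁ r
      have g1 : str (pv p) b = str p α ≫ str π (y := FObj.pt u) β₀ := by
        subst h1
        rw [str_pv, str_eq p α, Category.assoc]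
        exact congrArg (fun t => (eqSch p y).hom ≫ t) (str_map π α.hom β₀)
      have g2 : s ≫ str (pv p) b = κu.inv ≫ t := by
        rw [g1, ← Category.assoc, hsκ hs, hβs]
      have g3 : s.appTop ((str (pv p) b).appTop (θ r)) = κu.inv.appTop (t.appTop (θ r)) :=
        (appTop_comp _ _ _).symm.trans ((congrArg (fun t => (Scheme.Hom.appTop t) (θ r)) g2).trans (appTop_comp _ _ _))
      rw [g3, ht', hkx, RingEquiv.apply_symm_apply]
    refine ⟨(kk K).toRingHom.comp (s.appTop.hom.comp (RR ω p θ hθ' ev hevA ⟨⟨y, b⟩, hb⟩)), ?_, ?_, ?_⟩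
    · rw [RingHom.comp_assoc, RingHom.comp_assoc]
      unfold RR
      rw [prodHom_left]
    · rw [RingHom.comp_assoc, RingHom.comp_assoc]
      unfold RR
      rw [prodHom_right]
      exact hτ
    · change kk K (s.appTop (_ * _)) = _
      rw [map_mul, map_mul]
      congr 1
      have g4 := hom_eval₂ e₁ (tau p θ (⟨y, b⟩ : (fibCat (pv p) (etaOf E₁)).obj)) ((kk K).toRingHom.comp s.appTop.hom) (ev y c)
      refine g4.trans ?_
      rw [← hτ]
      rfl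
  let kb : sch 𝒱 y₂.obj.obj.pt ⟶ sch 𝒱 y := bmap 𝒱 (FObj.Hom.hom k.hom)
  haveI hkb : IsOpenImmersion kb := h2
  let f : sch 𝒱 y₂.obj.obj.pt ⟶ Spec (CommRingCat.of K) := kb ≫ i
  haveI : Etale f := inferInstance
  have hunit : ∀ {s : Spec (CommRingCat.of K) ⟶ sch 𝒱 y}, Set.range s ⊆ Set.range kb ↔
      IsUnit (kk K (s.appTop (fnn ω p θ hθ' ev hevA c e₁ e₂ ⟨⟨y, b⟩, hb⟩))) := by
    intro s
    rw [MulEquiv.isUnit_map (kk K)]
    refine Iff.trans ?_ (isUnit_appTop_iff s (fnn ω p θ hθ' ev hevA c e₁ e₂ ⟨⟨y, b⟩, hb⟩)).symm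
    exact ⟨fun h => h.trans h3.subset, fun h => h.trans h3.symm.subset⟩
  have hs₀r : Set.range s₀ ⊆ Set.range kb := by
    rw [hunit]
    obtain ⟨φ, g1, g2, g3⟩ := hval hs₀
    have g4 := (hsepA 0 φ (g1.trans (congrArg chi hfam0.symm)) g2).1 rfl
    have g5 : e₁.eval₂ ι₁ (chi s₀ c) = 1 := hev₁
    rw [g3, g4, g5, mul_one]
    exact isUnit_one
  let s₁ : Spec (CommRingCat.of K) ⟶ sch 𝒱 y₂.obj.obj.pt := IsOpenImmersion.lift kb s₀ hs₀r
  have hs₁ : s₁ ≫ kb = s₀ := IsOpenImmersion.lift_fac _ _ _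
  have hfI : IsIso f := by
    refine K864.SchLem.isIso_of_unique_section f s₁ ?_ fun s' hs' => ?_
    · change s₁ ≫ kb ≫ i = 𝟙 _
      rw [← Category.assoc, hs₁, hs₀]
    · have g0 : (s' ≫ kb) ≫ i = 𝟙 _ := by
        rw [Category.assoc]
        exact hs'
      rw [← cancel_mono kb, hs₁]
      have g1 : chi (s' ≫ kb) = chi s₀ := by
        obtain ⟨n, hn⟩ := hfam ⟨s' ≫ kb, g0⟩
        have hn' : (fam n).1 = s' ≫ kb := congrArg Subtype.val hn
        obtain ⟨φ, g1, g2, g3⟩ := hval g0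
        have g4 : IsUnit (kk K ((s' ≫ kb).appTop (fnn ω p θ hθ' ev hevA c e₁ e₂ ⟨⟨y, b⟩, hb⟩))) := by
          rw [← hunit]
          rintro _ ⟨z, rfl⟩
          exact ⟨s' z, rfl⟩
        rw [g3] at g4
        by_contra hne
        have g5 := (hsepA n φ (g1.trans (congrArg chi hn'.symm)) g2).2 (by
          rw [hn', hfam0]
          exact hne)
        rw [g5, mul_zero] at g4
        exact not_isUnit_zero g4
      refine hsep hα ((hsκ g0).trans (hsκ hs₀).symm) (hom_ext_aff fun r => ?_)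
      obtain ⟨n, b', hb'⟩ := hext (fun v => (ν v).appTop r) (fun {v' v} φ => by
        rw [← appTop_comp, hν])
      have g2 : ∀ s : Spec (CommRingCat.of K) ⟶ sch 𝒱 y, chi s b' = (chi s c) ^ n * kk K ((s ≫ ν y).appTop r) := by
        intro s
        rw [hchi, hchi, hb', hc, map_mul, map_mul, map_pow, map_pow, appTop_comp]
      have g3 : (chi s₀ c) ^ n * kk K (((s' ≫ kb) ≫ ν y).appTop r) = (chi s₀ c) ^ n * kk K ((s₀ ≫ ν y).appTop r) := by
        rw [← g2 s₀, ← g1, ← g2]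
      have g4 : (chi s₀ c) ^ n ≠ 0 := pow_ne_zero n hcv₀
      exact (kk K).injective (mul_left_cancel₀ g4 g3)
  refine ⟨E₁, hE₁, ω, hω, QQ ω p θ hθ' ev hevA c e₁ e₂, isFibGrpd_cut ω p θ hθ' ev hev hevA c e₁ e₂ h𝒱,
    isRep_cut ω p θ hθ' ev hev hevA c e₁ e₂ q d₁ h𝒳 h𝒱 P hrep ch cs hc1 hc hqc he₁ hd₁ he₂, β₀, hβ2, y₂, α₂, h4, ?_⟩
  have g1 : f = str (cutF ω p θ hθ' ev hevA c e₁ e₂) (y := y₂) α₂ ≫ κu.hom := by
    rw [hcut]
    exact (Category.assoc _ _ _).symm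
  have g2 : str (cutF ω p θ hθ' ev hevA c e₁ e₂) (y := y₂) α₂ = f ≫ κu.inv := by
    rw [g1, Category.assoc, Iso.hom_inv_id, Category.comp_id]
  rw [g2]
  infer_instance

end K864.Step
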