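import Groth.Agent.StMod.K864.Glu
import Groth.Agent.StMod.K864.LocCart
import Groth.Agent.StMod.K906.FlatLoc

/-!
# Sections of pushforwards over an open of the target

`π : 𝒳 ⥤ᵇ ofSp M`, `φ : fullSub 𝒳 Q ⥤ᵇ ofSp N`, `g : N ⟶ M` a monomorphism, `σ : subIncl ⋙ π ≅ φ ⋙ ofSpMap g`. If `Q ξ` holds
whenever `π ξ` maps to `g η'`, then `RelSect π F (g η')` is `RelSect φ (subMod F) η'`:

* `subMod`, `subQ`, `subHom`;
* `surjective_relSectMap_of_sub`, `bijective_unitSect_of_sub`.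
-/

set_option autoImplicit false
set_option linter.unusedVariables false
set_option linter.style.haveILetI false
set_option backward.isDefEq.respectTransparency false
set_option backward.isDefEq.respectTransparency.types false

universe w v u

open CategoryTheory CategoryTheory.Limits AlgebraicGeometry Opposite StMod AlgSt AlgSp TopologicalSpace

namespace K864.SubRel

open K734.Fib

variable {S : Scheme.{u}} {𝒳 : BasedCategory.{v, w} (Over S)} (Q : 𝒳.obj → Prop)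

/-- The restriction of a module to a full subcategory. -/
noncomputable def subMod (F : Mod 𝒳) : Mod (fullSub 𝒳 Q) where
  obj a := F.obj a.obj
  map {_ _} φ {g} hg := F.map φ.hom hg
  map_id a := F.map_id a.obj
  map_comp {_ _ _} ψ φ {h g} hh hg := F.map_comp ψ.hom φ.hom hh hg

/-- The restriction of a quasi-coherent module. -/
noncomputable def subQ (F : QCoh 𝒳) : QCoh (fullSub 𝒳 Q) :=
  ⟨subMod Q F.obj, fun {a b} φ => F.property.1 φ.hom, fun a => F.property.2 a.obj⟩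

/-- The restriction of a morphism. -/
noncomputable def subHom {F G : Mod 𝒳} (u : F ⟶ G) : subMod Q F ⟶ subMod Q G where
  app a := u.app a.obj
  comm {_ _} φ {g} hg := u.comm φ.hom hg

theorem isSurj_subHom {F G : Mod 𝒳} (u : F ⟶ G) (h : Mod.IsSurj u) : Mod.IsSurj (subHom Q u) :=
  fun a ha => h a.obj ha

variable {Q} {M N : Sp S} {π : 𝒳 ⥤ᵇ ofSp M} {φ : fullSub 𝒳 Q ⥤ᵇ ofSp N} {g : N ⟶ M}
  (σ : BasedFunctor.comp (subIncl 𝒳 Q) π ≅ BasedFunctor.comp φ (ofSpMap g))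

/-- The arrow of `𝒳` side attached to an arrow on the side of the subcategory. -/
def up {x : (fullSub 𝒳 Q).obj} {η' : (ofSp N).obj} (β : φ.obj x ⟶ η') : π.obj x.obj ⟶ (ofSpMap g).obj η' :=
  (app σ x).hom ≫ (ofSpMap g).map β

theorem up_map {x' x : (fullSub 𝒳 Q).obj} {η' : (ofSp N).obj} (a : x' ⟶ x) (β : φ.obj x ⟶ η') :
    π.map a.hom ≫ up σ β = up σ (φ.map a ≫ β) := by
  unfold up
  rw [Functor.map_comp, ← Category.assoc, ← Category.assoc]
  congr 1
  exact app_nat σ a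

theorem baseOver_up {x : (fullSub 𝒳 Q).obj} {η' : (ofSp N).obj} (β : φ.obj x ⟶ η') :
    baseOver π x.obj (up σ β) = baseOver φ x β := by
  unfold baseOver up
  have h1 : (ofSp M).p.map (app σ x).hom = eqToHom (app_vert σ x).obj_eq := (app_vert σ x).map_eq
  rw [Functor.map_comp, h1]
  change eqToHom _ ≫ eqToHom _ ≫ (ofSp N).p.map β = _
  rw [← Category.assoc, eqToHom_trans]

/-- Restriction of sections. -/
noncomputable def resR {F : Mod 𝒳} {η' : (ofSp N).obj} (s : Mod.RelSect π F ((ofSpMap g).obj η')) :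
    Mod.RelSect φ (subMod Q F) η' :=
  ⟨fun x β => s.1 x.obj (up σ β), fun x' x a β => by
    refine (s.2 a.hom (up σ β)).trans ?_
    rw [up_map]⟩

variable {η' : (ofSp N).obj} (hQ : ∀ (ξ : 𝒳.obj) (α : π.obj ξ ⟶ (ofSpMap g).obj η'), Q ξ)

include hQ in
theorem exists_up (hg : (ofSpMap g).toFunctor.Full) (ξ : 𝒳.obj) (α : π.obj ξ ⟶ (ofSpMap g).obj η') :
    ∃ (x : (fullSub 𝒳 Q).obj) (hx : x.obj = ξ) (β : φ.obj x ⟶ η'), up σ β = eqToHom (by rw [hx]) ≫ α := by
  let x : (fullSub 𝒳 Q).obj := ⟨ξ, hQ ξ α⟩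
  obtain ⟨β, hβ⟩ := hg.map_surjective (X := φ.obj x) (Y := η') ((app σ x).inv ≫ α)
  refine ⟨x, rfl, β, ?_⟩
  have hβ' : (ofSpMap g).map β = (app σ x).inv ≫ α := hβ
  unfold up
  rw [hβ', ← Category.assoc, Iso.hom_inv_id]
  rfl

include hQ in
theorem resR_injective (hg : (ofSpMap g).toFunctor.Full) {F : Mod 𝒳} :
    Function.Injective (resR σ (F := F) (η' := η')) := by
  intro s t h
  apply Mod.RelSect.ext
  intro ξ α
  obtain ⟨x, rfl, β, hβ⟩ := exists_up σ hQ hg ξ α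
  have h1 : up σ β = α := by rw [hβ]; exact Category.id_comp _
  have h2 := congrArg (fun r : Mod.RelSect φ (subMod Q F) η' => r.1 x β) h
  change s.1 x.obj (up σ β) = t.1 x.obj (up σ β) at h2
  rwa [h1] at h2

include hQ in
theorem resR_surjective (hg : (ofSpMap g).toFunctor.Full) (hg' : (ofSpMap g).toFunctor.Faithful) {F : Mod 𝒳} :
    Function.Surjective (resR σ (F := F) (η' := η')) := by
  intro t
  have hup : ∀ {x : (fullSub 𝒳 Q).obj} {β β' : φ.obj x ⟶ η'}, up σ β = up σ β' → β = β' := by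
    intro x β β' h
    unfold up at h
    exact hg'.map_injective ((cancel_epi (app σ x).hom).1 h)
  have key : ∀ (ξ : 𝒳.obj) (α : π.obj ξ ⟶ (ofSpMap g).obj η'), ∃ β : φ.obj (⟨ξ, hQ ξ α⟩ : (fullSub 𝒳 Q).obj) ⟶ η',
      up σ β = α := by
    intro ξ α
    obtain ⟨β, hβ⟩ := hg.map_surjective (X := φ.obj (⟨ξ, hQ ξ α⟩ : (fullSub 𝒳 Q).obj)) (Y := η')
      ((app σ (⟨ξ, hQ ξ α⟩ : (fullSub 𝒳 Q).obj)).inv ≫ α)
    refine ⟨β, ?_⟩
    have hβ' : (ofSpMap g).map β = (app σ (⟨ξ, hQ ξ α⟩ : (fullSub 𝒳 Q).obj)).inv ≫ α := hβ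
    unfold up
    rw [hβ', ← Category.assoc, Iso.hom_inv_id]
    exact Category.id_comp _
  choose d hd using key
  refine ⟨⟨fun ξ α => t.1 ⟨ξ, hQ ξ α⟩ (d ξ α), fun ξ' ξ a α => ?_⟩, ?_⟩
  · let a' : (⟨ξ', hQ ξ' (π.map a ≫ α)⟩ : (fullSub 𝒳 Q).obj) ⟶ ⟨ξ, hQ ξ α⟩ := ObjectProperty.homMk a
    refine (t.2 a' (d ξ α)).trans ?_
    have e : φ.map a' ≫ d ξ α = d ξ' (π.map a ≫ α) := hup (by
      rw [hd, ← up_map, hd]
      rfl)
    exact congrArg (fun b => t.1 (⟨ξ', hQ ξ' (π.map a ≫ α)⟩ : (fullSub 𝒳 Q).obj) b) e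
  · apply Mod.RelSect.ext
    intro x β
    have e : d x.obj (up σ β) = β := hup (by rw [hd])
    exact congrArg (fun b => t.1 x b) e

include σ hQ in
/-- Surjectivity on sections of pushforwards. -/
theorem surjective_relSectMap_of_sub (hg : (ofSpMap g).toFunctor.Full) (hg' : (ofSpMap g).toFunctor.Faithful)
    {F G : Mod 𝒳} (u : F ⟶ G) (h : Function.Surjective (Mod.relSectMap φ (subHom Q u) η')) :
    Function.Surjective (Mod.relSectMap π u ((ofSpMap g).obj η')) := by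
  intro t
  obtain ⟨s', hs'⟩ := h (resR σ t)
  obtain ⟨s, rfl⟩ := resR_surjective σ hQ hg hg' s'
  refine ⟨s, resR_injective σ hQ hg ?_⟩
  rw [← hs']
  rfl

include σ hQ in
/-- The unit. -/
theorem bijective_unitSect_of_sub (hg : (ofSpMap g).toFunctor.Full) (hg' : (ofSpMap g).toFunctor.Faithful)
    (h : Function.Bijective (unitSect φ η')) : Function.Bijective (unitSect π ((ofSpMap g).obj η')) := by
  have e : ∀ r : Γ(sch (ofSp N) η', ⊤), resR σ (F := O 𝒳) (unitSect π ((ofSpMap g).obj η') r) = unitSect φ η' r := by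
    intro r
    apply Mod.RelSect.ext
    intro x β
    change (baseOver π x.obj (up σ β)).left.appTop r = (baseOver φ x β).left.appTop r
    rw [baseOver_up]
    rfl
  constructor
  · intro r r' hr
    apply h.1
    rw [← e, ← e]
    exact congrArg (resR σ (F := O 𝒳)) hr
  · intro t
    obtain ⟨r, hr⟩ := h.2 (resR σ (F := O 𝒳) t)
    refine ⟨r, resR_injective σ hQ hg ?_⟩
    exact (e r).trans hr

end K864.SubRel
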