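import Groth.Agent.StMod.K864.FamHom

/-!
# Families over schemes étale over the target scheme

`π : 𝒳 ⥤ᵇ ofSch Z` with `Loc π`, `UnitIsIso π`; `p : W ⟶ Z.left` étale. A morphism from (an object over) `sch ξ` to `W`
is a morphism `l : sch ξ ⟶ W` with `l ≫ p = (zm π ξ).left`.

* `exists_desc` : compatible `c ξ l : sch ξ ⟶ T` come from `g : W ⟶ T`;
* `desc_ext`, `mem_of_forall` : uniqueness; maps into opens are tested on `𝒳`;
* `exists_open` : closed images.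
-/

set_option autoImplicit false
set_option linter.unusedVariables false
set_option linter.style.haveILetI false
set_option backward.isDefEq.respectTransparency false
set_option backward.isDefEq.respectTransparency.types false

universe w v u

open CategoryTheory CategoryTheory.Limits AlgebraicGeometry Opposite StMod AlgSt AlgSp TopologicalSpace

namespace K864.Top

open K906 K907.Free K907.Atl K907.Pt K907.Van K907.Closed K907.GM K864.Sep K864.Zm K864.SchGlue K864.Fam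

variable {S : Scheme.{u}} {𝒳 : BasedCategory.{v, w} (Over S)} {Z : Over S}

/-- The object of `ofSch Z` given by a morphism of schemes to `Z`. -/
def ob {W : Scheme.{u}} (p : W ⟶ Z.left) : (ofSch Z).obj := ⟨Over.mk (p ≫ Z.hom), ⟨Over.homMk p rfl⟩⟩

theorem ob_left {W : Scheme.{u}} (p : W ⟶ Z.left) : (ob p).base.left = W := rfl

theorem toMap_ob {W : Scheme.{u}} (p : W ⟶ Z.left) :
    SpGeo.toMap (ob p) = (yon S).map (Over.homMk p rfl : Over.mk (p ≫ Z.hom) ⟶ Z) := by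
  apply (J S).uliftYonedaEquiv.injective
  rw [K906.SpGeo.toMap, Equiv.apply_symm_apply]
  apply ULift.ext
  change (Over.homMk p rfl : Over.mk (p ≫ Z.hom) ⟶ Z) =
    𝟙 (Over.mk (p ≫ Z.hom)) ≫ (Over.homMk p rfl : Over.mk (p ≫ Z.hom) ⟶ Z)
  rw [Category.id_comp]

theorem isEt_ob {W : Scheme.{u}} (p : W ⟶ Z.left) [hp : Etale p] : SpGeo.IsEt (ob p) := by
  unfold SpGeo.IsEt
  rw [toMap_ob]
  exact (repWith_yon_map_iff @Etale _).2 hp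

variable {π : 𝒳 ⥤ᵇ ofSch Z}

theorem baseOver_ob {W : Scheme.{u}} (p : W ⟶ Z.left) {ξ : 𝒳.obj} (α : π.obj ξ ⟶ ob p) :
    (baseOver π ξ α).left ≫ p = (zm π ξ).left := by
  have h1 : α.hom ≫ (Over.homMk p rfl : Over.mk (p ≫ Z.hom) ⟶ Z) = (π.obj ξ).sec.down :=
    congrArg ULift.down α.map_sec
  have h2 : baseOver π ξ α ≫ (Over.homMk p rfl : Over.mk (p ≫ Z.hom) ⟶ Z) = zm π ξ := by
    unfold baseOver zm
    rw [← h1, Category.assoc]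
    rfl
  exact congrArg (fun k : 𝒳.p.obj ξ ⟶ Z => k.left) h2

theorem exists_arr {W : Scheme.{u}} (p : W ⟶ Z.left) {ξ : 𝒳.obj} (l : sch 𝒳 ξ ⟶ W) (hl : l ≫ p = (zm π ξ).left) :
    ∃ α : π.obj ξ ⟶ ob p, (baseOver π ξ α).left = l := by
  let l' : 𝒳.p.obj ξ ⟶ (ob p).base := Over.homMk l (by
    change l ≫ p ≫ Z.hom = _
    rw [← Category.assoc, hl]
    exact Over.w (zm π ξ))
  have hl' : l' ≫ (Over.homMk p rfl : Over.mk (p ≫ Z.hom) ⟶ Z) = zm π ξ := Over.OverMorphism.ext hl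
  refine ⟨⟨eqToHom (π.w_obj ξ) ≫ l', ?_⟩, ?_⟩
  · apply ULift.ext
    change (eqToHom (π.w_obj ξ) ≫ l') ≫ (Over.homMk p rfl : Over.mk (p ≫ Z.hom) ⟶ Z) = (π.obj ξ).sec.down
    rw [Category.assoc, hl']
    unfold zm
    simp
  · have : baseOver π ξ (⟨eqToHom (π.w_obj ξ) ≫ l', by
      apply ULift.ext
      change (eqToHom (π.w_obj ξ) ≫ l') ≫ (Over.homMk p rfl : Over.mk (p ≫ Z.hom) ⟶ Z) = (π.obj ξ).sec.down
      rw [Category.assoc, hl']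
      unfold zm
      simp⟩ : π.obj ξ ⟶ ob p) = l' := by
      unfold baseOver
      change eqToHom _ ≫ eqToHom _ ≫ l' = l'
      simp
    rw [this]
    rfl

theorem map_zm_left (π : 𝒳 ⥤ᵇ ofSch Z) {ξ' ξ : 𝒳.obj} (φ : ξ' ⟶ ξ) : bmap 𝒳 φ ≫ (zm π ξ).left = (zm π ξ').left :=
  congrArg (fun k : 𝒳.p.obj ξ' ⟶ Z => k.left) (map_zm π φ)

variable (h𝒳 : FibCat.IsFibGrpd 𝒳.p) (hL : Loc π) (hu : UnitIsIso π)

include h𝒳 hL hu in
/-- Descent of compatible families. -/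
theorem exists_desc {W : Scheme.{u}} (p : W ⟶ Z.left) [Etale p] {T : Scheme.{u}}
    (c : ∀ (ξ : 𝒳.obj) (l : sch 𝒳 ξ ⟶ W), l ≫ p = (zm π ξ).left → (sch 𝒳 ξ ⟶ T))
    (hc : ∀ {ξ' ξ : 𝒳.obj} (φ : ξ' ⟶ ξ) (l : sch 𝒳 ξ ⟶ W) (hl : l ≫ p = (zm π ξ).left),
      bmap 𝒳 φ ≫ c ξ l hl = c ξ' (bmap 𝒳 φ ≫ l) (by rw [Category.assoc, hl, map_zm_left])) :
    ∃ g : W ⟶ T, ∀ (ξ : 𝒳.obj) (l : sch 𝒳 ξ ⟶ W) (hl : l ≫ p = (zm π ξ).left), l ≫ g = c ξ l hl := by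
  obtain ⟨g, hg⟩ := exists_hom h𝒳 hL hu (isEt_ob p) (T := T)
    (fun ξ α => c ξ (baseOver π ξ α).left (baseOver_ob p α)) (fun {ξ' ξ} φ α => by
      rw [hc]
      congr 1
      exact bmap_comp_baseOver_left (π := π) φ α)
  refine ⟨g, fun ξ l hl => ?_⟩
  obtain ⟨α, rfl⟩ := exists_arr p l hl
  exact hg ξ α

include h𝒳 hL hu in
/-- Uniqueness. -/
theorem desc_ext {W : Scheme.{u}} (p : W ⟶ Z.left) [Etale p] {T : Scheme.{u}} {g g' : W ⟶ T}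
    (h : ∀ (ξ : 𝒳.obj) (l : sch 𝒳 ξ ⟶ W), l ≫ p = (zm π ξ).left → l ≫ g = l ≫ g') : g = g' :=
  hom_ext h𝒳 hL hu (isEt_ob p) fun ξ α => h ξ _ (baseOver_ob p α)

include h𝒳 hL hu in
/-- A morphism has values in an open if this holds after composition with all objects of `𝒳`. -/
theorem mem_of_forall {W : Scheme.{u}} (p : W ⟶ Z.left) [Etale p] {T : Scheme.{u}} (g : W ⟶ T) (T' : T.Opens)
    (h : ∀ (ξ : 𝒳.obj) (l : sch 𝒳 ξ ⟶ W), l ≫ p = (zm π ξ).left → ∀ t : ↥(sch 𝒳 ξ), g (l t) ∈ T') (x : W) :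
    g x ∈ T' := by
  have hr : ∀ (ξ : 𝒳.obj) (l : sch 𝒳 ξ ⟶ W), l ≫ p = (zm π ξ).left → Set.range (l ≫ g) ⊆ Set.range T'.ι := by
    rintro ξ l hl _ ⟨t, rfl⟩
    rw [Scheme.Opens.range_ι]
    exact h ξ l hl t
  obtain ⟨g', hg'⟩ := exists_desc h𝒳 hL hu p (T := T')
    (fun ξ l hl => IsOpenImmersion.lift T'.ι (l ≫ g) (hr ξ l hl)) (fun {ξ' ξ} φ l hl => by
      rw [← cancel_mono T'.ι, Category.assoc, IsOpenImmersion.lift_fac, IsOpenImmersion.lift_fac, Category.assoc])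
  have e : g' ≫ T'.ι = g := desc_ext h𝒳 hL hu p fun ξ l hl => by
    rw [← Category.assoc, hg' ξ l hl, IsOpenImmersion.lift_fac]
  rw [← e]
  exact (g' x).2

include h𝒳 hL hu in
/-- Closed images. -/
theorem exists_open (C : ∀ ξ : 𝒳.obj, Set ↥(sch 𝒳 ξ))
    (hC : ∀ {ξ' ξ : 𝒳.obj} (φ : ξ' ⟶ ξ) (t : ↥(sch 𝒳 ξ')), t ∈ C ξ' ↔ bmap 𝒳 φ t ∈ C ξ)
    (hcl : ∀ ξ : 𝒳.obj, IsClosed (C ξ)) (y : ↥Z.left)
    (hno : ∀ (ξ : 𝒳.obj) (t : ↥(sch 𝒳 ξ)), (zm π ξ).left t = y → t ∉ C ξ) :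
    ∃ U : Z.left.Opens, y ∈ U ∧ ∀ (ξ : 𝒳.obj) (t : ↥(sch 𝒳 ξ)), (zm π ξ).left t ∈ U → t ∉ C ξ := by
  let m := ob (Z := Z) (𝟙 Z.left)
  have hbo : ∀ {ξ : 𝒳.obj} (α : π.obj ξ ⟶ m), (baseOver π ξ α).left = (zm π ξ).left := fun {ξ} α => by
    exact (Category.comp_id (baseOver π ξ α).left).symm.trans (baseOver_ob (𝟙 Z.left) α)
  obtain ⟨U, h1, h2⟩ := exists_open_of_not_hit h𝒳 hL hu (isEt_ob (Z := Z) (𝟙 Z.left))
    (W := { s := fun ξ _ => C ξ, map := fun φ α t => hC φ t, cl := fun ξ _ _ => hcl ξ }) y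
    (fun ξ α t h => hno ξ t (by rw [← hbo α]; exact h))
  refine ⟨U, h1, fun ξ t ht => ?_⟩
  obtain ⟨α, hα⟩ := exists_arr (π := π) (𝟙 Z.left) (zm π ξ).left (Category.comp_id _)
  exact h2 ξ α t (by rw [hα]; exact ht)

end K864.Top
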