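import Groth.Agent.StMod.K864.Sep

/-!
# Morphisms out of affine étale objects are determined on `𝒳`

* `hom_ext` : `m` affine étale over `M`, `a b : m.base.left ⟶ T` with the same composites with all
  `baseOver π ξ α : sch ξ ⟶ m.base.left`; then `a = b`.
* `exists_hom_affine` : compatible morphisms `sch ξ ⟶ V`, `V` affine, come from a morphism `m.base.left ⟶ V`.
-/

set_option autoImplicit false
set_option linter.unusedVariables false
set_option linter.style.haveILetI false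
set_option backward.isDefEq.respectTransparency false
set_option backward.isDefEq.respectTransparency.types false

universe w v u

open CategoryTheory CategoryTheory.Limits AlgebraicGeometry Opposite StMod AlgSt AlgSp TopologicalSpace

namespace K864.Sep

open K906 K907.Free K907.Atl K907.Pt K907.Van K907.Closed K907.GM

variable {S : Scheme.{u}} {𝒳 : BasedCategory.{v, w} (Over S)} {M : Sp S}
  (h𝒳 : FibCat.IsFibGrpd 𝒳.p) {π : 𝒳 ⥤ᵇ ofSp M} (hL : Loc π) (hu : UnitIsIso π)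

theorem baseOver_moι (π : 𝒳 ⥤ᵇ ofSp M) {m : (ofSp M).obj} (U : m.base.left.Opens) {ξ : 𝒳.obj} (α : π.obj ξ ⟶ mo m U) :
    (baseOver π ξ (α ≫ moι m U)).left = (baseOver π ξ α).left ≫ U.ι := by
  rw [baseOver_comp, Over.comp_left]
  rfl

include h𝒳 hL hu in
theorem mem_of_mem {m : (ofSp M).obj} (hm : SpGeo.IsEt m) {T : Scheme.{u}} {a b : m.base.left ⟶ T}
    (hab : ∀ (ξ : 𝒳.obj) (α : π.obj ξ ⟶ m), IsAffine (sch 𝒳 ξ) → (baseOver π ξ α).left ≫ a = (baseOver π ξ α).left ≫ b)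
    (y : ↥m.base.left) {V : T.Opens} (hy : a y ∈ V) : b y ∈ V := by
  obtain ⟨_, ⟨U₀, hU₀, rfl⟩, hyU, hUV⟩ := m.base.left.isBasis_affineOpens.exists_subset_of_mem_open
    (show y ∈ (a ⁻¹ᵁ V : m.base.left.Opens) from hy) (a ⁻¹ᵁ V).isOpen
  let U : m.base.left.Opens := U₀
  have hUa : IsAffine (mo m U).base.left := hU₀
  by_contra hcon
  refine notMem_of_not_hit h𝒳 hL hu (isEt_mo U hm) hUa (C := (U.ι ≫ b) ⁻¹' (V : Set T)ᶜ)
    (V.isOpen.isClosed_compl.preimage (U.ι ≫ b).continuous) (fun ξ α t hξ ht => ?_) ⟨y, hyU⟩ ?_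
  · have h1 := hab ξ (α ≫ moι m U) hξ
    rw [baseOver_moι, Category.assoc, Category.assoc] at h1
    have h2 : (U.ι ≫ b) ((baseOver π ξ α).left t) = (U.ι ≫ a) ((baseOver π ξ α).left t) := by
      have := congrArg (fun k : (𝒳.p.obj ξ).left ⟶ T => k t) h1
      exact this.symm
    rw [Set.mem_preimage, h2] at ht
    exact ht (hUV ((baseOver π ξ α).left t).2)
  · exact hcon

include h𝒳 hL hu in
/-- Morphisms out of étale objects are determined on `𝒳`. -/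
theorem hom_ext {m : (ofSp M).obj} (hm : SpGeo.IsEt m) {T : Scheme.{u}} {a b : m.base.left ⟶ T}
    (hab : ∀ (ξ : 𝒳.obj) (α : π.obj ξ ⟶ m), (baseOver π ξ α).left ≫ a = (baseOver π ξ α).left ≫ b) : a = b := by
  refine Scheme.hom_ext_of_forall a b fun y => ?_
  obtain ⟨_, ⟨V₀, hV₀, rfl⟩, hyV, -⟩ := T.isBasis_affineOpens.exists_subset_of_mem_open
    (Set.mem_univ (a y)) isOpen_univ
  let V : T.Opens := V₀
  have hyV' : a y ∈ V := hyV
  have hyb : b y ∈ V := mem_of_mem h𝒳 hL hu hm (fun ξ α _ => hab ξ α) y hyV'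
  obtain ⟨_, ⟨U₀, hU₀, rfl⟩, hyU, hUV⟩ := m.base.left.isBasis_affineOpens.exists_subset_of_mem_open
    (show y ∈ (a ⁻¹ᵁ V ⊓ b ⁻¹ᵁ V : m.base.left.Opens) from ⟨hyV', hyb⟩) (a ⁻¹ᵁ V ⊓ b ⁻¹ᵁ V).isOpen
  let U : m.base.left.Opens := U₀
  have hUa : IsAffine (mo m U).base.left := hU₀
  refine ⟨U, hyU, ?_⟩
  have ha : Set.range (U.ι ≫ a) ⊆ Set.range V.ι := by
    rintro _ ⟨z, rfl⟩
    rw [Scheme.Opens.range_ι]
    exact (hUV z.2).1
  have hb : Set.range (U.ι ≫ b) ⊆ Set.range V.ι := by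
    rintro _ ⟨z, rfl⟩
    rw [Scheme.Opens.range_ι]
    exact (hUV z.2).2
  let a₁ := IsOpenImmersion.lift V.ι (U.ι ≫ a) ha
  let b₁ := IsOpenImmersion.lift V.ι (U.ι ≫ b) hb
  have ha₁ : a₁ ≫ V.ι = U.ι ≫ a := IsOpenImmersion.lift_fac _ _ _
  have hb₁ : b₁ ≫ V.ι = U.ι ≫ b := IsOpenImmersion.lift_fac _ _ _
  rw [← ha₁, ← hb₁]
  congr 1
  haveI : IsAffine V := hV₀
  obtain ⟨E, hE⟩ := SpGeo.exists_etaOf (isEt_mo U hm)
  refine ext_of_isAffine ?_
  ext r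
  have hu' := (hu E).1
  rw [hE] at hu'
  apply hu'
  apply Mod.RelSect.ext
  intro ξ α
  have h1 := hab ξ (α ≫ moι m U)
  rw [baseOver_moι, Category.assoc, Category.assoc] at h1
  have h2 : (baseOver π ξ α).left ≫ a₁ = (baseOver π ξ α).left ≫ b₁ := by
    rw [← cancel_mono V.ι, Category.assoc, Category.assoc, ha₁, hb₁]
    exact h1
  have h3 := congrArg (fun k : (𝒳.p.obj ξ).left ⟶ (V : Scheme.{u}) => k.appTop r) h2
  exact h3

include hu in
/-- Compatible morphisms to an affine scheme. -/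
theorem exists_hom_affine {m : (ofSp M).obj} (hm : SpGeo.IsEt m) {V : Scheme.{u}} [IsAffine V]
    (c : ∀ (ξ : 𝒳.obj) (α : π.obj ξ ⟶ m), sch 𝒳 ξ ⟶ V)
    (hc : ∀ {ξ' ξ : 𝒳.obj} (φ : ξ' ⟶ ξ) (α : π.obj ξ ⟶ m), bmap 𝒳 φ ≫ c ξ α = c ξ' (π.map φ ≫ α)) :
    ∃ g : m.base.left ⟶ V, ∀ (ξ : 𝒳.obj) (α : π.obj ξ ⟶ m), (baseOver π ξ α).left ≫ g = c ξ α := by
  obtain ⟨E, rfl⟩ := SpGeo.exists_etaOf hm
  have key : ∀ b : Γ(V, ⊤), ∃ r : Γ((etaOf E).base.left, ⊤), ∀ (ξ : 𝒳.obj) (α : π.obj ξ ⟶ etaOf E),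
      (baseOver π ξ α).left.appTop r = (c ξ α).appTop b := by
    intro b
    obtain ⟨r, hr⟩ := (hu E).2 ⟨fun ξ α => (c ξ α).appTop b, fun ξ' ξ φ α => by
      change (bmap 𝒳 φ).appTop ((c ξ α).appTop b) = (c ξ' (π.map φ ≫ α)).appTop b
      rw [← hc φ α, Scheme.Hom.comp_appTop]
      rfl⟩
    refine ⟨r, fun ξ α => ?_⟩
    exact congrArg (fun s : (O 𝒳).RelSect π (etaOf E) => s.1 ξ α) hr
  choose r hr using key
  have inj : ∀ {x y : Γ((etaOf E).base.left, ⊤)}, (∀ (ξ : 𝒳.obj) (α : π.obj ξ ⟶ etaOf E),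
      (baseOver π ξ α).left.appTop x = (baseOver π ξ α).left.appTop y) → x = y := by
    intro x y h
    apply (hu E).1
    apply Mod.RelSect.ext
    intro ξ α
    exact h ξ α
  let φ : Γ(V, ⊤) →+* Γ((etaOf E).base.left, ⊤) :=
    { toFun := r
      map_one' := inj fun ξ α => by rw [hr, map_one, map_one]
      map_mul' := fun x y => inj fun ξ α => by rw [hr, map_mul, map_mul, hr, hr]
      map_zero' := inj fun ξ α => by rw [hr, map_zero, map_zero]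
      map_add' := fun x y => inj fun ξ α => by rw [hr, map_add, map_add, hr, hr] }
  let g : (etaOf E).base.left ⟶ V := Scheme.toSpecΓ _ ≫ Spec.map (CommRingCat.ofHom φ) ≫ V.isoSpec.inv
  have hg : g.appTop = CommRingCat.ofHom φ := by
    have h1 : V.isoSpec.inv.appTop ≫ (Scheme.ΓSpecIso Γ(V, ⊤)).hom = 𝟙 _ := by
      rw [← Scheme.toSpecΓ_appTop, ← Scheme.Hom.comp_appTop]
      change (V.isoSpec.hom ≫ V.isoSpec.inv).appTop = _
      rw [Iso.hom_inv_id, Scheme.Hom.id_appTop]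
    have h2 : (Spec.map (CommRingCat.ofHom φ)).appTop ≫ (Scheme.ΓSpecIso Γ((etaOf E).base.left, ⊤)).hom =
        (Scheme.ΓSpecIso Γ(V, ⊤)).hom ≫ CommRingCat.ofHom φ := Scheme.ΓSpecIso_naturality _
    change (Scheme.toSpecΓ _ ≫ Spec.map (CommRingCat.ofHom φ) ≫ V.isoSpec.inv).appTop = _
    rw [Scheme.Hom.comp_appTop, Scheme.Hom.comp_appTop, Scheme.toSpecΓ_appTop, Category.assoc, h2, reassoc_of% h1]
  refine ⟨g, fun ξ α => ext_of_isAffine ?_⟩
  rw [Scheme.Hom.comp_appTop, hg]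
  ext x
  exact hr x ξ α

end K864.Sep
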