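import Groth.Agent.StMod.K906.SpGeo
import Groth.Agent.StMod.K907.KPt
import Groth.Prelude.Def_StMod2

/-!
# Functors to the category of a scheme

* `zm ψ ξ : 𝒳.p.obj ξ ⟶ Z` : the morphism of schemes over `S` given by `ψ : 𝒳 ⥤ᵇ ofSch Z` at `ξ`; `map_zm`; `functor_ext`;
* `zm_comp` : for `π : 𝒳 ⥤ᵇ ofSp M` and `g : M ⟶ h_Z`;
* `Fac π ψ m g` : `g : m.base ⟶ Z` induces `ψ` on all pairs `(ξ, π ξ ⟶ m)`.
-/

set_option autoImplicit false
set_option linter.unusedVariables false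
set_option linter.style.haveILetI false
set_option backward.isDefEq.respectTransparency false
set_option backward.isDefEq.respectTransparency.types false

universe w v u

open CategoryTheory CategoryTheory.Limits AlgebraicGeometry Opposite StMod AlgSt AlgSp

namespace K864.Zm

variable {S : Scheme.{u}} {𝒳 : BasedCategory.{v, w} (Over S)} {Z : Over S} {M : Sp S}

/-- The morphism to `Z` given by a functor to the category of `Z`. -/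
def zm (ψ : 𝒳 ⥤ᵇ ofSch Z) (ξ : 𝒳.obj) : 𝒳.p.obj ξ ⟶ Z := eqToHom (ψ.w_obj ξ).symm ≫ (ψ.obj ξ).sec.down

theorem map_hom {F : Sp S} (ψ : 𝒳 ⥤ᵇ ofSp F) {ξ' ξ : 𝒳.obj} (φ : ξ' ⟶ ξ) :
    (ψ.map φ).hom = eqToHom (ψ.w_obj ξ') ≫ 𝒳.p.map φ ≫ eqToHom (ψ.w_obj ξ).symm :=
  K735.Fib.map_map ψ φ

theorem obj_ext {T : Over S} {a b : (ofSch Z).obj} (ea : a.base = T) (eb : b.base = T)
    (h : eqToHom ea.symm ≫ a.sec.down = eqToHom eb.symm ≫ b.sec.down) : a = b := by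
  obtain ⟨A, ⟨s⟩⟩ := a
  obtain ⟨B, ⟨t⟩⟩ := b
  change A = T at ea
  change B = T at eb
  subst ea
  subst eb
  have h3 : s = t := (cancel_epi _).1 h
  rw [h3]

@[reassoc]
theorem map_zm (ψ : 𝒳 ⥤ᵇ ofSch Z) {ξ' ξ : 𝒳.obj} (φ : ξ' ⟶ ξ) : 𝒳.p.map φ ≫ zm ψ ξ = zm ψ ξ' := by
  have h1 : (ψ.map φ).hom ≫ (ψ.obj ξ).sec.down = (ψ.obj ξ').sec.down := congrArg ULift.down (ψ.map φ).map_sec
  have h2 := map_hom ψ φ
  unfold zm
  rw [← h1, h2]
  simp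

/-- A functor to the category of a sheaf is determined by the sections, read over the objects of `𝒳`. -/
theorem functor_ext {ψ ψ' : 𝒳 ⥤ᵇ ofSch Z} (h : ∀ ξ, zm ψ ξ = zm ψ' ξ) : ψ = ψ' := by
  have hobj : ∀ ξ, ψ.obj ξ = ψ'.obj ξ := by
    intro ξ
    exact obj_ext (ψ.w_obj ξ) (ψ'.w_obj ξ) (h ξ)
  have h' : ψ.toFunctor = ψ'.toFunctor := by
    refine CategoryTheory.Functor.ext hobj fun a b φ => ?_
    apply Stk.EltObj.hom_ext
    have h3 : ∀ {a b : (ofSch Z).obj} (e : a = b),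
        (eqToHom e : a ⟶ b).hom = eqToHom (congrArg (fun c => c.base) e) := by
      rintro a _ rfl
      rfl
    rw [Stk.EltObj.comp_hom, Stk.EltObj.comp_hom, h3, h3, map_hom, map_hom]
    simp
  cases ψ
  cases ψ'
  simp only at h'
  subst h'
  rfl

/-- The morphism `m.base ⟶ Z` obtained from `g : M ⟶ h_Z`. -/
noncomputable def zg (g : M ⟶ (yon S).obj Z) (m : (ofSp M).obj) : m.base ⟶ Z := (g.hom.app (op m.base) m.sec).down

theorem yon_zg (g : M ⟶ (yon S).obj Z) (m : (ofSp M).obj) : (yon S).map (zg g m) = K906.SpGeo.toMap m ≫ g := by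
  apply (J S).uliftYonedaEquiv.injective
  rw [K906.SpGeo.toMap, GrothendieckTopology.uliftYonedaEquiv_comp, Equiv.apply_symm_apply]
  change _ = g.hom.app (op m.base) m.sec
  apply ULift.ext
  change (𝟙 m.base ≫ zg g m) = _
  rw [Category.id_comp]
  rfl

theorem map_zg (g : M ⟶ (yon S).obj Z) {m' m : (ofSp M).obj} (k : m' ⟶ m) : k.hom ≫ zg g m = zg g m' := by
  apply (yon S).map_injective
  rw [Functor.map_comp, yon_zg, yon_zg, ← Category.assoc, K906.SpGeo.toMap_comp]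

theorem zm_comp (π : 𝒳 ⥤ᵇ ofSp M) (g : M ⟶ (yon S).obj Z) (ξ : 𝒳.obj) :
    zm (BasedFunctor.comp π (ofSpMap g)) ξ = eqToHom (π.w_obj ξ).symm ≫ zg g (π.obj ξ) := rfl

theorem baseOver_zg (π : 𝒳 ⥤ᵇ ofSp M) (g : M ⟶ (yon S).obj Z) {ξ : 𝒳.obj} {m : (ofSp M).obj} (α : π.obj ξ ⟶ m) :
    baseOver π ξ α ≫ zg g m = zm (BasedFunctor.comp π (ofSpMap g)) ξ := by
  rw [zm_comp, ← map_zg g α]
  unfold baseOver
  rw [Category.assoc]
  rfl

/-- `g : m.base ⟶ Z` induces `ψ` on all pairs `(ξ, π ξ ⟶ m)`. -/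
def Fac (π : 𝒳 ⥤ᵇ ofSp M) (ψ : 𝒳 ⥤ᵇ ofSch Z) (m : (ofSp M).obj) (g : m.base ⟶ Z) : Prop :=
  ∀ (ξ : 𝒳.obj) (α : π.obj ξ ⟶ m), baseOver π ξ α ≫ g = zm ψ ξ

theorem Fac.comp {π : 𝒳 ⥤ᵇ ofSp M} {ψ : 𝒳 ⥤ᵇ ofSch Z} {m : (ofSp M).obj} {g : m.base ⟶ Z} (h : Fac π ψ m g)
    {m' : (ofSp M).obj} (k : m' ⟶ m) : Fac π ψ m' (k.hom ≫ g) := by
  intro ξ α
  have h1 := h ξ (α ≫ k)
  rw [baseOver_comp, Category.assoc] at h1
  exact h1

end K864.Zm
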